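import Cfsg.Agent.QTKE.Qrc.Members

/-!
The second case of the `qrc`-lemma cannot occur.
-/

set_option autoImplicit false
set_option linter.unusedSectionVars false
set_option linter.style.haveILetI false

namespace Cfsg.Lib.Qrc

open Subgroup
open Cfsg.Lib.FFSLTwo (cj mem_cj fixA dd dd_apply dd_eq_zero phi_mul phi_one phi_inv_cancel phi_cancel_inv)
open Cfsg.Lib.FFModule (conj_mem_cj cj_mul cj_one cj_inv_cj cj_cj_inv card_cj Ctx Glob Mem mall)
open scoped commutatorElement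

universe u

variable {G : Type u} [Group G] [Finite G]

/-- an element moving `x` into fixed elements of order two by an element of odd order fixes `x` -/
theorem comm_eq_one_of_odd {x h : G} (ho : Odd (orderOf h)) (h2 : ⁅x, h⁆ ^ 2 = 1)
    (hf : Commute h ⁅x, h⁆) : ⁅x, h⁆ = 1 := by
  set c := ⁅x, h⁆ with hc
  have hstep : ∀ k : ℕ, h ^ k * x * (h ^ k)⁻¹ = c⁻¹ ^ k * x := by
    intro k
    induction k with
    | zero => simp
    | succ k ih =>
      have e : h * x * h⁻¹ = c⁻¹ * x := by rw [hc, commutatorElement_def]; group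
      rw [pow_succ' h, show h * h ^ k * x * (h * h ^ k)⁻¹ = h * (h ^ k * x * (h ^ k)⁻¹) * h⁻¹ by group, ih,
        show h * (c⁻¹ ^ k * x) * h⁻¹ = (h * c⁻¹ ^ k * h⁻¹) * (h * x * h⁻¹) by group,
        ((hf.inv_right).pow_right k).eq, mul_inv_cancel_right, e, ← mul_assoc, ← pow_succ]
  have h1 := hstep (orderOf h)
  rw [pow_orderOf_eq_one, one_mul, inv_one, mul_one] at h1
  have h3 : c⁻¹ ^ orderOf h = 1 := right_eq_mul.1 h1
  have d1 : orderOf c ∣ 2 := orderOf_dvd_of_pow_eq_one h2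
  have d2 : orderOf c ∣ orderOf h := orderOf_dvd_of_pow_eq_one (by rwa [inv_pow, inv_eq_one] at h3)
  rw [← orderOf_eq_one_iff]
  exact Nat.eq_one_of_dvd_coprimes (Nat.coprime_two_left.2 ho) d1 d2

theorem card_sup_le {X Y : Subgroup G} (h : X ≤ normalizer (Y : Set G)) :
    Nat.card ↥(X ⊔ Y) ≤ Nat.card X * Nat.card Y := by
  rw [← Nat.card_prod]
  refine Nat.card_le_card_of_surjective (fun p : X × Y => (⟨(p.1 : G) * p.2,
    mul_mem (mem_sup_left p.1.2) (mem_sup_right p.2.2)⟩ : ↥(X ⊔ Y))) fun z => ?_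
  have hz := z.2
  rw [← SetLike.mem_coe, coe_mul_of_left_le_normalizer_right X Y h] at hz
  obtain ⟨a, ha, b, hb, hab⟩ := hz
  exact ⟨(⟨a, ha⟩, ⟨b, hb⟩), Subtype.ext hab⟩

theorem le_normalizer_cent {H N : Subgroup G} (h : H ≤ normalizer (N : Set G)) :
    H ≤ normalizer (centralizer (N : Set G) : Set G) := fun a ha => mem_normalizer_of_cj (by
  rw [cj_centralizer, cj_of_mem_normalizer (h ha)])

section

variable {T : Sylow 2 G} {M₀ H K V D B : Subgroup G} (c : CaseII T M₀ H K V) (x : Exact T H V D B)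
variable {E : Type u} [AddCommGroup E] [Finite E] {φ : ↥H →* AddMonoid.End E} {π : G → E}
  (s : SecData H (nOf H V) (nOf H V ⊓ wcOf H V) φ π)
variable [Fact (Nat.Prime 2)] {q : ℕ} {M : Subgroup (↥H ⧸ φ.ker)} {T' : Sylow 2 (↥H ⧸ φ.ker)}
  (g : Glob 2 (modLift φ) q T' M)
include c x s g

theorem odd_mem_mall (h : ↥H) (ho : Odd (orderOf (h : G))) : (h : ↥H ⧸ φ.ker) ∈ mall 2 (modLift φ) q := by
  refine g.mem_mall (Nat.Coprime.coprime_dvd_left (orderOf_map_dvd (QuotientGroup.mk' φ.ker) h) ?_)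
  rw [← Subgroup.orderOf_coe]
  exact Nat.coprime_two_right.2 ho

theorem Y_mem_mall {y : G} (hy : y ∈ Cfsg.oddGenerated H) :
    (⟨y, oddGenerated_le H hy⟩ : ↥H) ∈ (mall 2 (modLift φ) q).comap (QuotientGroup.mk' φ.ker) := by
  have h : Cfsg.oddGenerated H ≤ ((mall 2 (modLift φ) q).comap (QuotientGroup.mk' φ.ker)).map H.subtype :=
    (closure_le _).2 fun a ha => ⟨⟨a, ha.1⟩, odd_mem_mall c x s g ⟨a, ha.1⟩ ha.2, rfl⟩
  obtain ⟨b, hb, hby⟩ := h hy
  rwa [show (⟨y, oddGenerated_le H hy⟩ : ↥H) = b from Subtype.ext hby.symm]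

/-- the whole join is generated by the moved and the fixed part -/
theorem W_split (hlift : ∀ A, Mem 2 (modLift φ) q A → ∃ Ã, LiftOf H V φ π A Ã) :
    wj H V ≤ nOf H V ⊔ wcOf H V := by
  classical
  obtain ⟨E₂, iE, iEf, φ₂, π₂, s₂⟩ := exists_sec (M := wcOf H V) c.W_el c.hWn c.H_wc
  have hker : φ.ker ≤ φ₂.ker := fun h hh => (s₂.ker_mem h.2).2 (x.ker_cent c s hh).2
  let ψ₂ : ↥H ⧸ φ.ker →* AddMonoid.End E₂ := QuotientGroup.lift φ.ker φ₂ hker
  have hwd : ∀ n ∈ nOf H V, ∀ n' ∈ nOf H V, π n = π n' → π₂ n = π₂ n' := by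
    intro n hn n' hn' he
    have h1 : n * n' ∈ nOf H V ⊓ wcOf H V := (s.eq_zero _ (mul_mem hn hn')).1 (by
      rw [s.map_mul n hn n' hn', he, ← two_nsmul]; exact s.char _)
    have h2 := (s₂.eq_zero _ (mul_mem (c.n_le hn) (c.n_le hn'))).2 h1.2
    rw [s₂.map_mul n (c.n_le hn) n' (c.n_le hn'), add_eq_zero_iff_eq_neg] at h2
    rw [h2, neg_eq_iff_add_eq_zero, ← two_nsmul]
    exact s₂.char _
  choose sel hsel hselπ using s.surj
  have hι : ∀ n ∈ nOf H V, π₂ (sel (π n)) = π₂ n := fun n hn => hwd _ (hsel _) n hn (hselπ _)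
  let ι : E →+ E₂ := AddMonoidHom.mk' (fun v => π₂ (sel v)) fun a b => by
    show π₂ (sel (a + b)) = π₂ (sel a) + π₂ (sel b)
    rw [← s₂.map_mul _ (c.n_le (hsel a)) _ (c.n_le (hsel b))]
    exact hwd _ (hsel _) _ (mul_mem (hsel a) (hsel b)) (by rw [s.map_mul _ (hsel a) _ (hsel b), hselπ, hselπ, hselπ])
  have hιn : ∀ n ∈ nOf H V, ι (π n) = π₂ n := hι
  have heq : ∀ k v, ψ₂ k (ι v) = ι (modLift φ k v) := by
    intro k v
    induction k using QuotientGroup.induction_on with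
    | H h =>
      obtain ⟨n, hn, rfl⟩ := s.surj v
      show φ₂ h (ι (π n)) = ι (φ h (π n))
      rw [hιn n hn, s₂.act h n (c.n_le hn), s.act h n hn, hιn _ (s.conj_L h.2 hn)]
  obtain ⟨S, hSmem, hSall, hgp⟩ := exists_genPos g
  intro w hw
  obtain ⟨v, hv⟩ := split_of_genPos ι heq hgp (Finset.Subset.refl S) (fun a ha e => by
    obtain ⟨w', hw', rfl⟩ := s₂.surj e
    obtain ⟨Ã, l⟩ := hlift a (hSmem a ha)
    have h := l.sup hw'
    rw [← SetLike.mem_coe, coe_mul_of_left_le_normalizer_right (nOf H V) (wj H V ⊓ centralizer (Ã : Set G))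
      (fun n hn => centralizer_le_normalizer _ (centralizer_le inf_le_left ((el_le_centralizer c.W_el) (c.n_le hn))))] at h
    obtain ⟨n, hn, y, hy, rfl⟩ := h
    refine ⟨π n, fun k hk => ?_⟩
    have e1 : π₂ (n * y) - ι (π n) = π₂ y := by
      rw [hιn n hn, s₂.map_mul n (c.n_le hn) y hy.1, add_sub_cancel_left]
    rw [e1]
    obtain ⟨b, hb, rfl⟩ := l.img.ge hk
    show φ₂ b (π₂ y) = π₂ y
    rw [s₂.act b y hy.1]
    congr 1
    rw [mem_centralizer_iff.1 hy.2 b (mem_subgroupOf.1 hb), mul_inv_cancel_right]) (π₂ w)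
  have hfix := mem_sSup_fix (φ₂ := ψ₂) (s := (S : Set (Subgroup (↥H ⧸ φ.ker)))) hv
  set n := sel v
  have hn : n ∈ nOf H V := hsel v
  have hyW : w * n ∈ wj H V := mul_mem hw (c.n_le hn)
  have e2 : π₂ w - ι v = π₂ (w * n) := by
    show π₂ w - π₂ n = _
    rw [s₂.map_mul w hw n (c.n_le hn), sub_eq_add_neg]
    congr 1
    rw [neg_eq_iff_add_eq_zero, ← two_nsmul]
    exact s₂.char _
  have hy : w * n ∈ wcOf H V := by
    refine ⟨hyW, le_centralizer_iff.1 ((closure_le _).2 ?_ : Cfsg.oddGenerated H ≤ centralizer (zpowers (w * n) : Set G))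
      (mem_zpowers _)⟩
    rintro h ⟨hh, ho⟩
    have h1 : ⁅w * n, h⁆ ∈ wcOf H V := by
      refine (s₂.fix_iff ⟨h, hh⟩ hyW).1 ?_
      have := hfix _ (hSall (odd_mem_mall c x s g ⟨h, hh⟩ ho))
      rwa [e2] at this
    have h2 := comm_eq_one_of_odd ho (c.W_el.2 _ h1.1)
      ((mem_centralizer_iff.1 h1.2 h (subset_closure ⟨hh, ho⟩) : _))
    refine SetLike.mem_coe.2 (mem_centralizer_iff.2 fun z hz => ?_)
    obtain ⟨k, rfl⟩ := mem_zpowers_iff.1 hz
    exact ((show Commute (w * n) h from commutatorElement_eq_one_iff_mul_comm.1 h2).zpow_left k).eq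
  rw [show w = (w * n) * n⁻¹ by group]
  exact mul_mem (mem_sup_right hy) (mem_sup_left (inv_mem hn))

theorem mall_le_img (hlift : ∀ A, Mem 2 (modLift φ) q A → ∃ Ã, LiftOf H V φ π A Ã) :
    mall 2 (modLift φ) q ≤
      ((H ⊓ centralizer (wcOf H V : Set G)).subgroupOf H).map (QuotientGroup.mk' φ.ker) :=
  sSup_le fun A hA => by
    obtain ⟨Ã, l⟩ := hlift A hA
    rw [← l.img]
    exact map_mono (comap_mono (le_inf l.le (le_centralizer_iff.1 l.wc)))

/-- elements of the Sylow subgroup in the product lift to `T ⊓ C(Wc)` -/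
theorem exists_syl_lift (hT' : (T' : Subgroup (↥H ⧸ φ.ker)) =
      (T.subtype c.hTH : Subgroup ↥H).map (QuotientGroup.mk' φ.ker))
    (hlift : ∀ A, Mem 2 (modLift φ) q A → ∃ Ã, LiftOf H V φ π A Ã) {σ : ↥H ⧸ φ.ker}
    (h1 : σ ∈ (T' : Subgroup (↥H ⧸ φ.ker))) (h2 : σ ∈ mall 2 (modLift φ) q) :
    ∃ t : ↥H, (t : G) ∈ (T : Subgroup G) ∧ (t : G) ∈ centralizer (wcOf H V : Set G) ∧
      (t : ↥H ⧸ φ.ker) = σ := by
  classical
  set mk := QuotientGroup.mk' φ.ker
  set L := (H ⊓ centralizer (wcOf H V : Set G)).subgroupOf H with hL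
  haveI : L.Normal := normal_subgroupOf_of_le_normalizer
    (fun a ha => mem_normalizer_of_cj (by
      rw [cj_inf, cj_of_mem_normalizer (le_normalizer ha), cj_of_mem_normalizer (le_normalizer_cent c.H_wc ha)]))
  obtain ⟨Q, hQ⟩ := Cfsg.Lib.FFSLTwo.card_sylow_inf (T.subtype c.hTH) L
  let f := mk.subgroupMap L
  let Q' := Q.mapSurjective (f := f) (mk.subgroupMap_surjective L)
  set S := (T' : Subgroup (↥H ⧸ φ.ker)).subgroupOf (L.map mk) with hS
  have hS2 : IsPGroup 2 S := T'.2.comap_subtype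
  have hle : (Q' : Subgroup ↥(L.map mk)) ≤ S := by
    rintro _ ⟨a, ha, rfl⟩
    rw [mem_subgroupOf, hT']
    have h3 := hQ.le (mem_map_of_mem L.subtype ha)
    exact mem_map_of_mem mk h3.1
  have heq := Q'.3 hS2 hle
  have hσ : σ ∈ L.map mk := mall_le_img c x s g hlift h2
  have h4 : (⟨σ, hσ⟩ : ↥(L.map mk)) ∈ (Q' : Subgroup ↥(L.map mk)) :=
    heq ▸ (mem_subgroupOf.2 h1 : (⟨σ, hσ⟩ : ↥(L.map mk)) ∈ S)
  obtain ⟨a, ha, hae⟩ := h4
  refine ⟨(a : ↥H), ?_, (mem_subgroupOf.1 a.2).2, congrArg Subtype.val hae⟩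
  have h5 := (hQ.le (mem_map_of_mem L.subtype ha)).1
  simpa [Sylow.coe_subtype, mem_subgroupOf] using h5

theorem no_linear (hT' : (T' : Subgroup (↥H ⧸ φ.ker)) =
      (T.subtype c.hTH : Subgroup ↥H).map (QuotientGroup.mk' φ.ker))
    (hlift : ∀ A, Mem 2 (modLift φ) q A → ∃ Ã, LiftOf H V φ π A Ã)
    (hlin : (T' : Subgroup (↥H ⧸ φ.ker)) ⊓ mall 2 (modLift φ) q ≤ sSup g.inSyl) : False := by
  set mk := QuotientGroup.mk' φ.ker
  set X := nOf H V ⊓ (V ⊔ wcOf H V)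
  set Z := H ⊓ centralizer (X : Set G)
  have hZ : sSup g.inSyl ≤ (Z.subgroupOf H).map mk := sSup_le fun A hA => by
    obtain ⟨Ã, l⟩ := hlift A hA.1
    obtain ⟨A', l', hA'T⟩ := x.lift_T c s l (hT' ▸ hA.2)
    have h1 := x.lift_centV c s g hA.1 l' hA'T
    have h2 : A' ≤ centralizer (X : Set G) := le_centralizer_iff.1 (inf_le_right.trans
      (sup_le (le_centralizer_iff.1 h1) l'.wc))
    rw [← l'.img]
    exact map_mono (comap_mono (le_inf l'.le h2))
  refine c.toSetup.F1 fun y hy => ?_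
  have hyH : y ∈ H := oddGenerated_le H hy.2
  have hyT' : mk ⟨y, hyH⟩ ∈ (T' : Subgroup (↥H ⧸ φ.ker)) := by
    rw [hT']
    exact mem_map_of_mem _ (by rw [Sylow.coe_subtype]; exact mem_subgroupOf.2 hy.1)
  obtain ⟨z, hz, hze⟩ := hZ (hlin ⟨hyT', Y_mem_mall c x s g hy.2⟩)
  have hk : z⁻¹ * ⟨y, hyH⟩ ∈ φ.ker := QuotientGroup.eq.1 hze
  have hyX : y ∈ centralizer (X : Set G) := by
    have h1 : ((z⁻¹ * ⟨y, hyH⟩ : ↥H) : G) ∈ centralizer (X : Set G) :=
      centralizer_le inf_le_left (x.ker_cent c s hk).1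
    have h2 := mul_mem (mem_subgroupOf.1 hz).2 h1
    push_cast at h2
    rwa [mul_inv_cancel_left] at h2
  refine mem_centralizer_iff.2 fun v hv => ?_
  have h := W_split c x s g hlift (le_wj H V hv)
  rw [← SetLike.mem_coe, coe_mul_of_left_le_normalizer_right (nOf H V) (wcOf H V)
    (fun n hn => centralizer_le_normalizer _ (centralizer_le inf_le_left ((el_le_centralizer c.W_el) (c.n_le hn))))] at h
  obtain ⟨n, hn, w, hw, rfl⟩ := h
  have hnX : n ∈ X := ⟨hn, by simpa using mul_mem (mem_sup_left hv : n * w ∈ V ⊔ wcOf H V) (inv_mem (mem_sup_right hw))⟩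
  have e1 : Commute n y := mem_centralizer_iff.1 hyX n hnX
  have e2 : Commute w y := (mem_centralizer_iff.1 hw.2 y hy.2).symm
  exact e1.mul_left e2

theorem inf_bot_of_two (hq : q = 2) (hlift : ∀ A, Mem 2 (modLift φ) q A → ∃ Ã, LiftOf H V φ π A Ã) :
    nOf H V ⊓ wcOf H V = ⊥ := by
  classical
  set N := nOf H V with hN
  set mk := QuotientGroup.mk' φ.ker
  obtain ⟨S, hSmem, hSall, hgp⟩ := exists_genPos g
  choose! L hL using hlift
  have hcomm : ∀ a ∈ S, ⁅N, L a⁆ ≤ N ∧ Nat.card ↥⁅N, L a⁆ ≤ 2 := by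
    intro a ha
    have l := hL a (hSmem a ha)
    have hle : ⁅N, L a⁆ ≤ N := commutator_le_left_of_normalize (l.le.trans c.H_n)
    refine ⟨hle, ?_⟩
    have hone : ∀ b (hb : b ∈ L a), (⟨b, l.le hb⟩ : ↥H) ∈ φ.ker → ∀ n ∈ N, ⁅n, b⁆ = 1 := fun b hb hk n hn =>
      commutatorElement_eq_one_iff_mul_comm.2 (mem_centralizer_iff.1 (x.ker_cent c s hk).1 n hn)
    have hcard : Nat.card a = 2 := (hSmem a ha).card.trans hq
    have htwo : ∀ b (hb : b ∈ L a) b₀ (hb₀ : b₀ ∈ L a), (⟨b, l.le hb⟩ : ↥H) ∉ φ.ker →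
        (⟨b₀, l.le hb₀⟩ : ↥H) ∉ φ.ker → ∀ n ∈ N, ⁅n, b⁆ = ⁅n, b₀⁆ := by
      intro b hb b₀ hb₀ hk hk₀ n hn
      have m1 : mk ⟨b, l.le hb⟩ ∈ a := l.img.le (mem_map_of_mem _ (mem_subgroupOf.2 hb))
      have m2 : mk ⟨b₀, l.le hb₀⟩ ∈ a := l.img.le (mem_map_of_mem _ (mem_subgroupOf.2 hb₀))
      obtain ⟨u, v, huv, huniv⟩ := Nat.card_eq_two_iff.1 hcard
      have hne : ∀ z : ↥a, z ≠ 1 → ∀ z' : ↥a, z' ≠ 1 → z = z' := by
        intro z hz z' hz'
        have k1 : ∀ z : ↥a, z = u ∨ z = v := fun z => by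
          have := huniv.ge (Set.mem_univ z)
          simpa using this
        rcases k1 1 with h1 | h1 <;> rcases k1 z with h | h <;> rcases k1 z' with h' | h' <;> simp_all
      have e := hne ⟨_, m1⟩ (fun h => hk ((QuotientGroup.eq_one_iff _).1 (congrArg Subtype.val h)))
        ⟨_, m2⟩ (fun h => hk₀ ((QuotientGroup.eq_one_iff _).1 (congrArg Subtype.val h)))
      have hkk : (⟨b₀, l.le hb₀⟩⁻¹ * ⟨b, l.le hb⟩ : ↥H) ∈ φ.ker :=
        QuotientGroup.eq.1 (congrArg Subtype.val e).symm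
      have h3 : Commute n (b₀⁻¹ * b) := by
        have := mem_centralizer_iff.1 (x.ker_cent c s hkk).1 n hn
        push_cast at this
        exact this
      calc ⁅n, b⁆ = n * (b₀ * (b₀⁻¹ * b)) * n⁻¹ * (b₀ * (b₀⁻¹ * b))⁻¹ := by rw [commutatorElement_def]; group
        _ = n * b₀ * ((b₀⁻¹ * b) * n⁻¹) * (b₀ * (b₀⁻¹ * b))⁻¹ := by group
        _ = n * b₀ * (n⁻¹ * (b₀⁻¹ * b)) * (b₀ * (b₀⁻¹ * b))⁻¹ := by rw [(h3.inv_left).eq]
        _ = ⁅n, b₀⁆ := by rw [commutatorElement_def]; group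
    by_cases hall : ∀ n ∈ N, n ∈ centralizer (L a : Set G)
    · rw [commutator_eq_bot_iff_le_centralizer.2 hall, Subgroup.card_bot]; norm_num
    push Not at hall
    obtain ⟨n₀, hn₀, hn₀'⟩ := hall
    obtain ⟨b₀, hb₀, hb₀'⟩ : ∃ b₀ ∈ L a, ⁅n₀, b₀⁆ ≠ 1 := by
      by_contra hcon
      push Not at hcon
      exact hn₀' (mem_centralizer_iff.2 fun b hb => (commutatorElement_eq_one_iff_mul_comm.1 (hcon b hb)).symm)
    have hk₀ : (⟨b₀, l.le hb₀⟩ : ↥H) ∉ φ.ker := fun hk => hb₀' (hone b₀ hb₀ hk n₀ hn₀)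
    have hc2 : ⁅n₀, b₀⁆ ^ 2 = 1 := c.W_el.2 _ (c.n_le (hle (commutator_mem_commutator hn₀ hb₀)))
    have hidx : (fixA (modLift φ) a).index = 2 := (g.ff.index (hSmem a ha)).trans hq
    have hgen : ⁅N, L a⁆ ≤ zpowers ⁅n₀, b₀⁆ := commutator_le.2 fun n hn b hb => by
      by_cases hk : (⟨b, l.le hb⟩ : ↥H) ∈ φ.ker
      · rw [hone b hb hk n hn]; exact one_mem _
      rw [htwo b hb b₀ hb₀ hk hk₀ n hn]
      by_cases hnc : n ∈ centralizer (L a : Set G)
      · rw [commutatorElement_eq_one_iff_mul_comm.2 (mem_centralizer_iff.1 hnc b₀ hb₀).symm]; exact one_mem _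
      have h1 : π n ∉ fixA (modLift φ) a := fun h => hnc (l.fix n hn h)
      have h2 : π n₀ ∉ fixA (modLift φ) a := fun h => hn₀' (l.fix n₀ hn₀ h)
      have h3 : n * n₀ ∈ centralizer (L a : Set G) := l.fix _ (mul_mem hn hn₀) (by
        rw [s.map_mul n hn n₀ hn₀, AddSubgroup.add_mem_iff_of_index_two hidx]
        exact iff_of_false h1 h2)
      have h4 : Commute (n * n₀) b₀ := (mem_centralizer_iff.1 h3 b₀ hb₀).symm
      have h5 : ⁅n, b₀⁆ = (n * ⁅n₀, b₀⁆ * n⁻¹)⁻¹ := by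
        rw [eq_inv_iff_mul_eq_one]
        have : n * ⁅n₀, b₀⁆ * n⁻¹ * ⁅n, b₀⁆ = 1 := by
          rw [← commutatorElement_eq_one_iff_mul_comm.2 h4.eq]; simp only [commutatorElement_def]; group
        exact mul_eq_one_iff_eq_inv.2 (eq_inv_of_mul_eq_one_right this)
      rw [h5, Cfsg.Lib.ElemToolkit.comm_of c.W_el.1 (c.n_le hn)
        (c.n_le (hle (commutator_mem_commutator hn₀ hb₀))), mul_inv_cancel_right]
      exact inv_mem (mem_zpowers _)
    refine (Subgroup.card_le_of_le hgen).trans ?_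
    rw [Nat.card_zpowers]
    exact Nat.le_of_dvd two_pos (orderOf_dvd_of_pow_eq_one hc2)
  set M1 := S.sup (fun a => ⁅N, L a⁆) with hM1
  have hM1N : M1 ≤ N := Finset.sup_le fun a ha => (hcomm a ha).1
  have hM1card : Nat.card ↥M1 ≤ 2 ^ S.card := by
    have : ∀ R ⊆ S, Nat.card ↥(R.sup fun a => ⁅N, L a⁆) ≤ 2 ^ R.card := by
      intro R
      induction R using Finset.induction_on with
      | empty => intro _; simp
      | @insert a R haR ih =>
        intro hR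
        rw [Finset.sup_insert, Finset.card_insert_of_notMem haR, pow_succ']
        refine le_trans (card_sup_le fun z hz => centralizer_le_normalizer _ ?_)
          (Nat.mul_le_mul (hcomm a (hR (Finset.mem_insert_self a R))).2 (ih ((Finset.subset_insert a R).trans hR)))
        exact centralizer_le (Finset.sup_le (f := fun a => ⁅N, L a⁆) fun b hb =>
          (hcomm b (hR (Finset.mem_insert_of_mem hb))).1.trans c.n_le)
          ((el_le_centralizer c.W_el) (c.n_le ((hcomm a (hR (Finset.mem_insert_self a R))).1 hz)))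
    exact this S (Finset.Subset.refl S)
  let Z0 : Subgroup G :=
    { carrier := {h | h ∈ H ∧ h ∈ normalizer (M1 : Set G) ∧ ∀ n ∈ N, ⁅n, h⁆ ∈ M1}
      one_mem' := ⟨one_mem _, one_mem _, fun n _ => by rw [commutatorElement_one_right]; exact one_mem _⟩
      mul_mem' := fun {a b} ha hb => ⟨mul_mem ha.1 hb.1, mul_mem ha.2.1 hb.2.1, fun n hn => by
        rw [show ⁅n, a * b⁆ = ⁅n, a⁆ * (a * ⁅n, b⁆ * a⁻¹) by simp only [commutatorElement_def]; group]
        exact mul_mem (ha.2.2 n hn) ((mem_normalizer_iff.1 ha.2.1 _).1 (hb.2.2 n hn))⟩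
      inv_mem' := fun {a} ha => ⟨inv_mem ha.1, inv_mem ha.2.1, fun n hn => by
        rw [show ⁅n, a⁻¹⁆ = a⁻¹ * ⁅n, a⁆⁻¹ * a⁻¹⁻¹ by simp only [commutatorElement_def]; group]
        exact (mem_normalizer_iff.1 (inv_mem ha.2.1) _).1 (inv_mem (ha.2.2 n hn))⟩ }
  have hmemZ : ∀ h ∈ H, (∀ n ∈ N, ⁅n, h⁆ ∈ M1) → h ∈ Z0 := fun h hh hc => ⟨hh, mem_normalizer_of_cj
    (eq_of_le_of_card_ge (by
      rintro _ ⟨m, hm, rfl⟩
      show h * m * h⁻¹ ∈ M1
      rw [show h * m * h⁻¹ = ⁅m, h⁆⁻¹ * m by rw [commutatorElement_def]; group]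
      exact mul_mem (inv_mem (hc m (hM1N hm))) hm) (card_cj h M1).ge), hc⟩
  have hZ : sSup (S : Set (Subgroup (↥H ⧸ φ.ker))) ≤ (Z0.subgroupOf H).map mk := sSup_le fun a ha => by
    have l := hL a (hSmem a ha)
    rw [← l.img]
    refine map_mono (comap_mono fun b hb => hmemZ b (l.le hb) fun n hn => ?_)
    exact (Finset.le_sup (f := fun a => ⁅N, L a⁆) ha) (commutator_mem_commutator hn hb)
  have hY : Cfsg.oddGenerated H ≤ Z0 := (closure_le _).2 fun h ⟨hh, ho⟩ => by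
    obtain ⟨z, hz, hze⟩ := hZ (hSall (odd_mem_mall c x s g ⟨h, hh⟩ ho))
    have hk : z⁻¹ * ⟨h, hh⟩ ∈ φ.ker := QuotientGroup.eq.1 hze
    have hk' : ((z⁻¹ * ⟨h, hh⟩ : ↥H) : G) ∈ Z0 := hmemZ _ (z⁻¹ * ⟨h, hh⟩ : ↥H).2 fun n hn => by
      rw [commutatorElement_eq_one_iff_mul_comm.2 (mem_centralizer_iff.1 (x.ker_cent c s hk).1 n hn)]
      exact one_mem _
    have h2 := mul_mem (mem_subgroupOf.1 hz) hk'
    push_cast at h2
    rwa [mul_inv_cancel_left] at h2
  have hNM : N ≤ M1 := x.hperf.trans (commutator_le.2 fun n hn y hy => (hY hy).2.2 n hn)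
  have hE : (⊥ : AddSubgroup E).index = 2 ^ S.card := by
    rw [← show fixA (modLift φ) (sSup (S : Set (Subgroup (↥H ⧸ φ.ker)))) = ⊥ from eq_bot_iff.2 fun v hv =>
      AddSubgroup.mem_bot.2 (g.fix_mall (Cfsg.Lib.FFModule.fixA_anti hSall hv))]
    rw [index_fix_eq (fun a ha => g.ff.index (hSmem a ha)) hgp (Finset.Subset.refl S), hq]
  have hpre : s.pre ⊥ = N ⊓ wcOf H V := by
    ext n
    rw [SecData.mem_pre]
    exact ⟨fun h => (s.eq_zero n h.1).1 (AddSubgroup.mem_bot.1 h.2),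
      fun h => ⟨h.1, AddSubgroup.mem_bot.2 ((s.eq_zero n h.1).2 h)⟩⟩
  have h6 := relIndex_mul_card (inf_le_left : N ⊓ wcOf H V ≤ N)
  rw [← hpre, s.relIndex_pre, hE, hpre] at h6
  have h7 : Nat.card N ≤ 2 ^ S.card := (Subgroup.card_le_of_le hNM).trans hM1card
  refine eq_bot_of_card_le _ (Nat.le_of_mul_le_mul_left ?_ (pow_pos two_pos S.card))
  rw [h6, mul_one]
  exact h7

theorem no_small (hT' : (T' : Subgroup (↥H ⧸ φ.ker)) =
      (T.subtype c.hTH : Subgroup ↥H).map (QuotientGroup.mk' φ.ker))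
    (hlift : ∀ A, Mem 2 (modLift φ) q A → ∃ Ã, LiftOf H V φ π A Ã) (hq : q = 2)
    (halt : ∀ X : AddSubgroup E, (∀ k ∈ (T' : Subgroup (↥H ⧸ φ.ker)), ∀ v ∈ X, modLift φ k v ∈ X) →
      (∀ k ∈ (T' : Subgroup (↥H ⧸ φ.ker)) ⊓ mall 2 (modLift φ) q, ∀ v ∈ X, modLift φ k v = v) ∨
      ∃ σ ∈ (T' : Subgroup (↥H ⧸ φ.ker)) ⊓ mall 2 (modLift φ) q, σ * σ = 1 ∧
        (∃ v ∈ X, modLift φ σ v ≠ v) ∧
        ∀ v ∈ X, ∀ v' ∈ X, modLift φ σ v ≠ v → modLift φ σ v' ≠ v' → modLift φ σ (v + v') = v + v') : False := by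
  set N := nOf H V with hN
  set W := wj H V with hW
  set X := N ⊓ (V ⊔ wcOf H V) with hX
  have hbot := inf_bot_of_two c x s g hq hlift
  have hsplit := W_split c x s g hlift
  have hVX : ∀ v ∈ V, ∃ n ∈ X, ∃ w ∈ wcOf H V, n * w = v := by
    intro v hv
    have h := hsplit (le_wj H V hv)
    rw [← SetLike.mem_coe, coe_mul_of_left_le_normalizer_right (nOf H V) (wcOf H V)
      (fun n hn => centralizer_le_normalizer _ (centralizer_le inf_le_left ((el_le_centralizer c.W_el) (c.n_le hn))))] at h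
    obtain ⟨n, hn, w, hw, rfl⟩ := h
    exact ⟨n, ⟨hn, by simpa using mul_mem (mem_sup_left hv : n * w ∈ V ⊔ wcOf H V) (inv_mem (mem_sup_right hw))⟩,
      w, hw, rfl⟩
  have hfix : ∀ (h : ↥H) {n : G}, n ∈ N → modLift φ (h : ↥H ⧸ φ.ker) (π n) = π n → Commute n (h : G) := by
    intro h n hn he
    rw [modLift_mk, s.fix_iff h hn, hbot, mem_bot] at he
    exact commutatorElement_eq_one_iff_mul_comm.1 he
  let U : AddSubgroup E :=
    { carrier := {v | ∃ n ∈ X, π n = v}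
      zero_mem' := ⟨1, one_mem _, s.map_one⟩
      add_mem' := by
        rintro _ _ ⟨n, hn, rfl⟩ ⟨m, hm, rfl⟩
        exact ⟨n * m, mul_mem hn hm, s.map_mul n hn.1 m hm.1⟩
      neg_mem' := by
        rintro _ ⟨n, hn, rfl⟩
        refine ⟨n, hn, ?_⟩
        rw [eq_neg_iff_add_eq_zero, ← two_nsmul]
        exact s.char _ }
  have hU : ∀ k ∈ (T' : Subgroup (↥H ⧸ φ.ker)), ∀ v ∈ U, modLift φ k v ∈ U := by
    intro k hk v hv
    rw [hT'] at hk
    obtain ⟨h, hh, rfl⟩ := hk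
    obtain ⟨n, hn, rfl⟩ := hv
    have hT : (h : G) ∈ (T : Subgroup G) := by simpa [Sylow.coe_subtype, mem_subgroupOf] using hh
    refine ⟨(h : G) * n * (h : G)⁻¹, ?_, (s.act h n hn.1).symm⟩
    have hn' : (h : G) ∈ normalizer (X : Set G) := mem_normalizer_of_cj (by
      rw [hX, cj_inf, Cfsg.Lib.FFModule.cj_sup, cj_of_mem_normalizer (c.H_n h.2),
        cj_of_mem_normalizer (c.hMV (c.hTM hT)), cj_of_mem_normalizer (c.H_wc h.2)])
    exact (mem_normalizer_iff.1 hn' n).1 hn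
  rcases halt U hU with hall | ⟨σ, hσ, hσ2, ⟨_, ⟨n₀, hn₀, rfl⟩, hmove⟩, hpair⟩
  · refine c.toSetup.F1 fun y hy => mem_centralizer_iff.2 fun v hv => ?_
    obtain ⟨n, hn, w, hw, rfl⟩ := hVX v hv
    have hyH : y ∈ H := oddGenerated_le H hy.2
    have h1 := hfix ⟨y, hyH⟩ hn.1 (hall _ ⟨by
      rw [hT']
      exact mem_map_of_mem _ (by rw [Sylow.coe_subtype]; exact mem_subgroupOf.2 hy.1),
      Y_mem_mall c x s g hy.2⟩ _ ⟨n, hn, rfl⟩)
    have e2 : Commute w y := (mem_centralizer_iff.1 hw.2 y hy.2).symm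
    exact h1.mul_left e2
  · obtain ⟨t, htT, htW, rfl⟩ := exists_syl_lift c x s g hT' hlift hσ.1 hσ.2
    have htN : (t : G) ∈ normalizer (V : Set G) := c.hMV (c.hTM htT)
    have hcW : ∀ {w : G}, w ∈ wcOf H V → Commute w (t : G) := fun hw => mem_centralizer_iff.1 htW _ hw
    have ht2 : ∀ z ∈ W, Commute z ((t : G) * t) := by
      intro z hz
      have hk : t * t ∈ φ.ker := (QuotientGroup.eq_one_iff _).1 hσ2
      have h := hsplit hz
      rw [← SetLike.mem_coe, coe_mul_of_left_le_normalizer_right (nOf H V) (wcOf H V)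
        (fun n hn => centralizer_le_normalizer _ (centralizer_le inf_le_left ((el_le_centralizer c.W_el) (c.n_le hn))))] at h
      obtain ⟨n, hn, w, hw, rfl⟩ := h
      have h1 : Commute n ((t : G) * t) := mem_centralizer_iff.1 (x.ker_cent c s hk).1 n hn
      exact h1.mul_left ((hcW hw).mul_right (hcW hw))
    set Bt := zpowers (t : G)
    have hne : ¬ Bt ≤ centralizer (V : Set G) := by
      intro hle
      refine hmove ?_
      rw [modLift_mk, s.fix_iff t hn₀.1]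
      have h1 : zpowers n₀ ≤ centralizer (Bt : Set G) := zpowers_le.2 ((sup_le (le_centralizer_iff.1 hle)
        (le_centralizer_iff.1 (zpowers_le.2 htW))) hn₀.2)
      rw [commutatorElement_eq_one_iff_mul_comm.2
        (mem_centralizer_iff.1 (h1 (mem_zpowers _)) t (mem_zpowers _)).symm]
      exact one_mem _
    have hact : ∀ v ∈ V, ∀ b ∈ Bt, b * b ∈ centralizer (V : Set G) ∧ ∀ b' ∈ Bt, Commute ⁅v, b⁆ b' := by
      intro v hv b hb
      obtain ⟨k, rfl⟩ := mem_zpowers_iff.1 hb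
      have hvW : v ∈ W := le_wj H V hv
      obtain ⟨n, hn, w, hw, hnw⟩ := hVX v hv
      have hcN : ⁅v, (t : G)⁆ = ⁅n, (t : G)⁆ := by
        rw [← hnw, show ⁅n * w, (t : G)⁆ = n * ⁅w, (t : G)⁆ * n⁻¹ * ⁅n, (t : G)⁆ by
          simp only [commutatorElement_def]; group,
          commutatorElement_eq_one_iff_mul_comm.2 (hcW hw).eq, mul_one, mul_inv_cancel, one_mul]
      have hcm : ⁅v, (t : G)⁆ ∈ W := hcN ▸ c.n_le
        (commutator_le_left_of_normalize c.H_n (commutator_mem_commutator hn.1 t.2))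
      have hct : Commute ⁅v, (t : G)⁆ (t : G) := by
        have hnW : n ∈ W := c.n_le hn.1
        have hnn : n * n = 1 := by rw [← pow_two]; exact c.W_el.2 n hnW
        have htn : (t : G) * n * (t : G)⁻¹ ∈ W := c.n_le (s.conj_L t.2 hn.1)
        have e1 : (t : G) * ((t : G) * n * (t : G)⁻¹) * (t : G)⁻¹ = n := by
          rw [show (t : G) * ((t : G) * n * (t : G)⁻¹) * (t : G)⁻¹ = ((t : G) * t) * n * ((t : G) * t)⁻¹ by group,
            ← (ht2 n hnW).eq, mul_inv_cancel_right]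
        have e2 : ⁅n, (t : G)⁆ = n * ((t : G) * n * (t : G)⁻¹) := by
          rw [commutatorElement_def, inv_eq_of_mul_eq_one_right hnn]; group
        rw [hcN, e2]
        refine Commute.symm (eq_mul_inv_iff_mul_eq.1 ?_).symm
        calc n * ((t : G) * n * (t : G)⁻¹) = ((t : G) * n * (t : G)⁻¹) * n :=
              Cfsg.Lib.ElemToolkit.comm_of c.W_el.1 hnW htn
          _ = ((t : G) * n * (t : G)⁻¹) * ((t : G) * ((t : G) * n * (t : G)⁻¹) * (t : G)⁻¹) := by rw [e1]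
          _ = (t : G) * (n * ((t : G) * n * (t : G)⁻¹)) * (t : G)⁻¹ := by group
      refine ⟨mem_centralizer_iff.2 fun z hz => ?_, fun b' hb' => ?_⟩
      · rw [← ((Commute.refl (t : G)).mul_zpow k)]
        exact (ht2 z (le_wj H V hz)).zpow_right k
      · obtain ⟨l, rfl⟩ := mem_zpowers_iff.1 hb'
        refine Commute.zpow_right ?_ l
        obtain ⟨j, rfl | rfl⟩ := Int.even_or_odd' k
        · rw [zpow_mul, zpow_two, commutatorElement_eq_one_iff_mul_comm.2 ((ht2 v hvW).zpow_right j).eq]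
          exact Commute.one_left _
        · set u := ((t : G) * t) ^ j with hu
          have e3 : (t : G) ^ (2 * j + 1) = u * t := by rw [zpow_add_one, zpow_mul, zpow_two]
          rw [e3, show ⁅v, u * (t : G)⁆ = ⁅v, u⁆ * (u * ⁅v, (t : G)⁆ * u⁻¹) by
            simp only [commutatorElement_def]; group,
            commutatorElement_eq_one_iff_mul_comm.2 ((ht2 v hvW).zpow_right j).eq, one_mul,
            ← ((ht2 _ hcm).zpow_right j).eq, mul_inv_cancel_right]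
          exact hct
    refine c.hn3 ⟨Bt, (zpowers_le.2 htT).trans c.hTM, ⟨hne, fun b hb => ?_, fun b hb b' hb' => ?_⟩, ?_, ?_⟩
    · rw [pow_two]
      exact (hact 1 (one_mem V) b hb).1
    · obtain ⟨i, rfl⟩ := mem_zpowers_iff.1 hb
      obtain ⟨j, rfl⟩ := mem_zpowers_iff.1 hb'
      rw [((Commute.refl (t : G)).zpow_zpow i j).eq, mul_inv_cancel_right, mul_inv_cancel]
      exact one_mem _
    · rw [commutator_eq_bot_iff_le_centralizer]
      exact commutator_le.2 fun v hv b hb => mem_centralizer_iff.2 fun b' hb' => ((hact v hv b hb).2 b' hb').symm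
    · rw [inf_relIndex_left]
      refine le_trans (relIndex_le_two fun v hv v' hv' hnv hnv' => ?_) ?_
      · obtain ⟨n, hn, w, hw, rfl⟩ := hVX v hv
        obtain ⟨n', hn', w', hw', rfl⟩ := hVX v' hv'
        have hmv : ∀ {n w : G}, n ∈ X → w ∈ wcOf H V → n * w ∉ centralizer (Bt : Set G) →
            modLift φ (t : ↥H ⧸ φ.ker) (π n) ≠ π n := fun {n w} hn hw h he => h (mem_centralizer_iff.2 fun b hb => by
          obtain ⟨l, rfl⟩ := mem_zpowers_iff.1 hb
          exact (((hfix t hn.1 he).mul_left (hcW hw)).zpow_right l).symm.eq)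
        have h := hpair _ ⟨n, hn, rfl⟩ _ ⟨n', hn', rfl⟩ (hmv hn hw hnv) (hmv hn' hw' hnv')
        rw [← s.map_mul n hn.1 n' hn'.1] at h
        have h1 := (hfix t (mul_mem hn.1 hn'.1) h).mul_left ((hcW hw).mul_left (hcW hw'))
        refine mem_centralizer_iff.2 fun b hb => ?_
        obtain ⟨l, rfl⟩ := mem_zpowers_iff.1 hb
        have e : n * w * (n' * w') = n * n' * (w * w') := by
          rw [show n * w * (n' * w') = n * (w * n') * w' by group,
            Cfsg.Lib.ElemToolkit.comm_of c.W_el.1 hw.1 (c.n_le hn'.1)]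
          group
        rw [e]
        exact (h1.zpow_right l).symm.eq
      · have h2 : 2 ≤ (centralizer (V : Set G)).relIndex Bt := by
          have h3 : (centralizer (V : Set G)).relIndex Bt ≠ 0 := FiniteIndex.index_ne_zero
          have h4 : (centralizer (V : Set G)).relIndex Bt ≠ 1 := fun h => hne (relIndex_eq_one.1 h)
          omega
        exact h2.trans (Nat.le_self_pow two_ne_zero _)

end

theorem CaseII.absurd {T : Sylow 2 G} {M₀ H K V : Subgroup G} (c : CaseII T M₀ H K V) {g : G}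
    (p : PrePair T H V g) (hne : ¬ cj g (wj H V) ≤ Cfsg.pCoreOf 2 H) : False := by
  haveI : Fact (Nat.Prime 2) := ⟨Nat.prime_two⟩
  have x := c.exists_exact p hne
  obtain ⟨E, iE, iEf, φ, π, s⟩ := exists_sec (L := nOf H V) (M := nOf H V ⊓ wcOf H V) (c.sub_el c.n_le) c.H_n
    (fun h hh => mem_normalizer_of_cj (by
      rw [cj_inf, cj_of_mem_normalizer (c.H_n hh), cj_of_mem_normalizer (c.H_wc hh)]))
  obtain ⟨q, M, gl, A, Ã, hA, l⟩ := x.exists_glob c s
  have hlift : ∀ A, Mem 2 (modLift φ) q A → ∃ Ã, LiftOf H V φ π A Ã := fun A' hA' => x.exists_lift c s gl hA l hA'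
  rcases syl_mall gl with hlin | ⟨hq, halt⟩
  · exact no_linear c x s gl rfl hlift hlin
  · exact no_small c x s gl rfl hlift hq halt

theorem Setup.conclusion {T : Sylow 2 G} {M₀ H K V : Subgroup G} (d : Setup T M₀ H K V) :
    ¬ V ≤ Cfsg.pCoreOf 2 H ∧ Cfsg.CubicParamLE M₀ V 2 := by
  by_cases hVQ : V ≤ Cfsg.pCoreOf 2 H
  · obtain ⟨c, g, h1, h2, h3⟩ := d.exists_critical hVQ
    exact (c.absurd ⟨h1, h2⟩ h3).elim
  · exact ⟨hVQ, d.caseI hVQ⟩

end Cfsg.Lib.Qrc
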