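import Cfsg.Agent.QTKE.Qrc.Path
import Cfsg.Agent.PLocal.FFModule.Module
import Cfsg.Agent.PLocal.FFModule.Offender

/-!
Sections of the join of the conjugates of `V` as modules; no over-offenders on moved sections.
-/

set_option autoImplicit false
set_option linter.unusedSectionVars false
set_option linter.style.haveILetI false

namespace Cfsg.Lib.Qrc

open Subgroup
open Cfsg.Lib.FFSLTwo (cj mem_cj fixA dd dd_apply dd_eq_zero phi_mul phi_one phi_inv_cancel phi_cancel_inv)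
open Cfsg.Lib.FFModule (conj_mem_cj cj_mul cj_one cj_inv_cj cj_cj_inv card_cj Ctx Glob Least Mem)
open scoped commutatorElement

universe u

/-! ### offenders are exact -/

section Module

variable {P : Type*} [Group P] [Finite P] {E : Type*} [AddCommGroup E] [Finite E]
variable {p : ℕ} [Fact p.Prime] {φ : P →* AddMonoid.End E}

theorem exists_glob (hc : Ctx p φ) (S : Sylow p P) {D : Subgroup P} (hD : D ≠ ⊥)
    (hel : Cfsg.IsElementaryAbelian p D) (hoff : (fixA φ D).index ≤ Nat.card D) :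
    ∃ (q : ℕ) (M : Subgroup P), Glob p φ q S M := by
  obtain ⟨Y, ⟨hY, hYel, hYoff⟩, hmin⟩ := Set.exists_min_image
    {Y : Subgroup P | Y ≠ ⊥ ∧ Cfsg.IsElementaryAbelian p Y ∧ (fixA φ Y).index ≤ Nat.card Y}
    (fun Y => Nat.card Y) (Set.toFinite _) ⟨D, hD, hel, hoff⟩
  obtain ⟨-, M, ⟨hM, hSM⟩, -⟩ := hc.pmin S
  exact ⟨Nat.card Y, M, hc, ⟨Subgroup.one_lt_card_iff_ne_bot _ |>.2 hY,
    fun Z h0 hZel hZoff => hmin Z ⟨h0, hZel, hZoff⟩⟩, hM, hSM, Y, hYel, rfl, hYoff⟩

theorem offender_exact (hc : Ctx p φ) {D : Subgroup P} (hel : Cfsg.IsElementaryAbelian p D)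
    (hoff : (fixA φ D).index ≤ Nat.card D) : (fixA φ D).index = Nat.card D := by
  rcases eq_or_ne D ⊥ with rfl | hD
  · rw [Subgroup.card_bot, show fixA φ (⊥ : Subgroup P) = ⊤ from eq_top_iff.2 fun v _ a ha => by
      rw [mem_bot.1 ha]; exact phi_one v, AddSubgroup.index_top]
  obtain ⟨q, M, g⟩ := exists_glob hc (Classical.arbitrary (Sylow p P)) hD hel hoff
  exact (g.offender hel hoff).2

end Module

variable {G : Type u} [Group G] [Finite G]

theorem oddGenerated_le (H : Subgroup G) : Cfsg.oddGenerated H ≤ H := (closure_le _).2 fun _ hx => hx.1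

theorem le_normalizer_map_of_normal {H : Subgroup G} (C : Subgroup ↥H) [hC : C.Normal] :
    H ≤ normalizer (C.map H.subtype : Set G) := by
  refine Cfsg.Lib.JComp.le_normalizer_of_conj fun a ha x hx => ?_
  obtain ⟨y, hy, rfl⟩ := hx
  exact ⟨_, hC.conj_mem y hy ⟨a, ha⟩, rfl⟩

/-- the induced faithful action -/
def modLift {E : Type*} [AddCommGroup E] {H : Type*} [Group H] (φ : H →* AddMonoid.End E) :
    H ⧸ φ.ker →* AddMonoid.End E := QuotientGroup.lift φ.ker φ fun _ h => h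

theorem modLift_mk {E : Type*} [AddCommGroup E] {H : Type*} [Group H] (φ : H →* AddMonoid.End E) (h : H) :
    modLift φ (h : H ⧸ φ.ker) = φ h := rfl

theorem modLift_injective {E : Type*} [AddCommGroup E] {H : Type*} [Group H] (φ : H →* AddMonoid.End E) :
    Function.Injective (modLift φ) := by
  intro x y hxy
  induction x using QuotientGroup.induction_on with
  | H a =>
    induction y using QuotientGroup.induction_on with
    | H b =>
      rw [modLift_mk, modLift_mk] at hxy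
      refine QuotientGroup.eq.2 ?_
      show φ (a⁻¹ * b) = 1
      rw [map_mul, ← hxy, ← map_mul, inv_mul_cancel, map_one]

theorem le_normalizer_oddGenerated (H : Subgroup G) : H ≤ normalizer (Cfsg.oddGenerated H : Set G) :=
  Cfsg.Lib.JComp.le_normalizer_of_conj fun a ha x hx => by
    have h1 : Cfsg.oddGenerated H ≤ (Cfsg.oddGenerated H).comap (MulAut.conj a).toMonoidHom :=
      (closure_le _).2 fun t ht => subset_closure
      ⟨mul_mem (mul_mem ha ht.1) (inv_mem ha), by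
        show Odd (orderOf ((MulAut.conj a) t))
        rw [MulEquiv.orderOf_eq]; exact ht.2⟩
    exact h1 hx

/-- `π` presents `L / M` as a module for `H` -/
structure SecData {E : Type*} [AddCommGroup E] (H L M : Subgroup G) (φ : ↥H →* AddMonoid.End E)
    (π : G → E) : Prop where
  char : ∀ v : E, 2 • v = 0
  hLH : H ≤ normalizer (L : Set G)
  map_mul : ∀ x ∈ L, ∀ y ∈ L, π (x * y) = π x + π y
  eq_zero : ∀ x ∈ L, π x = 0 ↔ x ∈ M
  surj : ∀ e, ∃ x ∈ L, π x = e
  act : ∀ (h : H), ∀ x ∈ L, φ h (π x) = π ((h : G) * x * (h : G)⁻¹)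

theorem exists_sec {H L M : Subgroup G} (hL : Cfsg.IsElementaryAbelian 2 L) (hHL : H ≤ normalizer (L : Set G))
    (hHM : H ≤ normalizer (M : Set G)) :
    ∃ (E : Type u) (_ : AddCommGroup E) (_ : Finite E) (φ : ↥H →* AddMonoid.End E) (π : G → E),
      SecData H L M φ π := by
  classical
  haveI : Fact (Nat.Prime 2) := ⟨Nat.prime_two⟩
  obtain ⟨W, iW, iWf, φ, e, hchar, hact⟩ := Cfsg.Lib.FFModule.exists_module (G₀ := H) hL hHL
  let ι : Additive L →+ W := e.toAddMonoidHom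
  let U : AddSubgroup W := (Subgroup.toAddSubgroup (M.subgroupOf L)).map ι
  have hU : ∀ (x : G) (hx : x ∈ L), e (Additive.ofMul ⟨x, hx⟩) ∈ U ↔ x ∈ M := by
    intro x hx
    constructor
    · rintro ⟨y, hy, hye⟩
      have h1 : y = Additive.ofMul ⟨x, hx⟩ := e.injective hye
      subst h1
      exact mem_subgroupOf.1 hy
    · exact fun h => ⟨Additive.ofMul ⟨x, hx⟩, mem_subgroupOf.2 h, rfl⟩
  have hstab : ∀ h : H, U ≤ U.comap (φ h : W →+ W) := by
    rintro h _ ⟨y, hy, rfl⟩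
    show φ h (e y) ∈ U
    obtain ⟨⟨y, hyL⟩, rfl⟩ := Additive.ofMul.surjective y
    have hc : (h : G) * y * (h : G)⁻¹ ∈ L := (mem_normalizer_iff.1 (hHL h.2) y).1 hyL
    rw [hact h ⟨y, hyL⟩ hc, hU]
    exact (mem_normalizer_iff.1 (hHM h.2) y).1 (mem_subgroupOf.1 hy)
  let mk := QuotientAddGroup.mk' U
  let ψ : ↥H →* AddMonoid.End (W ⧸ U) :=
    { toFun := fun h => QuotientAddGroup.map U U (φ h : W →+ W) (hstab h)
      map_one' := DFunLike.ext (F := AddMonoid.End (W ⧸ U)) _ _ fun x => by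
        induction x using QuotientAddGroup.induction_on with
        | _ v =>
          show QuotientAddGroup.mk (φ 1 v) = QuotientAddGroup.mk v
          rw [phi_one]
      map_mul' := fun a b => DFunLike.ext (F := AddMonoid.End (W ⧸ U)) _ _ fun x => by
        induction x using QuotientAddGroup.induction_on with
        | _ v =>
          show QuotientAddGroup.mk (φ (a * b) v) = QuotientAddGroup.mk (φ a (φ b v))
          rw [phi_mul] }
  refine ⟨W ⧸ U, inferInstance, inferInstance, ψ,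
    fun x => if hx : x ∈ L then mk (e (Additive.ofMul ⟨x, hx⟩)) else 0,
    { char := fun v => ?_, hLH := hHL, map_mul := fun x hx y hy => ?_, eq_zero := fun x hx => ?_,
      surj := fun v => ?_, act := fun h x hx => ?_ }⟩
  · obtain ⟨w, rfl⟩ := QuotientAddGroup.mk'_surjective U v
    rw [← map_nsmul, hchar, map_zero]
  · rw [dif_pos hx, dif_pos hy, dif_pos (mul_mem hx hy), ← map_add, ← map_add]
    rfl
  · rw [dif_pos hx, ← hU x hx]
    exact QuotientAddGroup.eq_zero_iff _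
  · obtain ⟨w, rfl⟩ := QuotientAddGroup.mk'_surjective U v
    obtain ⟨y, rfl⟩ := e.surjective w
    obtain ⟨⟨y, hy⟩, rfl⟩ := Additive.ofMul.surjective y
    exact ⟨y, hy, dif_pos hy⟩
  · have hc : (h : G) * x * (h : G)⁻¹ ∈ L := (mem_normalizer_iff.1 (hHL h.2) x).1 hx
    rw [dif_pos hx, dif_pos hc, ← hact h ⟨x, hx⟩ hc]
    rfl

namespace SecData

variable {E : Type*} [AddCommGroup E] [Finite E] {H L M : Subgroup G} {φ : ↥H →* AddMonoid.End E} {π : G → E}
  (s : SecData H L M φ π)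
include s

theorem conj_L {h : G} (hh : h ∈ H) {x : G} (hx : x ∈ L) : h * x * h⁻¹ ∈ L :=
  (mem_normalizer_iff.1 (s.hLH hh) x).1 hx

theorem map_one : π 1 = 0 := by
  have h := s.map_mul 1 (one_mem L) 1 (one_mem L)
  rwa [one_mul, left_eq_add] at h

theorem map_inv {x : G} (hx : x ∈ L) : π x⁻¹ = π x := by
  have h := s.map_mul x hx x⁻¹ (inv_mem hx)
  rw [mul_inv_cancel, s.map_one, eq_comm, add_eq_zero_iff_eq_neg'] at h
  rw [h, neg_eq_iff_add_eq_zero, ← two_nsmul]
  exact s.char _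

theorem comm_mem {h : G} (hh : h ∈ H) {x : G} (hx : x ∈ L) : ⁅x, h⁆ ∈ L := by
  rw [show ⁅x, h⁆ = x * (h * x⁻¹ * h⁻¹) by rw [commutatorElement_def]; group]
  exact mul_mem hx (s.conj_L hh (inv_mem hx))

theorem dd_eq (h : H) {x : G} (hx : x ∈ L) : dd φ h (π x) = π ⁅x, (h : G)⁆ := by
  have hc := s.conj_L h.2 (inv_mem hx)
  rw [show ⁅x, (h : G)⁆ = x * ((h : G) * x⁻¹ * (h : G)⁻¹) by rw [commutatorElement_def]; group,
    s.map_mul x hx _ hc, ← s.act h x⁻¹ (inv_mem hx), s.map_inv hx, dd_apply, sub_eq_add_neg, add_comm]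
  congr 1
  rw [neg_eq_iff_add_eq_zero, ← two_nsmul]
  exact s.char _

theorem fix_iff (h : H) {x : G} (hx : x ∈ L) : φ h (π x) = π x ↔ ⁅x, (h : G)⁆ ∈ M := by
  rw [← dd_eq_zero, s.dd_eq h hx, s.eq_zero _ (s.comm_mem h.2 hx)]

/-- elements of `L` over a submodule -/
def pre (U : AddSubgroup E) : Subgroup G where
  carrier := {x | x ∈ L ∧ π x ∈ U}
  one_mem' := ⟨one_mem _, s.map_one.symm ▸ U.zero_mem⟩
  mul_mem' := fun {a b} ha hb => ⟨mul_mem ha.1 hb.1, by rw [s.map_mul a ha.1 b hb.1]; exact U.add_mem ha.2 hb.2⟩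
  inv_mem' := fun {a} ha => ⟨inv_mem ha.1, by rw [s.map_inv ha.1]; exact ha.2⟩

theorem mem_pre {U : AddSubgroup E} {x : G} : x ∈ s.pre U ↔ x ∈ L ∧ π x ∈ U := Iff.rfl

theorem pre_stable {U : AddSubgroup E} (hU : ∀ h : H, ∀ v ∈ U, φ h v ∈ U) :
    H ≤ normalizer (s.pre U : Set G) :=
  Cfsg.Lib.JComp.le_normalizer_of_conj fun h hh x hx =>
    ⟨s.conj_L hh hx.1, by rw [← s.act ⟨h, hh⟩ x hx.1]; exact hU _ _ hx.2⟩

theorem relIndex_pre (U : AddSubgroup E) : (s.pre U).relIndex L = U.index := by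
  let f : Additive L →+ E := AddMonoidHom.mk' (fun x => π ((Additive.toMul x : L) : G))
    fun a b => s.map_mul _ (Additive.toMul a).2 _ (Additive.toMul b).2
  have hf : Function.Surjective f := fun v => by
    obtain ⟨x, hx, he⟩ := s.surj v
    exact ⟨Additive.ofMul ⟨x, hx⟩, he⟩
  rw [← AddSubgroup.index_comap_of_surjective (H := U) hf, relIndex, ← index_toAddSubgroup]
  congr 1
  ext x
  exact ⟨fun h => h.2, fun h => ⟨(Additive.toMul x).2, h⟩⟩

theorem ker_mem {h : G} (hh : h ∈ H) : φ ⟨h, hh⟩ = 1 ↔ ∀ x ∈ L, ⁅x, h⁆ ∈ M := by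
  constructor
  · intro h1 x hx
    exact (s.fix_iff ⟨h, hh⟩ hx).1 (by rw [h1]; rfl)
  · intro h1
    refine DFunLike.ext (F := AddMonoid.End E) _ _ fun v => ?_
    obtain ⟨x, hx, rfl⟩ := s.surj v
    exact (s.fix_iff ⟨h, hh⟩ hx).2 (h1 x hx)

theorem moved_iff : ⁅L, Cfsg.oddGenerated H⁆ ≤ M ↔
    ∀ (h : H), Odd (orderOf (h : G)) → φ h = 1 := by
  constructor
  · intro hle h ho
    exact (s.ker_mem h.2).2 fun x hx => hle (commutator_mem_commutator hx (subset_closure ⟨h.2, ho⟩))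
  · intro hall
    have hY : Cfsg.oddGenerated H ≤ (φ.ker).map H.subtype :=
      (closure_le _).2 fun y hy => ⟨⟨y, hy.1⟩, hall ⟨y, hy.1⟩ hy.2, rfl⟩
    refine commutator_le.2 fun x hx y hy => ?_
    obtain ⟨k, hk, rfl⟩ := hY hy
    exact (s.ker_mem k.2).1 hk x hx

end SecData

namespace Setup

variable {T : Sylow 2 G} {M₀ H K V : Subgroup G} (d : Setup T M₀ H K V)
include d

theorem pmin : Cfsg.IsPMinimal 2 ↥H := by
  haveI : Fact (Nat.Prime 2) := ⟨Nat.prime_two⟩
  intro S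
  set T' := T.subtype d.hTH with hT'
  obtain ⟨h, hh⟩ := MulAction.exists_smul_eq H T' S
  have hS : (S : Subgroup H) = cj h (T' : Subgroup H) := by
    rw [← hh, Sylow.coe_subgroup_smul]; rfl
  have hT'm : (T' : Subgroup H).map H.subtype = (T : Subgroup G) := by
    rw [hT', Sylow.coe_subtype, subgroupOf_map_subtype, inf_eq_left.2 d.hTH]
  refine ⟨fun hn => ?_, ?_⟩
  · have hTn : (T' : Subgroup H).Normal := by
      have e : (T' : Subgroup H) = cj h⁻¹ (S : Subgroup H) := by rw [hS, cj_inv_cj]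
      rw [e]
      exact hn.map _ (MulAut.conj h⁻¹).surjective
    refine d.hKne (le_antisymm d.hKH ?_)
    have hHT : H ≤ normalizer ((T : Subgroup G) : Set G) := by
      haveI := hTn
      exact hT'm ▸ le_normalizer_map_of_normal (T' : Subgroup H)
    intro x hx
    exact d.NJ (mem_inf.2 ⟨hx, Cfsg.Lib.Thompson.normalizer_le_normalizer_thompson _ (hHT hx)⟩)
  · have hK : IsCoatom (K.subgroupOf H) ∧ (T' : Subgroup H) ≤ K.subgroupOf H := by
      refine ⟨⟨fun he => d.hKne (le_antisymm d.hKH (subgroupOf_eq_top.1 he)), fun L hL => ?_⟩, ?_⟩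
      · by_contra hne
        refine hL.not_ge fun x hx => mem_subgroupOf.2 (d.hmax (L.map H.subtype) (map_subtype_le _) ?_
          (fun he => hne ?_) (mem_map_of_mem _ hx))
        · intro t ht
          exact ⟨⟨t, d.hTH ht⟩, hL.le (mem_subgroupOf.2 (d.hTK ht)), rfl⟩
        · exact map_injective H.subtype_injective (by rw [he, ← MonoidHom.range_eq_map, Subgroup.range_subtype])
      · rw [hT', Sylow.coe_subtype]
        exact fun x hx => mem_subgroupOf.2 (d.hTK (mem_subgroupOf.1 hx))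
    have hu : ∀ L : Subgroup H, IsCoatom L → (T' : Subgroup H) ≤ L → L = K.subgroupOf H := by
      intro L hL hTL
      have hLK : L ≤ K.subgroupOf H := fun x hx => mem_subgroupOf.2 (d.hmax (L.map H.subtype) (map_subtype_le _)
        (hT'm ▸ map_mono hTL)
        (fun he => hL.1 (map_injective H.subtype_injective
          (by rw [he, ← MonoidHom.range_eq_map, Subgroup.range_subtype])))
        (mem_map_of_mem _ hx))
      rcases hLK.lt_or_eq with hlt | he
      · exact absurd (hL.2 _ hlt) hK.1.1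
      · exact he
    let e : Subgroup H ≃o Subgroup H := (MulAut.conj h).mapSubgroup
    refine ⟨e (K.subgroupOf H), ⟨(e.isCoatom_iff _).2 hK.1, hS ▸ map_mono hK.2⟩, fun L ⟨hL, hSL⟩ => ?_⟩
    have h2 : e.symm L = K.subgroupOf H := hu _ ((e.symm.isCoatom_iff _).2 hL) (by
      rw [← e.le_iff_le, e.apply_symm_apply]
      exact (hS.ge : cj h (T' : Subgroup H) ≤ S).trans hSL)
    rw [← h2, e.apply_symm_apply]

theorem odd_not_le : ¬ Cfsg.oddGenerated H ≤ K := fun hle => by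
  haveI : Fact (Nat.Prime 2) := ⟨Nat.prime_two⟩
  refine d.hKne (le_antisymm d.hKH ?_)
  conv_lhs => rw [← Cfsg.Lib.LocalCStar.residual_sup_eq (T := T) d.hTH, ← Cfsg.Lib.PushUpOrbit.oddGenerated_eq]
  exact sup_le hle d.hTK

theorem kernel_le_K {C : Subgroup G} (hCH : C ≤ H) (hn : H ≤ normalizer (C : Set G))
    (hY : ¬ Cfsg.oddGenerated H ≤ C) : C ≤ K := by
  by_contra hne
  have htop : C ⊔ (T : Subgroup G) = H := by
    by_contra hne'
    exact hne (le_sup_left.trans (d.hmax _ (sup_le hCH d.hTH) le_sup_right hne'))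
  exact hY ((closure_le _).2 fun y hy => mem_of_sup T.2 (d.hTH.trans hn) (htop.ge hy.1) hy.2)

end Setup

/-- no invariant subgroup strictly inside a section -/
def IsChief (H L M : Subgroup G) : Prop :=
  ∀ X : Subgroup G, M ≤ X → X ≤ L → H ≤ normalizer (X : Set G) → X = M ∨ X = L

namespace SecData

variable {E : Type*} [AddCommGroup E] [Finite E] {T : Sylow 2 G} {M₀ H K V L M : Subgroup G}
  {φ : ↥H →* AddMonoid.End E} {π : G → E}

theorem stable_eq (s : SecData H L M φ π) (hML : M ≤ L) (hch : IsChief H L M) {U : AddSubgroup E}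
    (hU : ∀ h : H, ∀ v ∈ U, φ h v ∈ U) : U = ⊥ ∨ U = ⊤ := by
  rcases hch (s.pre U) (fun x hx => ⟨hML hx, ((s.eq_zero x (hML hx)).2 hx).symm ▸ U.zero_mem⟩)
    (fun x hx => hx.1) (s.pre_stable hU) with h | h
  · refine Or.inl (eq_bot_iff.2 fun v hv => ?_)
    obtain ⟨x, hx, rfl⟩ := s.surj v
    exact AddSubgroup.mem_bot.2 ((s.eq_zero x hx).2 (h.le ⟨hx, hv⟩))
  · refine Or.inr (eq_top_iff.2 fun v _ => ?_)
    obtain ⟨x, hx, rfl⟩ := s.surj v
    exact (h.ge hx).2

theorem ctx (s : SecData H L M φ π) (d : Setup T M₀ H K V) (hML : M ≤ L) (hch : IsChief H L M)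
    (hmov : ¬ ⁅L, Cfsg.oddGenerated H⁆ ≤ M) : Ctx 2 (modLift φ) := by
  haveI : Fact (Nat.Prime 2) := ⟨Nat.prime_two⟩
  have hinj := modLift_injective φ
  set ψ := modLift φ with hψdef
  have hψ : ∀ h : H, ψ (QuotientGroup.mk h) = φ h := fun h => rfl
  have hmov' : ¬ ∀ (h : H), Odd (orderOf (h : G)) → φ h = 1 := fun h => hmov (s.moved_iff.2 h)
  have hirr : ∀ U : AddSubgroup E, (∀ k, ∀ v ∈ U, ψ k v ∈ U) → U = ⊥ ∨ U = ⊤ := fun U hU =>
    s.stable_eq hML hch fun h v hv => hψ h ▸ hU _ v hv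
  have hne : Nontrivial E := by
    by_contra hn
    haveI := not_nontrivial_iff_subsingleton.1 hn
    exact hmov' fun h _ => DFunLike.ext (F := AddMonoid.End E) _ _ fun _ => Subsingleton.elim _ _
  refine ⟨hinj, s.char, ?_, ?_, fun v hv => ?_, fun f hf => ?_, hne⟩
  · refine Cfsg.Lib.FFModule.isPMinimal_quotient d.pmin (T := T.subtype d.hTH) (M := K.subgroupOf H) ?_ ?_ ?_
    · refine ⟨fun he => d.hKne (le_antisymm d.hKH (subgroupOf_eq_top.1 he)), fun X hX => ?_⟩
      by_contra hne'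
      refine hX.not_ge fun x hx => mem_subgroupOf.2 (d.hmax (X.map H.subtype) (map_subtype_le _) ?_
        (fun he => hne' ?_) (mem_map_of_mem _ hx))
      · intro t ht
        exact ⟨⟨t, d.hTH ht⟩, hX.le (mem_subgroupOf.2 (d.hTK ht)), rfl⟩
      · exact map_injective H.subtype_injective (by rw [he, ← MonoidHom.range_eq_map, Subgroup.range_subtype])
    · rw [Sylow.coe_subtype]
      exact fun x hx => mem_subgroupOf.2 (d.hTK (mem_subgroupOf.1 hx))
    · intro x hx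
      refine mem_subgroupOf.2 (d.kernel_le_K (map_subtype_le φ.ker) (le_normalizer_map_of_normal φ.ker)
        (fun hle => hmov' fun h ho => ?_) ⟨x, hx, rfl⟩)
      obtain ⟨k, hk, hkh⟩ := hle (subset_closure ⟨h.2, ho⟩)
      exact Subtype.ext hkh ▸ hk
  · set N := Cfsg.pCore 2 (↥H ⧸ φ.ker)
    haveI hNn : N.Normal := Cfsg.Lib.Components.pCore_normal' 2
    have hNp : IsPGroup 2 N := Cfsg.Lib.Components.isPGroup_pCore 2
    obtain ⟨v, -, hv0, hv⟩ := Cfsg.Lib.FFModule.exists_fix_mem (φ := ψ) s.char hNp (⊤ : AddSubgroup E)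
      (fun _ _ _ _ => AddSubgroup.mem_top _) top_ne_bot
    rcases hirr (fixA ψ N) (fun k w hw => Cfsg.Lib.FFModule.fix_normal_stable hNn k hw) with h | h
    · exact absurd (AddSubgroup.mem_bot.1 (h ▸ hv)) hv0
    · refine (eq_bot_iff_forall _).2 fun k hk => hinj (DFunLike.ext (F := AddMonoid.End E) _ _ fun w => ?_)
      rw [phi_one]
      exact (h.ge (AddSubgroup.mem_top w)) k hk
  · rcases hirr (fixA ψ ⊤) (fun k w hw => Cfsg.Lib.FFModule.fix_normal_stable normal_top k hw) with h | h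
    · exact AddSubgroup.mem_bot.1 (h ▸ hv)
    · refine absurd (fun x _ => DFunLike.ext (F := AddMonoid.End E) _ _ fun w => ?_) hmov'
      rw [← hψ]
      exact (h.ge (AddSubgroup.mem_top w)) _ (mem_top _)
  · have h1 := Cfsg.Lib.FFModule.dual_fix_iff.1 hf
    rcases hirr (Cfsg.Lib.FFModule.img ψ ⊤) (fun k w hw => Cfsg.Lib.FFModule.img_stable (mem_top k) hw) with h | h
    · refine absurd (fun x _ => DFunLike.ext (F := AddMonoid.End E) _ _ fun w => ?_) hmov'
      have h2 : dd ψ (QuotientGroup.mk x) w ∈ Cfsg.Lib.FFModule.img ψ ⊤ :=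
        Cfsg.Lib.FFModule.dd_mem_img (mem_top _) w
      rw [h, AddSubgroup.mem_bot, dd_eq_zero, hψ] at h2
      exact h2
    · refine AddMonoidHom.ext fun w => ?_
      have h3 : Cfsg.Lib.FFModule.img ψ ⊤ ≤ f.ker := by
        refine (AddSubgroup.closure_le _).2 ?_
        rintro _ ⟨k, hk, v, rfl⟩
        exact h1 k hk v
      exact h3 (h.ge (AddSubgroup.mem_top w))

theorem core_trivial (s : SecData H L M φ π) (hc : Ctx 2 (modLift φ)) {x : G} (hxH : x ∈ H)
    (hx : x ∈ Cfsg.pCoreOf 2 H) : φ ⟨x, hxH⟩ = 1 := by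
  haveI : Fact (Nat.Prime 2) := ⟨Nat.prime_two⟩
  haveI : (Cfsg.pCore 2 ↥H).Normal := Cfsg.Lib.Components.pCore_normal' 2
  have hle : (Cfsg.pCore 2 ↥H).map (QuotientGroup.mk' φ.ker) ≤ Cfsg.pCore 2 (↥H ⧸ φ.ker) :=
    le_sSup ⟨Normal.map inferInstance _ (QuotientGroup.mk'_surjective _),
      (Cfsg.Lib.Components.isPGroup_pCore 2).map _⟩
  obtain ⟨k, hk, hkx⟩ := hx
  have h1 := hle (mem_map_of_mem _ hk)
  rw [hc.core, mem_bot, QuotientGroup.mk'_apply, QuotientGroup.eq_one_iff] at h1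
  have e : k = ⟨x, hxH⟩ := Subtype.ext hkx
  exact e ▸ h1

end SecData

namespace CaseII

variable {T : Sylow 2 G} {M₀ H K V : Subgroup G} (c : CaseII T M₀ H K V)
include c

theorem sub_el {L : Subgroup G} (hL : L ≤ wj H V) : Cfsg.IsElementaryAbelian 2 L :=
  Cfsg.Lib.ElemToolkit.elementary_mono hL c.W_el

/-- coprime action through two steps -/
theorem moved_trans {L X M : Subgroup G} (hL : L ≤ wj H V) (hHL : H ≤ normalizer (L : Set G))
    (hHM : H ≤ normalizer (M : Set G)) (h₁ : ⁅L, Cfsg.oddGenerated H⁆ ≤ X)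
    (h₂ : ⁅X, Cfsg.oddGenerated H⁆ ≤ M) : ⁅L, Cfsg.oddGenerated H⁆ ≤ M := by
  haveI : Fact (Nat.Prime 2) := ⟨Nat.prime_two⟩
  obtain ⟨E, iE, iEf, φ, π, s⟩ := exists_sec (c.sub_el hL) hHL hHM
  refine s.moved_iff.2 fun h ho => DFunLike.ext (F := AddMonoid.End E) _ _ fun v => ?_
  show φ h v = v
  obtain ⟨x, hx, rfl⟩ := s.surj v
  refine dd_eq_zero.1 (Cfsg.Lib.FFModule.dd_zero_of_coprime (p := 2) s.char ?_ ?_)
  · rw [← Subgroup.orderOf_coe]
    exact (Nat.coprime_two_right.2 ho)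
  · have hm := subset_closure (k := {y : G | y ∈ H ∧ Odd (orderOf y)}) ⟨h.2, ho⟩
    rw [s.dd_eq h hx, s.fix_iff h (s.comm_mem h.2 hx)]
    exact h₂ (commutator_mem_commutator (h₁ (commutator_mem_commutator hx hm)) hm)

theorem exists_chief {L M : Subgroup G} (hL : L ≤ wj H V) (hML : M ≤ L) (hHL : H ≤ normalizer (L : Set G))
    (hHM : H ≤ normalizer (M : Set G)) (hmov : ¬ ⁅L, Cfsg.oddGenerated H⁆ ≤ M) :
    ∃ L₁ M₁ : Subgroup G, M ≤ M₁ ∧ M₁ ≤ L₁ ∧ L₁ ≤ L ∧ H ≤ normalizer (L₁ : Set G) ∧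
      H ≤ normalizer (M₁ : Set G) ∧ IsChief H L₁ M₁ ∧ ¬ ⁅L₁, Cfsg.oddGenerated H⁆ ≤ M₁ := by
  obtain ⟨⟨L₁, M₁⟩, ⟨h1, h2, h3, h4, h5, h6⟩, hmin⟩ := Set.exists_min_image
    {q : Subgroup G × Subgroup G | M ≤ q.2 ∧ q.2 ≤ q.1 ∧ q.1 ≤ L ∧ H ≤ normalizer (q.1 : Set G) ∧
      H ≤ normalizer (q.2 : Set G) ∧ ¬ ⁅q.1, Cfsg.oddGenerated H⁆ ≤ q.2}
    (fun q => Nat.card q.1 - Nat.card q.2) (Set.toFinite _) ⟨(L, M), le_rfl, hML, le_rfl, hHL, hHM, hmov⟩
  refine ⟨L₁, M₁, h1, h2, h3, h4, h5, fun X hMX hXL hX => ?_, h6⟩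
  by_contra hne
  push Not at hne
  have hlt1 : Nat.card M₁ < Nat.card X := lt_of_not_ge fun h => hne.1 (eq_of_le_of_card_ge hMX h).symm
  have hlt2 : Nat.card X < Nat.card L₁ := lt_of_not_ge fun h => hne.2 (eq_of_le_of_card_ge hXL h)
  have hL₁X : ⁅L₁, Cfsg.oddGenerated H⁆ ≤ X := by
    by_contra hm
    have := hmin (L₁, X) ⟨h1.trans hMX, hXL, h3, h4, hX, hm⟩
    simp only at this
    omega
  have hXM : ⁅X, Cfsg.oddGenerated H⁆ ≤ M₁ := by
    by_contra hm
    have := hmin (X, M₁) ⟨h1, hMX, hXL.trans h3, hX, h5, hm⟩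
    simp only at this
    omega
  exact h6 (c.moved_trans (h3.trans hL) h4 h5 hL₁X hXM)

/-- no over-offender on a moved section -/
theorem noo {L M A X : Subgroup G} (hL : L ≤ wj H V) (hML : M ≤ L) (hHL : H ≤ normalizer (L : Set G))
    (hHM : H ≤ normalizer (M : Set G)) (hmov : ¬ ⁅L, Cfsg.oddGenerated H⁆ ≤ M) (hA : A ≤ H)
    (hAel : Cfsg.IsElementaryAbelian 2 A) (hXA : ⁅X, A⁆ ≤ M) :
    (Cfsg.pCoreOf 2 H).relIndex A ≤ X.relIndex L := by
  haveI : Fact (Nat.Prime 2) := ⟨Nat.prime_two⟩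
  obtain ⟨L₁, M₁, h1, h2, h3, h4, h5, hch, hmov₁⟩ := c.exists_chief hL hML hHL hHM hmov
  obtain ⟨E, iE, iEf, φ, π, s⟩ := exists_sec (c.sub_el (h3.trans hL)) h4 h5
  have hc := s.ctx c.toSetup h2 hch hmov₁
  set ψ := modLift φ with hψ
  set D := (A.subgroupOf H).map (QuotientGroup.mk' φ.ker) with hD
  have hDel : Cfsg.IsElementaryAbelian 2 D := by
    refine ⟨⟨⟨?_⟩⟩, ?_⟩
    · rintro ⟨_, a, ha, rfl⟩ ⟨_, b, hb, rfl⟩
      refine Subtype.ext ?_
      show QuotientGroup.mk' φ.ker a * QuotientGroup.mk' φ.ker b = QuotientGroup.mk' φ.ker b * QuotientGroup.mk' φ.ker a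
      rw [← map_mul, ← map_mul,
        show a * b = b * a from Subtype.ext (Cfsg.Lib.ElemToolkit.comm_of hAel.1 ha hb)]
    · rintro _ ⟨a, ha, rfl⟩
      rw [← map_pow, show a ^ 2 = 1 from Subtype.ext (hAel.2 _ ha), map_one]
  have hidx : Nat.card D ≤ (fixA ψ D).index := by
    by_contra hlt
    exact hlt ((offender_exact hc hDel (not_le.1 hlt).le).ge)
  have hcard : Nat.card D = (Cfsg.pCoreOf 2 H).relIndex A := by
    let f : A →* ↥H ⧸ φ.ker := (QuotientGroup.mk' φ.ker).comp (Subgroup.inclusion hA)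
    have hr : f.range = D := by
      ext x
      constructor
      · rintro ⟨a, rfl⟩; exact ⟨Subgroup.inclusion hA a, a.2, rfl⟩
      · rintro ⟨a, ha, rfl⟩; exact ⟨⟨a, ha⟩, rfl⟩
    rw [← hr, ← index_ker, relIndex]
    congr 1
    ext a
    rw [MonoidHom.mem_ker, mem_subgroupOf]
    show ((Subgroup.inclusion hA a : ↥H) : ↥H ⧸ φ.ker) = 1 ↔ _
    rw [QuotientGroup.eq_one_iff]
    constructor
    · intro ha
      refine c.toSetup.normal_le (C := φ.ker.map H.subtype) ?_ (le_normalizer_map_of_normal φ.ker)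
        ((isPGroup_elem hAel).to_le (inf_le_left : A ⊓ φ.ker.map H.subtype ≤ A)) inf_le_right
        (mem_inf.2 ⟨a.2, ⟨_, ha, rfl⟩⟩)
      refine c.toSetup.kernel_le_K (map_subtype_le _) (le_normalizer_map_of_normal φ.ker) fun hle => hmov₁ ?_
      refine s.moved_iff.2 fun h ho => ?_
      obtain ⟨k, hk, hkh⟩ := hle (subset_closure ⟨h.2, ho⟩)
      exact Subtype.ext hkh ▸ hk
    · exact fun ha => s.core_trivial hc (hA a.2) ha
  rw [← hcard]
  refine hidx.trans ?_
  rw [← s.relIndex_pre]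
  refine le_trans ?_ (relIndex_le_right X h3)
  rw [← inf_relIndex_right X L₁]
  refine relIndex_le_of_le_left (fun x hx => ⟨hx.2, ?_⟩) FiniteIndex.index_ne_zero
  rintro _ ⟨a, ha, rfl⟩
  show φ a (π x) = π x
  exact (s.fix_iff a hx.2).2 (h1 (hXA (commutator_mem_commutator hx.1 ha)))

end CaseII

end Cfsg.Lib.Qrc
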