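import Cfsg.Agent.PLocal.FFModule.Basic

import Cfsg.Agent.Quadratic.BaerSuzuki
import Cfsg.Prelude.Def_BaumannBlocks

/-!
Elementary tools: the swapping involution of a dihedral subgroup, coprime fixed cosets, conjugate indices.
-/

set_option autoImplicit false
set_option linter.unusedSectionVars false
set_option linter.style.haveILetI false

namespace Cfsg.Lib.Qrc

open Subgroup
open Cfsg.Lib.FFSLTwo (cj)
open Cfsg.Lib.FFModule (conj_mem_cj cj_mul cj_one)
open scoped commutatorElement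

universe u

variable {G : Type u} [Group G] [Finite G]

theorem cj_of_mem_normalizer {A : Subgroup G} {g : G} (hg : g ∈ normalizer (A : Set G)) : cj g A = A :=
  mem_normalizer_iff_map_conj_eq.1 hg

theorem mem_normalizer_of_cj {A : Subgroup G} {g : G} (h : cj g A = A) : g ∈ normalizer (A : Set G) :=
  mem_normalizer_iff_map_conj_eq.2 h

theorem cj_centralizer (g : G) (A : Subgroup G) :
    cj g (centralizer (A : Set G)) = centralizer (cj g A : Set G) := by
  ext x
  simp only [mem_centralizer_iff]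
  constructor
  · rintro ⟨y, hy, rfl⟩
    rintro _ ⟨a, ha, rfl⟩
    rw [← map_mul, ← map_mul, mem_centralizer_iff.1 hy a ha]
  · intro hx
    refine ⟨g⁻¹ * x * g, mem_centralizer_iff.2 fun a ha => ?_, by simp [mul_assoc]⟩
    have h1 := hx _ (conj_mem_cj ha)
    calc a * (g⁻¹ * x * g) = g⁻¹ * (g * a * g⁻¹ * x) * g := by group
      _ = g⁻¹ * (x * (g * a * g⁻¹)) * g := by rw [h1]
      _ = g⁻¹ * x * g * a := by group

theorem cj_inf (g : G) (A B : Subgroup G) : cj g (A ⊓ B) = cj g A ⊓ cj g B :=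
  Subgroup.map_inf _ _ _ (MulAut.conj g).injective

theorem relIndex_cj (g : G) (A B : Subgroup G) : (cj g A).relIndex (cj g B) = A.relIndex B :=
  relIndex_map_map_of_injective _ _ (MulAut.conj g).injective

theorem cj_commutator (g : G) (A B : Subgroup G) : cj g ⁅A, B⁆ = ⁅cj g A, cj g B⁆ := map_commutator _ _ _

theorem le_normalizer_iSup {ι : Sort*} {X : Subgroup G} {A : ι → Subgroup G}
    (h : ∀ x ∈ X, ∀ i, cj x (A i) ≤ ⨆ j, A j) : X ≤ normalizer ((⨆ j, A j : Subgroup G) : Set G) := by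
  have key : ∀ x ∈ X, cj x (⨆ j, A j) ≤ ⨆ j, A j := fun x hx => by
    rw [show cj x (⨆ j, A j) = ⨆ j, cj x (A j) from Subgroup.map_iSup _ _]
    exact iSup_le (h x hx)
  intro x hx
  rw [mem_normalizer_iff]
  intro y
  refine ⟨fun hy => key x hx (conj_mem_cj hy), fun hy => ?_⟩
  simpa [mul_assoc] using key x⁻¹ (inv_mem hx) (conj_mem_cj hy)

theorem le_normalizer_sup {X A B : Subgroup G} (h1 : ∀ x ∈ X, cj x A ≤ A ⊔ B) (h2 : ∀ x ∈ X, cj x B ≤ A ⊔ B) :
    X ≤ normalizer ((A ⊔ B : Subgroup G) : Set G) := by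
  have key : ∀ x ∈ X, cj x (A ⊔ B) ≤ A ⊔ B := fun x hx => by
    rw [show cj x (A ⊔ B) = cj x A ⊔ cj x B from Subgroup.map_sup _ _ _]
    exact sup_le (h1 x hx) (h2 x hx)
  intro x hx
  rw [mem_normalizer_iff]
  intro y
  refine ⟨fun hy => key x hx (conj_mem_cj hy), fun hy => ?_⟩
  simpa [mul_assoc] using key x⁻¹ (inv_mem hx) (conj_mem_cj hy)

/-- an element of odd order fixing modulo a centralised `2`-part fixes -/
theorem fixed_of_odd {y l : G} (hy : Odd (orderOf y)) (hc : Commute y ⁅y, l⁆) (h2 : ∃ k : ℕ, ⁅y, l⁆ ^ 2 ^ k = 1) :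
    ⁅y, l⁆ = 1 := by
  set f := ⁅y, l⁆ with hf
  have hit : ∀ n : ℕ, y ^ n * l * (y ^ n)⁻¹ = f ^ n * l := by
    intro n
    induction n with
    | zero => simp
    | succ n ih =>
      have e : y * l * y⁻¹ = f * l := by rw [hf, commutatorElement_def]; group
      calc y ^ (n + 1) * l * (y ^ (n + 1))⁻¹ = y * (y ^ n * l * (y ^ n)⁻¹) * y⁻¹ := by
            rw [pow_succ']; group
        _ = (y * f ^ n) * l * y⁻¹ := by rw [ih]; group
        _ = f ^ n * (y * l * y⁻¹) := by rw [(hc.pow_right n).eq]; group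
        _ = f ^ (n + 1) * l := by rw [e, pow_succ]; group
  have h1 := hit (orderOf y)
  rw [pow_orderOf_eq_one, one_mul, inv_one, mul_one, eq_comm, mul_eq_right] at h1
  obtain ⟨k, hk⟩ := h2
  rw [← orderOf_eq_one_iff]
  exact Nat.eq_one_of_dvd_coprimes ((Nat.coprime_two_left.2 hy).pow_left k)
    (orderOf_dvd_of_pow_eq_one hk) (orderOf_dvd_of_pow_eq_one h1)

theorem mul_self_pow_two {p : G} {P : Subgroup G} (hP : IsPGroup 2 P) (hp : p ∈ P) : ∃ k : ℕ, p ^ 2 ^ k = 1 := by
  obtain ⟨k, hk⟩ := hP ⟨p, hp⟩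
  exact ⟨k, congrArg Subtype.val hk⟩

/-- two involutions generating no `2`-group give a nontrivial odd element inverted by the first -/
theorem exists_odd_inverted {z z' : G} (hz : z * z = 1) (hz' : z' * z' = 1)
    (hn : ¬ IsPGroup 2 ↥(zpowers z ⊔ zpowers z')) :
    ∃ y ∈ zpowers (z * z'), y ≠ 1 ∧ Odd (orderOf y) ∧ z * y * z = y⁻¹ := by
  set x := z * z' with hx
  have hzi : z⁻¹ = z := inv_eq_of_mul_eq_one_right hz
  have hzi' : z'⁻¹ = z' := inv_eq_of_mul_eq_one_right hz'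
  have hinv : z * x * z = x⁻¹ := by
    rw [hx, _root_.mul_inv_rev, hzi, hzi', ← mul_assoc, hz, one_mul]
  obtain ⟨e, m, hm, hem⟩ := Nat.exists_eq_two_pow_mul_odd (orderOf_pos x).ne'
  have hpow : ∀ n : ℕ, z * x ^ n * z = (x ^ n)⁻¹ := by
    intro n
    induction n with
    | zero => simp [hz]
    | succ n ih =>
      calc z * x ^ (n + 1) * z = z * x ^ n * (z * z) * x * z := by rw [hz, mul_one, pow_succ]; group
        _ = (z * x ^ n * z) * (z * x * z) := by group
        _ = (x ^ (n + 1))⁻¹ := by rw [ih, hinv, pow_succ', _root_.mul_inv_rev, hx, _root_.mul_inv_rev]; group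
  by_cases h1 : m = 1
  · exfalso
    refine hn ?_
    have hxp : IsPGroup 2 (zpowers x) := IsPGroup.of_card (n := e) (by rw [Nat.card_zpowers, hem, h1, mul_one])
    have hzp : IsPGroup 2 (zpowers z) := by
      rintro ⟨_, k, rfl⟩
      refine ⟨1, Subtype.ext ?_⟩
      show (z ^ k) ^ (2 ^ 1) = 1
      rw [pow_one, pow_two, ← zpow_add, show k + k = 2 * k by ring, zpow_mul, zpow_two, hz, one_zpow]
    have hzn : zpowers z ≤ normalizer (zpowers x : Set G) := by
      rw [zpowers_le, mem_normalizer_iff_map_conj_eq, MonoidHom.map_zpowers]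
      show zpowers (z * x * z⁻¹) = zpowers x
      rw [hzi, hinv, zpowers_inv]
    refine (IsPGroup.to_sup_of_normal_right' hzp hxp hzn).to_le (sup_le le_sup_left ?_)
    rw [zpowers_le, show z' = z * x by rw [hx, ← mul_assoc, hz, one_mul]]
    exact mul_mem (mem_sup_left (mem_zpowers z)) (mem_sup_right (mem_zpowers x))
  · have ho : orderOf (x ^ 2 ^ e) = m := by
      rw [orderOf_pow_of_dvd (by positivity) (hem ▸ Dvd.intro _ rfl), hem,
        Nat.mul_div_cancel_left _ (by positivity)]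
    refine ⟨x ^ 2 ^ e, pow_mem (mem_zpowers x) _, fun h0 => h1 ?_, ho.symm ▸ hm, hpow _⟩
    rw [← ho, h0, orderOf_one]

/-- an involution swapping two conjugate involutions with odd product -/
theorem exists_swap {z y : G} (hz : z * z = 1) (hy : Odd (orderOf y)) (hinv : z * y * z = y⁻¹) :
    ∃ w ∈ zpowers y, (z * w) * (z * w) = 1 ∧ z * ((z * w) * z * (z * w)⁻¹) = y := by
  obtain ⟨k, hk⟩ := hy
  have hpow : ∀ n : ℕ, z * y ^ n * z = (y ^ n)⁻¹ := by
    intro n
    induction n with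
    | zero => simp [hz]
    | succ n ih =>
      calc z * y ^ (n + 1) * z = z * y ^ n * (z * z) * y * z := by rw [hz, mul_one, pow_succ]; group
        _ = (z * y ^ n * z) * (z * y * z) := by group
        _ = (y ^ (n + 1))⁻¹ := by rw [ih, hinv, pow_succ', _root_.mul_inv_rev]
  have hzi : z⁻¹ = z := inv_eq_of_mul_eq_one_right hz
  refine ⟨y ^ (k + 1), pow_mem (mem_zpowers y) _, ?_, ?_⟩
  · rw [← mul_assoc, hpow, inv_mul_cancel]
  · have e : y ^ (k + 1) * y ^ (k + 1) = y := by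
      rw [← pow_add, show k + 1 + (k + 1) = orderOf y + 1 by omega, pow_succ, pow_orderOf_eq_one, one_mul]
    calc z * ((z * y ^ (k + 1)) * z * (z * y ^ (k + 1))⁻¹)
        = (z * z) * y ^ (k + 1) * (z * (y ^ (k + 1))⁻¹ * z) := by rw [_root_.mul_inv_rev, hzi]; group
      _ = y ^ (k + 1) * y ^ (k + 1) := by
        rw [hz, one_mul, show z * (y ^ (k + 1))⁻¹ * z = (z * y ^ (k + 1) * z)⁻¹ by
          rw [_root_.mul_inv_rev, _root_.mul_inv_rev, hzi]; group, hpow, inv_inv]
      _ = y := e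

/-- a conjugate of an element outside the core of a subgroup generates no `2`-group with it -/
theorem exists_bs {X : Subgroup G} {z : G} (hzX : z ∈ X) (hzP : z ∉ Cfsg.pCoreOf 2 X) :
    ∃ g ∈ X, ¬ IsPGroup 2 ↥(zpowers z ⊔ zpowers (g * z * g⁻¹)) := by
  haveI : Fact (Nat.Prime 2) := ⟨Nat.prime_two⟩
  by_contra hall
  push Not at hall
  obtain ⟨N, hN, hNp, hle⟩ := Cfsg.Lib.BaerSuzuki.baer_suzuki (p := 2) (zpowers (⟨z, hzX⟩ : ↥X)) (fun g => by
    rw [MonoidHom.map_zpowers]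
    refine IsPGroup.of_equiv (hall g g.2) (MulEquiv.symm ?_)
    refine ((zpowers (⟨z, hzX⟩ : ↥X) ⊔ zpowers (MulAut.conj g ⟨z, hzX⟩)).equivMapOfInjective X.subtype
      X.subtype_injective).trans (MulEquiv.subgroupCongr ?_)
    rw [Subgroup.map_sup, MonoidHom.map_zpowers, MonoidHom.map_zpowers]
    rfl)
  exact hzP ⟨⟨z, hzX⟩, le_sSup (show N ∈ {M : Subgroup ↥X | M.Normal ∧ IsPGroup 2 M} from ⟨hN, hNp⟩)
    (hle (mem_zpowers _)), rfl⟩

end Cfsg.Lib.Qrc
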