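import Cfsg.Agent.QTKE.Qrc.Cubic

/-!
The subgroup `V` outside the core of `H`.
-/

set_option autoImplicit false
set_option linter.unusedSectionVars false
set_option linter.style.haveILetI false

namespace Cfsg.Lib.Qrc

open Subgroup
open Cfsg.Lib.FFSLTwo (cj mem_cj)
open Cfsg.Lib.FFModule (conj_mem_cj cj_mul cj_one cj_inv_cj cj_cj_inv card_cj)
open scoped commutatorElement

universe u

variable {G : Type u} [Group G] [Finite G]

/-- a conjugate generated join permuted by a subgroup -/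
theorem le_normalizer_conjJoin {X N : Subgroup G} (V : Subgroup G) (h : X ≤ N) :
    X ≤ normalizer ((⨆ k : N, cj (k : G) V : Subgroup G) : Set G) :=
  le_normalizer_iSup fun x hx k => by
    rw [cj_mul]
    exact le_iSup (fun k : N => cj (k : G) V) ⟨x * k, mul_mem (h hx) k.2⟩

theorem cj_le_of_le {g : G} {A B : Subgroup G} (h : A ≤ B) (hg : g ∈ normalizer (B : Set G)) : cj g A ≤ B :=
  (map_mono h).trans (cj_of_mem_normalizer hg).le

namespace Setup

variable {T : Sylow 2 G} {M₀ H K V : Subgroup G} (d : Setup T M₀ H K V)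
include d

theorem cj_R_eq {h : G} (hh : h ∈ K) (hR : Cfsg.pCoreOf 2 M₀ ≤ cj h (T : Subgroup G)) :
    cj h (Cfsg.pCoreOf 2 M₀) = Cfsg.pCoreOf 2 M₀ := by
  haveI : Fact (Nat.Prime 2) := ⟨Nat.prime_two⟩
  set R := Cfsg.pCoreOf 2 M₀ with hRdef
  suffices R ≤ cj h R from (eq_of_le_of_card_ge this (card_cj h R).le).symm
  rcases d.hI with hO | hV
  swap
  · rw [hRdef, d.hR, cj_inf, cj_centralizer, cj_of_mem_normalizer (hV hh)]
    exact le_inf (d.hR ▸ hR) inf_le_right
  set O := Cfsg.oddGenerated M₀ with hOdef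
  set Z := Cfsg.pCoreOf 2 O with hZdef
  have hNZ : normalizer (O : Set G) ≤ normalizer (Z : Set G) := Cfsg.Lib.Large.normalizer_pCoreOf_le O
  set C := fixMod (normalizer (O : Set G)) Z hNZ (O : Set G) with hCdef
  have hCn : ∀ g ∈ normalizer (O : Set G), cj g C = C := fun g hg => by
    refine eq_of_le_of_card_ge ?_ (card_cj g C).ge
    rintro _ ⟨c, hc, rfl⟩
    exact fixMod_normal le_rfl hc hg
  have hOM : O ≤ M₀ := (closure_le _).2 fun x hx => hx.1
  have hMO : M₀ ≤ normalizer (O : Set G) := Cfsg.Lib.JComp.le_normalizer_of_conj fun a ha x hx => by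
    have h1 : O ≤ O.comap (MulAut.conj a).toMonoidHom := (closure_le _).2 fun t ht => subset_closure
      ⟨mul_mem (mul_mem ha ht.1) (inv_mem ha), by
        show Odd (orderOf ((MulAut.conj a) t))
        rw [MulEquiv.orderOf_eq]; exact ht.2⟩
    exact h1 hx
  have hZR : Z ≤ R := Cfsg.Lib.Large.le_pCoreOf ((map_subtype_le _).trans hOM)
    (Cfsg.Lib.JComp.isPGroup_pCoreOf O) (hMO.trans hNZ)
  have hRC : R ≤ (T : Subgroup G) ⊓ C := by
    refine le_inf d.RT fun r hr => ⟨hMO ((map_subtype_le _) hr), fun o ho => ?_⟩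
    have h1 : R ⊓ O ≤ Z := Cfsg.Lib.Large.le_pCoreOf inf_le_right
      ((Cfsg.Lib.JComp.isPGroup_pCoreOf M₀).to_le inf_le_left) fun o ho => by
        refine mem_normalizer_of_cj ?_
        rw [cj_inf, cj_of_mem_normalizer (d.MR (hOM ho)), cj_of_mem_normalizer (le_normalizer ho)]
    refine h1 (mem_inf.2 ⟨?_, ?_⟩)
    · rw [show ⁅r, o⁆ = r * (o * r⁻¹ * o⁻¹) by rw [commutatorElement_def]; group]
      exact mul_mem hr ((mem_normalizer_iff.1 (d.MR (hOM ho)) _).1 (inv_mem hr))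
    · rw [commutatorElement_def]
      exact mul_mem ((mem_normalizer_iff.1 (hMO ((map_subtype_le _) hr)) _).1 ho) (inv_mem ho)
  have hTC : (T : Subgroup G) ⊓ C ≤ R := by
    set C₀ := M₀ ⊓ centralizer (V : Set G) with hC₀
    set N := C₀ ⊔ (T : Subgroup G) ⊓ C with hN
    have hC₀n : M₀ ≤ normalizer (C₀ : Set G) := fun m hm => by
      refine mem_normalizer_of_cj ?_
      rw [hC₀, cj_inf, cj_centralizer, cj_of_mem_normalizer (le_normalizer hm), cj_of_mem_normalizer (d.hMV hm)]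
    have hTN : (T : Subgroup G) ≤ normalizer (N : Set G) := fun t ht => by
      refine mem_normalizer_of_cj ?_
      rw [hN, Cfsg.Lib.FFModule.cj_sup, cj_of_mem_normalizer (hC₀n (d.hTM ht)), cj_inf,
        cj_of_mem_normalizer (le_normalizer ht), hCn t (hMO (d.hTM ht))]
    have hON : O ≤ normalizer (N : Set G) := by
      refine le_normalizer_sup (fun o ho => (cj_of_mem_normalizer (hC₀n (hOM ho))).le.trans le_sup_left) ?_
      rintro o ho _ ⟨t, ht, rfl⟩
      show o * t * o⁻¹ ∈ _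
      rw [show o * t * o⁻¹ = ⁅t, o⁆⁻¹ * t by rw [commutatorElement_def]; group]
      refine mul_mem (mem_sup_left (inv_mem ?_)) (mem_sup_right ht)
      exact mem_inf.2 ⟨(map_subtype_le _) (hZR (ht.2.2 o ho)), d.RC (hZR (ht.2.2 o ho))⟩
    have hMN : M₀ ≤ normalizer (N : Set G) := by
      conv_lhs => rw [← Cfsg.Lib.LocalCStar.residual_sup_eq (T := T) d.hTM,
        ← Cfsg.Lib.PushUpOrbit.oddGenerated_eq]
      exact sup_le hON hTN
    have hNM : N ≤ M₀ := sup_le inf_le_left (inf_le_left.trans d.hTM)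
    haveI : (C₀.subgroupOf N).Normal := normal_subgroupOf_of_le_normalizer (hNM.trans hC₀n)
    have h2 : IsPGroup 2 (↥N ⧸ C₀.subgroupOf N) := by
      have htop : (((T : Subgroup G) ⊓ C).subgroupOf N).map (QuotientGroup.mk' (C₀.subgroupOf N)) = ⊤ := by
        have h := congrArg (Subgroup.map (QuotientGroup.mk' (C₀.subgroupOf N))) (subgroupOf_self N)
        rw [map_top_of_surjective _ (QuotientGroup.mk'_surjective _)] at h
        conv_rhs => rw [← h]
        rw [show N.subgroupOf N = C₀.subgroupOf N ⊔ ((T : Subgroup G) ⊓ C).subgroupOf N from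
          subgroupOf_sup le_sup_left le_sup_right, Subgroup.map_sup, QuotientGroup.map_mk'_self, bot_sup_eq]
      have h3 := ((T.2.to_le inf_le_left).comap_subtype :
        IsPGroup 2 ↥(((T : Subgroup G) ⊓ C).subgroupOf N)).map (QuotientGroup.mk' (C₀.subgroupOf N))
      exact (h3.to_le htop.ge : IsPGroup 2 ↥(⊤ : Subgroup (↥N ⧸ C₀.subgroupOf N))).of_equiv Subgroup.topEquiv
    obtain ⟨k, hk⟩ := IsPGroup.iff_card.1 h2
    have he := d.hred N hNM hMN le_sup_left ⟨k, hk⟩
    rw [hRdef, d.hR]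
    exact le_inf inf_le_left ((le_sup_right.trans he.le).trans inf_le_right)
  have hRTC : R = (T : Subgroup G) ⊓ C := le_antisymm hRC hTC
  conv_rhs => rw [hRTC, cj_inf, hCn h (hO hh)]
  exact le_inf hR (hRC.trans inf_le_right)

/-- a `2`-subgroup of `H` over the core lies in a conjugate of `T` under its normaliser -/
theorem exists_syl {S : Subgroup G} (hS : IsPGroup 2 S) (hSH : S ≤ H) (hRS : Cfsg.pCoreOf 2 M₀ ≤ S) :
    ∃ h ∈ H ⊓ normalizer (Cfsg.pCoreOf 2 M₀ : Set G), S ≤ cj h (T : Subgroup G) := by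
  haveI : Fact (Nat.Prime 2) := ⟨Nat.prime_two⟩
  obtain ⟨P, hP⟩ := (hS.comap_subtype : IsPGroup 2 ↥(S.subgroupOf H)).exists_le_sylow
  obtain ⟨h, hh⟩ := MulAction.exists_smul_eq H (T.subtype d.hTH) P
  have hSh : S ≤ cj (h : G) (T : Subgroup G) := fun x hx => by
    have h1 := hP (mem_subgroupOf.2 hx : (⟨x, hSH hx⟩ : H) ∈ S.subgroupOf H)
    rw [← hh, Sylow.coe_subgroup_smul, Subgroup.mem_pointwise_smul_iff_inv_smul_mem] at h1
    exact mem_cj.2 (by simpa [MulAut.smul_def, Sylow.coe_subtype, mem_subgroupOf, mul_assoc] using h1)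
  set J := Cfsg.thompsonSubgroupOf 2 (T : Subgroup G) with hJ
  have hhJ : cj (h : G) J = J := by
    refine (eq_of_le_of_card_ge ?_ (card_cj _ J).le).symm
    rw [hJ, show cj (h : G) (Cfsg.thompsonSubgroupOf 2 (T : Subgroup G)) =
      Cfsg.thompsonSubgroupOf 2 (cj (h : G) (T : Subgroup G)) from
      Cfsg.Lib.Thompson.map_thompsonSubgroupOf (MulAut.conj (h : G)).injective.injOn,
      Cfsg.Lib.Thompson.thompsonSubgroupOf_eq, Cfsg.Lib.Thompson.thompsonSubgroupOf_eq]
    refine sSup_le fun A hA => le_sSup ⟨(d.max_elem_le hA).trans (hRS.trans hSh), hA.2.1, fun B hB hBe => ?_⟩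
    rw [← card_cj (h : G)⁻¹ B]
    refine hA.2.2 _ ?_ (Cfsg.Lib.FFModule.el_cj _ hBe)
    exact (map_mono hB).trans (cj_inv_cj _ _).le
  have hhK : (h : G) ∈ K := d.NJ (mem_inf.2 ⟨h.2, mem_normalizer_of_cj hhJ⟩)
  exact ⟨h, mem_inf.2 ⟨h.2, mem_normalizer_of_cj (d.cj_R_eq hhK (hRS.trans hSh))⟩, hSh⟩

theorem caseI (hout : ¬ V ≤ Cfsg.pCoreOf 2 H) : Cfsg.CubicParamLE M₀ V 2 := by
  classical
  haveI : Fact (Nat.Prime 2) := ⟨Nat.prime_two⟩
  set R := Cfsg.pCoreOf 2 M₀ with hRdef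
  set N := H ⊓ normalizer (R : Set G) with hN
  set Vt := ⨆ k : N, cj (k : G) V with hVt
  have hVVt : V ≤ Vt := by
    have := le_iSup (fun k : N => cj (k : G) V) 1
    simpa [cj_one] using this
  have hVtR : Vt ≤ R := iSup_le fun k => cj_le_of_le d.VR k.2.2
  have hRc : R ≤ centralizer (Vt : Set G) := le_centralizer_iff.1 <| iSup_le fun k => by
    have h1 := map_mono (f := (MulAut.conj (k : G)).toMonoidHom) d.RC
    change cj (k : G) R ≤ cj (k : G) (centralizer (V : Set G)) at h1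
    rw [cj_centralizer, cj_of_mem_normalizer k.2.2] at h1
    exact le_centralizer_iff.1 h1
  have hel : Cfsg.IsElementaryAbelian 2 Vt := by
    refine ⟨⟨⟨fun a b => Subtype.ext (mem_centralizer_iff.1 (hRc (hVtR a.2)) b b.2).symm⟩⟩, fun a ha => ?_⟩
    have hle : Vt ≤
        { carrier := {x | x ∈ Vt ∧ x ^ 2 = 1}
          one_mem' := ⟨one_mem _, one_pow _⟩
          mul_mem' := fun {x y} hx hy => ⟨mul_mem hx.1 hy.1, by
            rw [(show Commute x y from (mem_centralizer_iff.1 (hRc (hVtR hx.1)) y hy.1).symm).mul_pow, hx.2,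
              hy.2, one_mul]⟩
          inv_mem' := fun {x} hx => ⟨inv_mem hx.1, by rw [inv_pow, hx.2, inv_one]⟩ } :=
      iSup_le fun k x hx => ⟨(le_iSup (fun k : N => cj (k : G) V) k) hx, (Cfsg.Lib.FFModule.el_cj _ d.hV).2 x hx⟩
    exact (hle ha).2
  have hTN : (T : Subgroup G) ≤ N := le_inf d.hTH (d.hTM.trans d.MR)
  have hNVt : N ≤ normalizer (Vt : Set G) := le_normalizer_conjJoin V le_rfl
  have hS : ∀ S : Subgroup G, IsPGroup 2 S → S ≤ H → R ≤ S → S ≤ normalizer (Vt : Set G) := fun S hS hSH hRS => by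
    obtain ⟨h, hh, hSh⟩ := d.exists_syl hS hSH hRS
    exact hSh.trans ((cj_le_of_le hTN (le_normalizer hh)).trans hNVt)
  obtain ⟨A, S, hSp, hSH, hRS, hAS, hAel, hAne, hcub, hle⟩ := cubic_core hel (hVtR.trans (d.RT.trans d.hTH))
    (d.RT.trans d.hTH) (T.2.to_le d.RT) hRc (d.QT.trans (d.hTM.trans d.MR)) (fun h hh hc => d.constrained hh hc)
    hS fun hle => hout (hVVt.trans hle)
  obtain ⟨h, hh, hSh⟩ := d.exists_syl hSp hSH hRS
  set A' := cj h⁻¹ A with hA'
  have hA'T : A' ≤ (T : Subgroup G) := (map_mono (hAS.trans hSh)).trans (cj_inv_cj h _).le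
  have hVh : cj h⁻¹ Vt = Vt := cj_of_mem_normalizer (hNVt (inv_mem hh))
  have hC : centralizer (V : Set G) ⊓ A' = centralizer (Vt : Set G) ⊓ A' := le_antisymm
    (fun a ha => mem_inf.2 ⟨hRc (d.hR.ge (mem_inf.2 ⟨hA'T ha.2, ha.1⟩)), ha.2⟩)
    (inf_le_inf_right _ (centralizer_le hVVt))
  have hrel : (centralizer (V : Set G)).relIndex A' = (centralizer (Vt : Set G)).relIndex A := by
    rw [← inf_relIndex_right (centralizer (V : Set G)) A', hC, inf_relIndex_right, hA',
      ← relIndex_cj h⁻¹ (centralizer (Vt : Set G)) A, cj_centralizer, hVh]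
  refine ⟨A', hA'T.trans d.hTM, induces_of_el (Cfsg.Lib.FFModule.el_cj _ hAel) fun hc => hAne ?_, ?_, ?_⟩
  · rw [← relIndex_eq_one, ← hrel, relIndex_eq_one]
    exact hc
  · refine le_bot_iff.1 ((commutator_mono (commutator_mono (commutator_mono hVVt le_rfl) le_rfl) le_rfl).trans ?_)
    rw [hA', ← hVh, ← cj_commutator, ← cj_commutator, ← cj_commutator, hcub, Cfsg.Lib.FFModule.cj_bot]
  · rw [inf_relIndex_left, hrel]
    refine le_trans ?_ hle
    refine (relIndex_le_right _ hVVt).trans ?_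
    rw [hA', ← relIndex_cj h⁻¹ (centralizer (A : Set G)) Vt, cj_centralizer, hVh]

end Setup

end Cfsg.Lib.Qrc
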