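import Cfsg.Agent.QTKE.Qrc.Count

/-!
The core of `H` centralises the moved part; the translate acts exactly.
-/

set_option autoImplicit false
set_option linter.unusedSectionVars false
set_option linter.style.haveILetI false

namespace Cfsg.Lib.Qrc

open Subgroup
open Cfsg.Lib.FFSLTwo (cj mem_cj fixA)
open Cfsg.Lib.FFModule (conj_mem_cj cj_mul cj_one cj_inv_cj cj_cj_inv card_cj)
open scoped commutatorElement

universe u

variable {G : Type u} [Group G] [Finite G]

/-- a subgroup of index two in an invariant subgroup centralised by the residual -/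
theorem exists_two {T : Subgroup G} (hT : IsPGroup 2 T) {N₁ Y : Subgroup G} (hN : Cfsg.IsElementaryAbelian 2 N₁)
    (hne : N₁ ≠ ⊥) (hTN : T ≤ normalizer (N₁ : Set G)) (hY : N₁ ≤ centralizer (Y : Set G)) :
    ∃ M : Subgroup G, M ≤ N₁ ∧ M ≠ N₁ ∧ Y ⊔ T ≤ normalizer (M : Set G) ∧
      ∀ x ∈ N₁, ∀ y ∈ N₁, x ∉ M → y ∉ M → x * y ∈ M := by
  haveI : Fact (Nat.Prime 2) := ⟨Nat.prime_two⟩
  obtain ⟨M, ⟨hMN, hMne, hTM⟩, hmax⟩ := Set.exists_max_image
    {M : Subgroup G | M ≤ N₁ ∧ M ≠ N₁ ∧ T ≤ normalizer (M : Set G)} (fun M => Nat.card M) (Set.toFinite _)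
    ⟨⊥, bot_le, Ne.symm hne, le_normalizer_bot T⟩
  have hYM : Y ≤ normalizer (M : Set G) :=
    (le_centralizer_iff.1 hY).trans ((centralizer_le hMN).trans (centralizer_le_normalizer _))
  refine ⟨M, hMN, hMne, sup_le hYM hTM, ?_⟩
  obtain ⟨E, iE, iEf, φ, π, s⟩ := exists_sec hN hTN hTM
  have hnt : (⊤ : AddSubgroup E) ≠ ⊥ := by
    obtain ⟨x, hx, hxM⟩ := SetLike.exists_of_lt (lt_of_le_of_ne hMN hMne)
    intro h
    have := h.le (AddSubgroup.mem_top (π x))
    exact hxM ((s.eq_zero x hx).1 (AddSubgroup.mem_bot.1 this))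
  obtain ⟨e, -, he0, he⟩ := Cfsg.Lib.FFModule.exists_fix_mem (φ := φ) s.char
    (hT.of_equiv Subgroup.topEquiv.symm : IsPGroup 2 ↥(⊤ : Subgroup ↥T)) (⊤ : AddSubgroup E)
    (fun _ _ _ _ => AddSubgroup.mem_top _) hnt
  let U : AddSubgroup E :=
    { carrier := {w | w = 0 ∨ w = e}
      zero_mem' := Or.inl rfl
      add_mem' := fun {a b} ha hb => by
        rcases ha with rfl | rfl <;> rcases hb with rfl | rfl
        · exact Or.inl (add_zero 0)
        · exact Or.inr (zero_add _)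
        · exact Or.inr (add_zero _)
        · exact Or.inl (by rw [← two_nsmul]; exact s.char _)
      neg_mem' := fun {a} ha => by
        rcases ha with rfl | rfl
        · exact Or.inl neg_zero
        · exact Or.inr (by rw [neg_eq_iff_add_eq_zero, ← two_nsmul]; exact s.char _) }
  have hU : ∀ h : ↥T, ∀ v ∈ U, φ h v ∈ U := fun h v hv => by
    rcases hv with rfl | rfl
    · exact Or.inl (map_zero (φ h))
    · exact Or.inr (he h (mem_top h))
  have hpre : s.pre U = N₁ := by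
    by_contra hne'
    have h1 := hmax (s.pre U) ⟨fun x hx => hx.1, hne', s.pre_stable hU⟩
    have h2 : M ≤ s.pre U := fun x hx => ⟨hMN hx, Or.inl ((s.eq_zero x (hMN hx)).2 hx)⟩
    obtain ⟨x, hx, hxe⟩ := s.surj e
    have h3 : x ∈ M := (eq_of_le_of_card_ge h2 h1).ge ⟨hx, Or.inr hxe⟩
    exact he0 (hxe ▸ (s.eq_zero x hx).2 h3)
  intro x hx y hy hxM hyM
  have hxe : π x = e := (hpre.ge hx).2.resolve_left fun h => hxM ((s.eq_zero x hx).1 h)
  have hye : π y = e := (hpre.ge hy).2.resolve_left fun h => hyM ((s.eq_zero y hy).1 h)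
  refine (s.eq_zero _ (mul_mem hx hy)).1 ?_
  rw [s.map_mul x hx y hy, hxe, hye, ← two_nsmul]
  exact s.char _

namespace CaseII

variable {T : Sylow 2 G} {M₀ H K V : Subgroup G} (c : CaseII T M₀ H K V) {g : G}
include c

theorem n_perfect (p : PrePair T H V g) (hne : ¬ cj g (wj H V) ≤ Cfsg.pCoreOf 2 H) :
    nOf H V ≤ ⁅nOf H V, Cfsg.oddGenerated H⁆ := by
  refine c.moved_ge p hne ((commutator_le_left_of_normalize
    ((oddGenerated_le H).trans c.H_n)).trans c.n_le) (fun h hh => mem_normalizer_of_cj ?_) fun h => c.n_moved ?_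
  · rw [cj_commutator, cj_of_mem_normalizer (c.H_n hh), cj_of_mem_normalizer (le_normalizer_oddGenerated H hh)]
  · exact c.moved_trans c.n_le c.H_n (le_normalizer_bot H) le_rfl h

/-- the core moves `W` into the fixed part -/
theorem comm_Q_le (p : PrePair T H V g) (hne : ¬ cj g (wj H V) ≤ Cfsg.pCoreOf 2 H) :
    ⁅wj H V, Cfsg.pCoreOf 2 H⁆ ≤ wcOf H V := by
  set Q := Cfsg.pCoreOf 2 H with hQ
  set W := wj H V with hW
  have hWQ : ⁅W, Q⁆ ≤ W := commutator_le_left_of_normalize ((map_subtype_le _).trans c.hWn)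
  refine le_inf hWQ (c.comm_le_bot_iff.1 ?_)
  by_contra hmov
  have hn : nOf H V ≤ ⁅W, Q⁆ := c.moved_ge p hne hWQ (fun h hh => mem_normalizer_of_cj (by
    rw [hW, hQ, cj_commutator, cj_of_mem_normalizer (c.hWn hh), cj_of_mem_normalizer (c.toSetup.HQ hh)])) hmov
  have hQV : Q ≤ normalizer (V : Set G) := c.toSetup.QT.trans (c.hTM.trans c.hMV)
  have hstep : ∀ j, W ≤ V ⊔ Q.lowerCentralSeries j := by
    intro j
    induction j with
    | zero => exact c.W_le.trans le_sup_right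
    | succ j ih =>
      set X := Q.lowerCentralSeries j
      refine c.W_eq.trans (sup_le le_sup_left (hn.trans ?_))
      rw [Subgroup.lowerCentralSeries_succ]
      refine commutator_le.2 fun w hw q hq => ?_
      have hw' := ih hw
      have hXV : X ≤ normalizer (V : Set G) := (Q.lowerCentralSeries_le_self j).trans hQV
      rw [sup_comm, ← SetLike.mem_coe, coe_mul_of_left_le_normalizer_right X V hXV] at hw'
      obtain ⟨x, hx, v, hv, rfl⟩ := hw'
      have hVX : ∀ z ∈ V ⊔ ⁅X, Q⁆, x * z * x⁻¹ ∈ V ⊔ ⁅X, Q⁆ := by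
        intro z hz
        have hxn : x ∈ normalizer ((V ⊔ ⁅X, Q⁆ : Subgroup G) : Set G) := by
          refine le_normalizer_sup (X := X) ?_ ?_ hx
          · exact fun y hy => (cj_of_mem_normalizer (hXV hy)).le.trans le_sup_left
          · intro y hy
            have e1 : cj y X = X := cj_of_mem_normalizer (le_normalizer hy)
            have e2 : cj y Q = Q := cj_of_mem_normalizer (le_normalizer (Q.lowerCentralSeries_le_self j hy))
            rw [cj_commutator, e1, e2]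
            exact le_sup_right
        exact (mem_normalizer_iff.1 hxn z).1 hz
      rw [show ⁅x * v, q⁆ = x * ⁅v, q⁆ * x⁻¹ * ⁅x, q⁆ by simp only [commutatorElement_def]; group]
      refine mul_mem (hVX _ (mem_sup_left ?_)) (mem_sup_right (commutator_mem_commutator hx hq))
      exact commutator_le_left_of_normalize hQV (commutator_mem_commutator hv hq)
  haveI : Fact (Nat.Prime 2) := ⟨Nat.prime_two⟩
  haveI := ((Cfsg.Lib.JComp.isPGroup_pCoreOf H : IsPGroup 2 Q)).isNilpotent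
  obtain ⟨n, hn0⟩ := (isNilpotent_iff_lowerCentralSeries Q).1 inferInstance
  have hWV : W ≤ V := by
    have := hstep n
    rwa [hn0, sup_bot_eq] at this
  refine c.hKne (le_antisymm c.hKH fun h hh => c.toSetup.NV (mem_inf.2 ⟨hh, ?_⟩))
  have e : W = V := le_antisymm hWV (le_wj H V)
  exact e ▸ c.hWn hh

/-- conjugating the second entry by the residual -/
theorem shift_mem {w q y : G} (hw : w ∈ wj H V) (hq : q ∈ Cfsg.pCoreOf 2 H) (hy : y ∈ Cfsg.oddGenerated H)
    (hWQ : ⁅wj H V, Cfsg.pCoreOf 2 H⁆ ≤ wcOf H V) :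
    ⁅y⁻¹ * w * y, q⁆ = ⁅w, y * q * y⁻¹⁆ ∧ ⁅w, y * q * y⁻¹⁆ = ⁅⁅y⁻¹, w⁆, q⁆ * ⁅w, q⁆ := by
  have hyH := oddGenerated_le H hy
  have hw' : y⁻¹ * w * y ∈ wj H V := by
    have := (mem_normalizer_iff.1 (c.hWn (inv_mem hyH)) w).1 hw
    rwa [inv_inv] at this
  have hfix := mem_centralizer_iff.1 (hWQ (commutator_mem_commutator hw' hq)).2 y hy
  have e1 : ⁅y⁻¹ * w * y, q⁆ = ⁅w, y * q * y⁻¹⁆ := by
    calc ⁅y⁻¹ * w * y, q⁆ = y * ⁅y⁻¹ * w * y, q⁆ * y⁻¹ := by rw [hfix, mul_inv_cancel_right]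
      _ = _ := by simp only [commutatorElement_def]; group
  refine ⟨e1, ?_⟩
  rw [← e1]
  have hn : ⁅y⁻¹, w⁆ ∈ nOf H V := by
    rw [← commutatorElement_inv w y⁻¹]
    exact inv_mem (commutator_mem_commutator hw (inv_mem hy))
  have hcomm : ⁅y⁻¹, w⁆ * ⁅w, q⁆ = ⁅w, q⁆ * ⁅y⁻¹, w⁆ :=
    Cfsg.Lib.ElemToolkit.comm_of c.W_el.1 (c.n_le hn) (hWQ (commutator_mem_commutator hw hq)).1
  have hcomm2 : ⁅⁅y⁻¹, w⁆, q⁆ * ⁅w, q⁆ = ⁅w, q⁆ * ⁅⁅y⁻¹, w⁆, q⁆ :=
    Cfsg.Lib.ElemToolkit.comm_of c.W_el.1 (hWQ (commutator_mem_commutator (c.n_le hn) hq)).1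
      (hWQ (commutator_mem_commutator hw hq)).1
  calc ⁅y⁻¹ * w * y, q⁆ = ⁅⁅y⁻¹, w⁆ * w, q⁆ := by
        congr 1; rw [commutatorElement_def]; group
    _ = ⁅y⁻¹, w⁆ * ⁅w, q⁆ * ⁅y⁻¹, w⁆⁻¹ * ⁅⁅y⁻¹, w⁆, q⁆ := by simp only [commutatorElement_def]; group
    _ = _ := by rw [hcomm, mul_inv_cancel_right, hcomm2]

theorem Q_cent_n (p : PrePair T H V g) (hne : ¬ cj g (wj H V) ≤ Cfsg.pCoreOf 2 H) :
    Cfsg.pCoreOf 2 H ≤ centralizer (nOf H V : Set G) := by
  haveI : Fact (Nat.Prime 2) := ⟨Nat.prime_two⟩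
  set Q := Cfsg.pCoreOf 2 H with hQ
  set Y := Cfsg.oddGenerated H with hY
  have hWQ := c.comm_Q_le p hne
  by_contra hnot
  set N₁ := ⁅nOf H V, Q⁆ with hN₁
  have hN₁wc : N₁ ≤ wcOf H V := (commutator_mono c.n_le le_rfl).trans hWQ
  have hN₁ne : N₁ ≠ ⊥ := fun h => hnot (le_centralizer_iff.1 (commutator_eq_bot_iff_le_centralizer.1 h))
  have hN₁n : H ≤ normalizer (N₁ : Set G) := fun h hh => mem_normalizer_of_cj (by
    rw [hN₁, hQ, cj_commutator, cj_of_mem_normalizer (c.H_n hh), cj_of_mem_normalizer (c.toSetup.HQ hh)])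
  obtain ⟨M, hMN, hMne, hMn, htwo⟩ := exists_two T.2 (c.sub_el (hN₁wc.trans inf_le_left)) hN₁ne
    (c.hTH.trans hN₁n) (hN₁wc.trans inf_le_right)
  have hHM : H ≤ normalizer (M : Set G) := c.H_sup.ge.trans hMn
  set A := ⁅Q, Y⁆ with hA
  have hAY : A ≤ Y := by
    rw [hA, commutator_comm]
    exact commutator_le_left_of_normalize ((map_subtype_le _).trans (le_normalizer_oddGenerated H))
  have hAQ : A ≤ Q := commutator_le_left_of_normalize ((oddGenerated_le H).trans c.toSetup.HQ)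
  have hAwc : ∀ a ∈ A, ∀ x ∈ wcOf H V, a * x = x * a := fun a ha x hx => mem_centralizer_iff.1 hx.2 a (hAY ha)
  have hHA : H ≤ normalizer (A : Set G) := fun h hh => mem_normalizer_of_cj (by
    rw [hA, hY, hQ, cj_commutator, cj_of_mem_normalizer (c.toSetup.HQ hh),
      cj_of_mem_normalizer (le_normalizer_oddGenerated H hh)])
  -- values of the pairing
  have hWA : ∀ w ∈ wj H V, ∀ a ∈ A, ⁅w, a⁆ ∈ N₁ := by
    intro w hw
    let D : Subgroup G :=
      { carrier := {a | a ∈ H ∧ ⁅w, a⁆ ∈ N₁}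
        one_mem' := ⟨one_mem _, by rw [commutatorElement_one_right]; exact one_mem _⟩
        mul_mem' := fun {a b} ha hb => ⟨mul_mem ha.1 hb.1, by
          rw [show ⁅w, a * b⁆ = ⁅w, a⁆ * (a * ⁅w, b⁆ * a⁻¹) by simp only [commutatorElement_def]; group]
          exact mul_mem ha.2 ((mem_normalizer_iff.1 (hN₁n ha.1) _).1 hb.2)⟩
        inv_mem' := fun {a} ha => ⟨inv_mem ha.1, by
          rw [show ⁅w, a⁻¹⁆ = a⁻¹ * ⁅w, a⁆⁻¹ * a⁻¹⁻¹ by simp only [commutatorElement_def]; group]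
          exact (mem_normalizer_iff.1 (hN₁n (inv_mem ha.1)) _).1 (inv_mem ha.2)⟩ }
    have hle : A ≤ D := commutator_le.2 fun q hq y hy => by
      have hyH := oddGenerated_le H hy
      have hQH : Q ≤ H := map_subtype_le _
      refine ⟨hQH (commutator_le_left_of_normalize ((oddGenerated_le H).trans c.toSetup.HQ)
        (commutator_mem_commutator hq hy)), ?_⟩
      have hq' : y * q⁻¹ * y⁻¹ ∈ Q := (mem_normalizer_iff.1 (c.toSetup.HQ hyH) _).1 (inv_mem hq)
      rw [show ⁅q, y⁆ = q * (y * q⁻¹ * y⁻¹) by rw [commutatorElement_def]; group,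
        show ⁅w, q * (y * q⁻¹ * y⁻¹)⁆ = ⁅w, q⁆ * (q * ⁅w, y * q⁻¹ * y⁻¹⁆ * q⁻¹) by
          simp only [commutatorElement_def]; group,
        (c.shift_mem hw (inv_mem hq) hy hWQ).2,
        show ⁅w, q⁆ * (q * (⁅⁅y⁻¹, w⁆, q⁻¹⁆ * ⁅w, q⁻¹⁆) * q⁻¹) =
          (⁅w, q⁆ * (q * ⁅⁅y⁻¹, w⁆, q⁻¹⁆ * q⁻¹) * ⁅w, q⁆⁻¹) by simp only [commutatorElement_def]; group]
      have hn : ⁅y⁻¹, w⁆ ∈ nOf H V := by
        rw [← commutatorElement_inv w y⁻¹]
        exact inv_mem (commutator_mem_commutator hw (inv_mem hy))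
      have h1 : q * ⁅⁅y⁻¹, w⁆, q⁻¹⁆ * q⁻¹ ∈ N₁ :=
        (mem_normalizer_iff.1 (hN₁n (hQH hq)) _).1 (commutator_mem_commutator hn (inv_mem hq))
      rw [Cfsg.Lib.ElemToolkit.comm_of c.W_el.1 (hWQ (commutator_mem_commutator hw hq)).1
        ((hN₁wc h1).1), mul_inv_cancel_right]
      exact h1
    exact fun a ha => (hle ha).2
  -- the left kernel
  let L : Subgroup G := wj H V ⊓
    { carrier := {w | w ∈ wj H V ∧ ∀ a ∈ A, ⁅w, a⁆ ∈ M}
      one_mem' := ⟨one_mem _, fun a _ => by rw [commutatorElement_one_left]; exact one_mem _⟩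
      mul_mem' := fun {w v} hw hv => ⟨mul_mem hw.1 hv.1, fun a ha => by
        rw [show ⁅w * v, a⁆ = w * ⁅v, a⁆ * w⁻¹ * ⁅w, a⁆ by simp only [commutatorElement_def]; group,
          Cfsg.Lib.ElemToolkit.comm_of c.W_el.1 hw.1 (hN₁wc (hWA v hv.1 a ha)).1, mul_inv_cancel_right]
        exact mul_mem (hv.2 a ha) (hw.2 a ha)⟩
      inv_mem' := fun {w} hw => by
        have e : w⁻¹ = w := inv_eq_of_mul_eq_one_right (by rw [← pow_two]; exact c.W_el.2 w hw.1)
        rw [e]; exact hw }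
  have hLn : H ≤ normalizer (L : Set G) := Cfsg.Lib.JComp.le_normalizer_of_conj fun h hh x hx => by
    refine mem_inf.2 ⟨(mem_normalizer_iff.1 (c.hWn hh) x).1 hx.1, (mem_normalizer_iff.1 (c.hWn hh) x).1 hx.1,
      fun a ha => ?_⟩
    have ha' : h⁻¹ * a * h ∈ A := by
      have := (mem_normalizer_iff.1 (hHA (inv_mem hh)) a).1 ha
      rwa [inv_inv] at this
    rw [show ⁅h * x * h⁻¹, a⁆ = h * ⁅x, h⁻¹ * a * h⁆ * h⁻¹ by simp only [commutatorElement_def]; group]
    exact (mem_normalizer_iff.1 (hHM hh) _).1 (hx.2.2 _ ha')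
  have hLY : L ≤ wcOf H V := by
    refine le_inf inf_le_left (c.comm_le_bot_iff.1 ?_)
    by_contra hmov
    have hNL := c.moved_ge p hne (inf_le_left : L ≤ wj H V) hLn hmov
    refine hMne (le_antisymm hMN ?_)
    -- then the whole commutator falls into `M`
    let L₀ : Subgroup G := nOf H V ⊓
      { carrier := {n | n ∈ nOf H V ∧ ∀ q ∈ Q, ⁅n, q⁆ ∈ M}
        one_mem' := ⟨one_mem _, fun a _ => by rw [commutatorElement_one_left]; exact one_mem _⟩
        mul_mem' := fun {w v} hw hv => ⟨mul_mem hw.1 hv.1, fun a ha => by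
          rw [show ⁅w * v, a⁆ = w * ⁅v, a⁆ * w⁻¹ * ⁅w, a⁆ by simp only [commutatorElement_def]; group,
            Cfsg.Lib.ElemToolkit.comm_of c.W_el.1 (c.n_le hw.1) (hN₁wc (hMN (hv.2 a ha))).1, mul_inv_cancel_right]
          exact mul_mem (hv.2 a ha) (hw.2 a ha)⟩
        inv_mem' := fun {w} hw => by
          have e : w⁻¹ = w := inv_eq_of_mul_eq_one_right (by rw [← pow_two]; exact c.W_el.2 w (c.n_le hw.1))
          rw [e]; exact hw }
    have hL₀n : H ≤ normalizer (L₀ : Set G) := Cfsg.Lib.JComp.le_normalizer_of_conj fun h hh x hx => by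
      refine mem_inf.2 ⟨(mem_normalizer_iff.1 (c.H_n hh) x).1 hx.1, (mem_normalizer_iff.1 (c.H_n hh) x).1 hx.1,
        fun q hq => ?_⟩
      have hq' : h⁻¹ * q * h ∈ Q := by
        have := (mem_normalizer_iff.1 (c.toSetup.HQ (inv_mem hh)) q).1 hq
        rwa [inv_inv] at this
      rw [show ⁅h * x * h⁻¹, q⁆ = h * ⁅x, h⁻¹ * q * h⁆ * h⁻¹ by simp only [commutatorElement_def]; group]
      exact (mem_normalizer_iff.1 (hHM hh) _).1 (hx.2.2 _ hq')
    have hnL : nOf H V ≤ L₀ := (c.n_perfect p hne).trans (commutator_le_of_odd hL₀n fun n hn y hy ho => by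
      have hyY : y ∈ Y := subset_closure ⟨hy, ho⟩
      have hny : ⁅n, y⁆ ∈ nOf H V :=
        commutator_le_left_of_normalize ((oddGenerated_le H).trans c.H_n) (commutator_mem_commutator hn hyY)
      refine mem_inf.2 ⟨hny, hny, fun q hq => ?_⟩
      -- the pairing vanishes on `n`
      have h2 := (c.shift_mem (c.n_le hn) hq (inv_mem hyY) hWQ).2
      rw [inv_inv] at h2
      have ha : y⁻¹ * q * y * q⁻¹ ∈ A := by
        rw [hA, commutator_comm, show y⁻¹ * q * y * q⁻¹ = ⁅y⁻¹, q⁆ by rw [commutatorElement_def]; group]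
        exact commutator_mem_commutator (inv_mem hyY) hq
      have h3 : ⁅n, y⁻¹ * q * y⁆ = ⁅n, y⁻¹ * q * y * q⁻¹⁆ * ⁅n, q⁆ := by
        calc ⁅n, y⁻¹ * q * y⁆ = ⁅n, (y⁻¹ * q * y * q⁻¹) * q⁆ := by rw [inv_mul_cancel_right]
          _ = ⁅n, y⁻¹ * q * y * q⁻¹⁆ * ((y⁻¹ * q * y * q⁻¹) * ⁅n, q⁆ * (y⁻¹ * q * y * q⁻¹)⁻¹) := by
              simp only [commutatorElement_def]; group
          _ = _ := by rw [hAwc _ ha _ (hWQ (commutator_mem_commutator (c.n_le hn) hq)), mul_inv_cancel_right]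
      rw [h3] at h2
      have h4 : ⁅⁅y, n⁆, q⁆ ∈ M := (mul_right_cancel h2) ▸ ((hNL hn).2.2 _ ha)
      have h5 : ⁅n, y⁆ = ⁅y, n⁆ := by
        rw [← commutatorElement_inv y n]
        exact inv_eq_of_mul_eq_one_right (by
          rw [← pow_two, ← commutatorElement_inv n y, inv_pow, c.W_el.2 _ (c.n_le hny), inv_one])
      rw [h5]
      exact h4)
    exact commutator_le.2 fun n hn q hq => (hnL hn).2.2 q hq
  have hpair := pairing_le c.W_el (hN₁wc.trans inf_le_left) htwo (fun a ha x hx => hAwc a ha x (hN₁wc hx))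
    hWA (L := L) (fun w hw h => ⟨hw, hw, h⟩)
  have hAmove : ¬ A ≤ centralizer (wj H V : Set G) := fun hc => c.moved_W <| c.comm_le_bot_iff.2 <|
    (show wj H V ≤ L from fun w hw => ⟨hw, hw, fun a ha => by
      rw [commutatorElement_eq_one_iff_mul_comm.2 (mem_centralizer_iff.1 (hc ha) w hw)]
      exact one_mem _⟩).trans (hLY.trans inf_le_right)
  have hquad : ⁅⁅wj H V, A⁆, A⁆ = ⊥ := by
    rw [commutator_eq_bot_iff_le_centralizer]
    exact (commutator_le.2 hWA).trans fun x hx => mem_centralizer_iff.2 fun a ha => hAwc a ha x (hN₁wc hx)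
  have hb := c.quad_bound hAQ hquad hAmove
  have hle : (centralizer (A : Set G)).relIndex (wj H V) ≤ L.relIndex (wj H V) := by
    rw [← inf_relIndex_left (wj H V)]
    refine relIndex_le_of_le_left (fun x hx => mem_inf.2 ⟨hx.1, ?_⟩) FiniteIndex.index_ne_zero
    exact mem_centralizer_iff.2 fun a ha => hAwc a ha x (hLY hx)
  have := hb.trans_le (hle.trans hpair)
  exact absurd this (not_lt.2 (Nat.le_self_pow two_ne_zero _))

/-- the elements acting trivially on the moved chief section -/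
theorem kernel_key (p : PrePair T H V g) (hne : ¬ cj g (wj H V) ≤ Cfsg.pCoreOf 2 H) {h : G} (hh : h ∈ H)
    (hN : ∀ n ∈ nOf H V, ⁅n, h⁆ ∈ wcOf H V) :
    h ∈ centralizer (nOf H V : Set G) ∧ ∀ w ∈ wj H V, ⁅w, h⁆ ∈ wcOf H V := by
  haveI : Fact (Nat.Prime 2) := ⟨Nat.prime_two⟩
  have hQN := c.Q_cent_n p hne
  have hWQ := c.comm_Q_le p hne
  set F := fixMod H (wcOf H V) c.H_wc (nOf H V : Set G) with hF
  have hhF : h ∈ F := ⟨hh, fun n hn => by
    rw [← commutatorElement_inv n h]; exact inv_mem (hN n hn)⟩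
  obtain ⟨o, t, ho, ht, hot, hodd, ht2⟩ := odd_mul_two h
  have hoF : o ∈ F := zpowers_le.2 hhF ho
  have htF : t ∈ F := zpowers_le.2 hhF ht
  have hoY : o ∈ Cfsg.oddGenerated H := subset_closure ⟨hoF.1, hodd⟩
  have htw : ∀ {x : G}, x ∈ wj H V → ∃ k : ℕ, ⁅o, x⁆ ^ 2 ^ k = 1 := fun {x} hx =>
    mul_self_pow_two (isPGroup_elem c.W_el) (by
      rw [← commutatorElement_inv x o]
      exact inv_mem (commutator_le_left_of_normalize c.hWn (commutator_mem_commutator hx hoF.1)))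
  have hoN : ∀ n ∈ nOf H V, o * n = n * o := fun n hn => commutatorElement_eq_one_iff_mul_comm.1
    (fixed_of_odd hodd (mem_centralizer_iff.1 (hoF.2 n hn).2 o hoY) (htw (c.n_le hn)))
  have hoW : ∀ w ∈ wj H V, o * w = w * o := fun w hw => commutatorElement_eq_one_iff_mul_comm.1
    (fixed_of_odd hodd (hoN _ (by rw [← commutatorElement_inv w o]; exact inv_mem (commutator_mem_commutator hw hoY)))
      (htw hw))
  have hFK : F ≤ K := c.toSetup.kernel_le_K (fun x hx => hx.1)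
    (Cfsg.Lib.JComp.le_normalizer_of_conj fun a ha x hx => fixMod_normal c.H_n hx ha) fun hle => c.n_moved <| by
    have h1 : ⁅nOf H V, Cfsg.oddGenerated H⁆ ≤ wcOf H V := commutator_le.2 fun n hn y hy => by
      rw [← commutatorElement_inv y n]; exact inv_mem ((hle hy).2 n hn)
    exact c.moved_trans c.n_le c.H_n (le_normalizer_bot H) h1 (c.comm_le_bot_iff.2 inf_le_right)
  have htQ : t ∈ Cfsg.pCoreOf 2 H := c.toSetup.normal_le hFK
    (Cfsg.Lib.JComp.le_normalizer_of_conj fun a ha x hx => fixMod_normal c.H_n hx ha) ht2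
    (zpowers_le.2 htF) (mem_zpowers t)
  refine ⟨hot ▸ mul_mem (mem_centralizer_iff.2 fun n hn => (hoN n hn).symm) (hQN htQ), fun w hw => ?_⟩
  rw [← hot, show ⁅w, o * t⁆ = ⁅w, o⁆ * (o * ⁅w, t⁆ * o⁻¹) by simp only [commutatorElement_def]; group,
    commutatorElement_eq_one_iff_mul_comm.2 (hoW w hw).symm, one_mul]
  exact (mem_normalizer_iff.1 (c.H_wc hoF.1) _).1 (hWQ (commutator_mem_commutator hw htQ))

theorem kernel_two (p : PrePair T H V g) (hne : ¬ cj g (wj H V) ≤ Cfsg.pCoreOf 2 H) {S : Subgroup G}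
    (hS : IsPGroup 2 S) (hSH : S ≤ H) (hSN : S ≤ centralizer (nOf H V : Set G)) : S ≤ Cfsg.pCoreOf 2 H :=
  c.toSetup.normal_le (C := H ⊓ centralizer (nOf H V : Set G))
    (c.toSetup.kernel_le_K inf_le_left (fun h hh => mem_normalizer_of_cj (by
      rw [cj_inf, cj_centralizer, cj_of_mem_normalizer (le_normalizer hh), cj_of_mem_normalizer (c.H_n hh)]))
      fun hle => c.n_moved (c.comm_le_bot_iff.2 (le_centralizer_iff.1 (hle.trans inf_le_right))))
    (fun h hh => mem_normalizer_of_cj (by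
      rw [cj_inf, cj_centralizer, cj_of_mem_normalizer (le_normalizer hh), cj_of_mem_normalizer (c.H_n hh)]))
    hS (le_inf hSH hSN)

/-- the chief section -/
theorem n_chief (p : PrePair T H V g) (hne : ¬ cj g (wj H V) ≤ Cfsg.pCoreOf 2 H) :
    IsChief H (nOf H V) (nOf H V ⊓ wcOf H V) ∧
      ¬ ⁅nOf H V, Cfsg.oddGenerated H⁆ ≤ nOf H V ⊓ wcOf H V := by
  constructor
  · intro X hMX hXN hX
    by_cases hm : ⁅X, Cfsg.oddGenerated H⁆ ≤ ⊥
    · exact Or.inl (le_antisymm (le_inf hXN (le_inf (hXN.trans c.n_le) (c.comm_le_bot_iff.1 hm))) hMX)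
    · exact Or.inr (le_antisymm hXN (c.moved_ge p hne (hXN.trans c.n_le) hX hm))
  · exact fun h => c.n_moved (c.moved_trans c.n_le c.H_n (le_normalizer_bot H) h
      (c.comm_le_bot_iff.2 (inf_le_right.trans inf_le_right)))

end CaseII

/-- the exact translate -/
structure Exact (T : Sylow 2 G) (H V D B : Subgroup G) : Prop where
  hWQ : ⁅wj H V, Cfsg.pCoreOf 2 H⁆ ≤ wcOf H V
  hQN : Cfsg.pCoreOf 2 H ≤ centralizer (nOf H V : Set G)
  hker : ∀ h ∈ H, (∀ n ∈ nOf H V, ⁅n, h⁆ ∈ wcOf H V) →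
    h ∈ centralizer (nOf H V : Set G) ∧ ∀ w ∈ wj H V, ⁅w, h⁆ ∈ wcOf H V
  hchief : IsChief H (nOf H V) (nOf H V ⊓ wcOf H V)
  hmov : ¬ ⁅nOf H V, Cfsg.oddGenerated H⁆ ≤ nOf H V ⊓ wcOf H V
  hkT : ∀ S : Subgroup G, IsPGroup 2 S → S ≤ H → S ≤ centralizer (nOf H V : Set G) → S ≤ Cfsg.pCoreOf 2 H
  hDT : D ≤ (T : Subgroup G)
  hD : Cfsg.IsElementaryAbelian 2 D
  hDone : ¬ D ≤ Cfsg.pCoreOf 2 H
  hBW : B ≤ wj H V
  hWB : wj H V ≤ nOf H V ⊔ B
  hBD : B ≤ centralizer (D : Set G)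
  hwcB : wcOf H V ≤ B
  hquad : ⁅⁅wj H V, D⁆, D⁆ = ⊥
  hidx : B.relIndex (nOf H V) = (Cfsg.pCoreOf 2 H).relIndex D
  hfix : ∀ n ∈ nOf H V, (∀ x ∈ D, ⁅n, x⁆ ∈ wcOf H V) → n ∈ B
  hperf : nOf H V ≤ ⁅nOf H V, Cfsg.oddGenerated H⁆

namespace CaseII

variable {T : Sylow 2 G} {M₀ H K V : Subgroup G} (c : CaseII T M₀ H K V) {g : G}
include c

theorem sup_relIndex (p : PrePair T H V g) :
    (bOf H V g).relIndex (nOf H V) * (nOf H V ⊔ bOf H V g).relIndex (wj H V) ≤ alph H V g := by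
  rw [alph_eq, ← relIndex_mul_relIndex (bOf H V g) (nOf H V ⊔ bOf H V g) (wj H V) le_sup_right
    (sup_le c.n_le inf_le_left)]
  exact Nat.mul_le_mul_right _ (relIndex_le_right _ le_sup_left)

theorem cj_n_T (p : PrePair T H V g) : cj g⁻¹ (nOf H V) ≤ (T : Subgroup G) := (map_mono c.n_le).trans p.le₂

theorem delta_data (p : PrePair T H V g) (hne : ¬ cj g (wj H V) ≤ Cfsg.pCoreOf 2 H) :
    (alph H V g ≤ (bOf H V g⁻¹).relIndex (nOf H V) *
        (centralizer (wj H V : Set G)).relIndex (cj g⁻¹ (nOf H V) ⊓ Cfsg.pCoreOf 2 H)) ∧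
      ((cj g⁻¹ (nOf H V) ⊓ Cfsg.pCoreOf 2 H ≤ centralizer (wj H V : Set G)) ∨
        ((centralizer (wj H V : Set G)).relIndex (cj g⁻¹ (nOf H V) ⊓ Cfsg.pCoreOf 2 H)) ^ 2 <
          (nOf H V ⊔ bOf H V g).relIndex (wj H V)) := by
  set D := cj g⁻¹ (nOf H V) ⊓ Cfsg.pCoreOf 2 H with hD
  constructor
  · have h1 : alph H V g ≤ (centralizer (cj g (wj H V) : Set G)).relIndex (nOf H V) := by
      have := c.noo_translate p.symm (X := centralizer (cj g (wj H V) : Set G) ⊓ nOf H V) c.n_le bot_le c.H_n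
        (le_normalizer_bot H) c.n_moved (le_bot_iff.2 (commutator_eq_bot_iff_le_centralizer.2 (by
          rw [inv_inv]; exact inf_le_left)))
      rwa [inv_inv, inf_relIndex_right] at this
    refine h1.trans (le_of_eq ?_)
    rw [← relIndex_cj g⁻¹ (centralizer (cj g (wj H V) : Set G)), cj_centralizer, cj_inv_cj]
    set N' := cj g⁻¹ (nOf H V)
    have hle : N' ⊓ centralizer (wj H V : Set G) ≤ D := le_inf inf_le_left (c.centralizing_le
      (((isPGroup_elem (c.sub_el c.n_le)).map _).to_le inf_le_left) (inf_le_left.trans ((c.cj_n_T p).trans c.hTH))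
      inf_le_right)
    rw [← inf_relIndex_left N', ← relIndex_mul_relIndex _ D N' hle inf_le_left, mul_comm]
    congr 1
    · rw [hD, inf_relIndex_left, bOf, ← inf_relIndex_right (wj H V ⊓ _) (nOf H V), inf_comm (wj H V), inf_assoc,
        inf_eq_right.2 c.n_le, inf_relIndex_right, inv_inv, ← relIndex_cj g⁻¹ _ (nOf H V), cj_inv_cj]
    · rw [← inf_relIndex_right (N' ⊓ centralizer (wj H V : Set G)) D, ← inf_relIndex_right (centralizer (wj H V : Set G)) D]
      congr 1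
      refine le_antisymm (fun x hx => mem_inf.2 ⟨hx.1.2, hx.2⟩) fun x hx => mem_inf.2 ⟨⟨hx.2.1, hx.1⟩, hx.2⟩
  · by_cases h : D ≤ centralizer (wj H V : Set G)
    · exact Or.inl h
    refine Or.inr (lt_of_lt_of_le (c.quad_bound inf_le_right
      (c.quad_translate' p.symm (inf_le_left.trans (map_mono c.n_le))) h) ?_)
    rw [← inf_relIndex_left (wj H V) (centralizer (D : Set G))]
    refine relIndex_le_of_le_left (le_inf (sup_le c.n_le inf_le_left) (sup_le ?_ ?_)) FiniteIndex.index_ne_zero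
    · exact le_centralizer_iff.1 (inf_le_right.trans (c.Q_cent_n p hne))
    · refine (inf_le_right : bOf H V g ≤ cj g⁻¹ (Cfsg.pCoreOf 2 H)).trans ((map_mono (c.Q_cent_n p hne)).trans ?_)
      show cj g⁻¹ (centralizer (nOf H V : Set G)) ≤ _
      rw [cj_centralizer]
      exact centralizer_le inf_le_left

theorem n_out (p : PrePair T H V g) (hne : ¬ cj g (wj H V) ≤ Cfsg.pCoreOf 2 H) :
    1 < (bOf H V g).relIndex (nOf H V) := by
  refine Nat.one_lt_iff_ne_zero_and_ne_one.2 ⟨FiniteIndex.index_ne_zero, fun h1 => ?_⟩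
  have hNB : nOf H V ≤ bOf H V g := relIndex_eq_one.1 h1
  have hgN : cj g (nOf H V) ≤ Cfsg.pCoreOf 2 H :=
    (map_mono (hNB.trans inf_le_right)).trans (cj_cj_inv g _).le
  by_cases hcW : cj g (nOf H V) ≤ centralizer (wj H V : Set G)
  · refine c.out_symm p hne (c.kernel_two p hne ((isPGroup_elem c.W_el).map _) (p.le₂.trans c.hTH) ?_)
    rw [le_centralizer_iff]
    have h2 := map_mono (f := (MulAut.conj g⁻¹).toMonoidHom) hcW
    change cj g⁻¹ (cj g (nOf H V)) ≤ cj g⁻¹ (centralizer (wj H V : Set G)) at h2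
    rwa [cj_inv_cj, cj_centralizer] at h2
  have hb := c.quad_bound hgN (c.quad_translate' p (map_mono c.n_le)) hcW
  have e1 : (centralizer (wj H V : Set G)).relIndex (cj g (nOf H V)) =
      (centralizer (cj g⁻¹ (wj H V) : Set G)).relIndex (nOf H V) := by
    rw [← relIndex_cj g (centralizer (cj g⁻¹ (wj H V) : Set G)), cj_centralizer, cj_cj_inv]
  have h3 : alph H V g⁻¹ ≤ (centralizer (cj g⁻¹ (wj H V) : Set G)).relIndex (nOf H V) := by
    have := c.noo_translate p (X := centralizer (cj g⁻¹ (wj H V) : Set G) ⊓ nOf H V) c.n_le bot_le c.H_n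
      (le_normalizer_bot H) c.n_moved (le_bot_iff.2 (commutator_eq_bot_iff_le_centralizer.2 inf_le_left))
    rwa [inf_relIndex_right] at this
  have h4 : (centralizer (cj g (nOf H V) : Set G)).relIndex (wj H V) ≤ alph H V g⁻¹ := by
    rw [← relIndex_cj g⁻¹, cj_centralizer, cj_inv_cj, alph]
    exact relIndex_le_of_le_left (c.Q_cent_n p hne) FiniteIndex.index_ne_zero
  rw [e1] at hb
  have h5 := Nat.le_self_pow two_ne_zero ((centralizer (cj g⁻¹ (wj H V) : Set G)).relIndex (nOf H V))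
  omega

set_option maxHeartbeats 800000 in
theorem exists_exact (p : PrePair T H V g) (hne : ¬ cj g (wj H V) ≤ Cfsg.pCoreOf 2 H) :
    Exact T H V (cj g⁻¹ (nOf H V)) (bOf H V g) := by
  have hne' := c.out_symm p hne
  have hQN := c.Q_cent_n p hne
  have hn1 := c.n_out p hne
  have hn1' := c.n_out p.symm hne'
  have s1 := c.sup_relIndex p
  have s2 := c.sup_relIndex p.symm
  obtain ⟨d1, d2⟩ := c.delta_data p hne
  obtain ⟨e1, e2⟩ := c.delta_data p.symm hne'
  have r1 : 0 < (nOf H V ⊔ bOf H V g).relIndex (wj H V) := Nat.pos_of_ne_zero FiniteIndex.index_ne_zero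
  have r2 : 0 < (nOf H V ⊔ bOf H V g⁻¹).relIndex (wj H V) := Nat.pos_of_ne_zero FiniteIndex.index_ne_zero
  simp only [inv_inv] at e1 e2 s2
  have hbeta : (bOf H V g).relIndex (nOf H V) ≤ alph H V g :=
    (Nat.le_mul_of_pos_right _ r1).trans s1
  have hbeta' : (bOf H V g⁻¹).relIndex (nOf H V) ≤ alph H V g⁻¹ :=
    (Nat.le_mul_of_pos_right _ r2).trans s2
  set δ := (centralizer (wj H V : Set G)).relIndex (cj g⁻¹ (nOf H V) ⊓ Cfsg.pCoreOf 2 H) with hδ
  set δ' := (centralizer (wj H V : Set G)).relIndex (cj g (nOf H V) ⊓ Cfsg.pCoreOf 2 H) with hδ'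
  set β := (bOf H V g).relIndex (nOf H V)
  set β' := (bOf H V g⁻¹).relIndex (nOf H V)
  set a := alph H V g
  set a' := alph H V g⁻¹
  have hδpos : 0 < δ := Nat.pos_of_ne_zero FiniteIndex.index_ne_zero
  have hδ'pos : 0 < δ' := Nat.pos_of_ne_zero FiniteIndex.index_ne_zero
  have q1 : δ ^ 2 * β ≤ a := by
    rcases d2 with h | h
    · rw [hδ, relIndex_eq_one.2 h, one_pow, one_mul]; exact hbeta
    · exact le_trans (by rw [mul_comm]; exact Nat.mul_le_mul_left _ h.le) s1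
  have q2 : δ' ^ 2 * β' ≤ a' := by
    rcases e2 with h | h
    · rw [hδ', relIndex_eq_one.2 h, one_pow, one_mul]; exact hbeta'
    · exact le_trans (by rw [mul_comm]; exact Nat.mul_le_mul_left _ h.le) s2
  have u1 : δ * β ≤ β' := Nat.le_of_mul_le_mul_left (show δ * (δ * β) ≤ δ * β' by nlinarith) hδpos
  have u2 : δ' * β' ≤ β := Nat.le_of_mul_le_mul_left (show δ' * (δ' * β') ≤ δ' * β by nlinarith) hδ'pos
  have hd : δ = 1 := by nlinarith
  have hd' : δ' = 1 := by nlinarith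
  rw [hd, one_mul] at u1
  rw [hd', one_mul] at u2
  rw [hd, mul_one] at d1
  rw [hd', mul_one] at e1
  have hsup : (nOf H V ⊔ bOf H V g).relIndex (wj H V) = 1 := by nlinarith
  have hDD : Cfsg.IsElementaryAbelian 2 (cj g⁻¹ (nOf H V)) :=
    Cfsg.Lib.FFModule.el_cj _ (c.sub_el c.n_le)
  have hBD : bOf H V g ≤ centralizer (cj g⁻¹ (nOf H V) : Set G) := by
    refine (inf_le_right : bOf H V g ≤ cj g⁻¹ (Cfsg.pCoreOf 2 H)).trans ((map_mono hQN).trans (le_of_eq ?_))
    show cj g⁻¹ (centralizer (nOf H V : Set G)) = _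
    rw [cj_centralizer]
  have hidx : β = (Cfsg.pCoreOf 2 H).relIndex (cj g⁻¹ (nOf H V)) := by
    have h : β' = (Cfsg.pCoreOf 2 H).relIndex (cj g⁻¹ (nOf H V)) := by
      show (bOf H V g⁻¹).relIndex (nOf H V) = _
      rw [bOf, ← inf_relIndex_right (wj H V ⊓ _) (nOf H V), inf_comm (wj H V), inf_assoc,
        inf_eq_right.2 c.n_le, inf_relIndex_right, inv_inv, ← relIndex_cj g⁻¹ _ (nOf H V), cj_inv_cj]
    omega
  have hfix : ∀ n ∈ nOf H V, (∀ x ∈ cj g⁻¹ (nOf H V), ⁅n, x⁆ ∈ wcOf H V) → n ∈ bOf H V g := by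
    let X : Subgroup G := nOf H V ⊓
      { carrier := {n | n ∈ nOf H V ∧ ∀ x ∈ cj g⁻¹ (nOf H V), ⁅n, x⁆ ∈ wcOf H V}
        one_mem' := ⟨one_mem _, fun a _ => by rw [commutatorElement_one_left]; exact one_mem _⟩
        mul_mem' := fun {w v} hw hv => ⟨mul_mem hw.1 hv.1, fun a ha => by
          rw [show ⁅w * v, a⁆ = w * ⁅v, a⁆ * w⁻¹ * ⁅w, a⁆ by simp only [commutatorElement_def]; group,
            Cfsg.Lib.ElemToolkit.comm_of c.W_el.1 (c.n_le hw.1) (hv.2 a ha).1, mul_inv_cancel_right]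
          exact mul_mem (hv.2 a ha) (hw.2 a ha)⟩
        inv_mem' := fun {w} hw => by
          have e : w⁻¹ = w := inv_eq_of_mul_eq_one_right (by rw [← pow_two]; exact c.W_el.2 w (c.n_le hw.1))
          rw [e]; exact hw }
    have h1 : (Cfsg.pCoreOf 2 H).relIndex (cj g⁻¹ (nOf H V)) ≤ X.relIndex (nOf H V) :=
      c.noo c.n_le inf_le_left c.H_n (fun h hh => mem_normalizer_of_cj (by
        rw [cj_inf, cj_of_mem_normalizer (c.H_n hh), cj_of_mem_normalizer (c.H_wc hh)]))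
        (c.n_chief p hne).2 ((c.cj_n_T p).trans c.hTH) hDD (commutator_le.2 fun n hn x hx => mem_inf.2
          ⟨commutator_le_left_of_normalize (((c.cj_n_T p).trans c.hTH).trans c.H_n)
            (commutator_mem_commutator hn.1 hx), hn.2.2 x hx⟩)
    have h2 : nOf H V ⊓ bOf H V g ≤ X := fun n hn => mem_inf.2 ⟨hn.1, hn.1, fun x hx => by
      rw [commutatorElement_eq_one_iff_mul_comm.2 (mem_centralizer_iff.1 (hBD hn.2) x hx).symm]
      exact one_mem _⟩
    have h3 : nOf H V ⊓ bOf H V g = X := by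
      have e3 := relIndex_mul_relIndex _ X (nOf H V) h2 inf_le_left
      rw [show (nOf H V ⊓ bOf H V g).relIndex (nOf H V) = β from inf_relIndex_left (nOf H V) (bOf H V g), hidx] at e3
      have h4 : 0 < X.relIndex (nOf H V) := Nat.pos_of_ne_zero FiniteIndex.index_ne_zero
      have h5 : (nOf H V ⊓ bOf H V g).relIndex X ≤ 1 :=
        Nat.le_of_mul_le_mul_right ((e3.le.trans h1).trans (one_mul _).ge) h4
      exact le_antisymm h2 (relIndex_eq_one.1
        (le_antisymm h5 (Nat.pos_of_ne_zero FiniteIndex.index_ne_zero)))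
    exact fun n hn hall => (h3.ge (mem_inf.2 ⟨hn, hn, hall⟩)).2
  have hWB : wj H V ≤ nOf H V ⊔ bOf H V g := relIndex_eq_one.1 hsup
  refine { hWQ := c.comm_Q_le p hne, hQN := hQN, hker := fun h hh hN => c.kernel_key p hne hh hN
           hchief := (c.n_chief p hne).1, hmov := (c.n_chief p hne).2,
           hkT := fun S h1 h2 h3 => c.kernel_two p hne h1 h2 h3, hDT := c.cj_n_T p, hD := hDD,
           hDone := fun h => by rw [relIndex_eq_one.2 h] at hidx; omega
           hBW := inf_le_left, hWB := hWB, hBD := hBD, hwcB := fun w hw => ?_,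
           hquad := c.quad_translate' p.symm (map_mono c.n_le), hidx := hidx, hfix := hfix, hperf := c.n_perfect p hne }
  have hw' := hWB hw.1
  rw [← SetLike.mem_coe, coe_mul_of_left_le_normalizer_right (nOf H V) (bOf H V g)
    (fun n hn => centralizer_le_normalizer _ (centralizer_le (inf_le_left : bOf H V g ≤ wj H V)
      ((el_le_centralizer c.W_el) (c.n_le hn))))] at hw'
  obtain ⟨n, hn, b, hb, rfl⟩ := hw'
  refine mul_mem (hfix n hn fun x hx => ?_) hb
  have hxH := c.hTH ((c.cj_n_T p) hx)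
  have e : ⁅n, x⁆ = ⁅n * b, x⁆ := by
    rw [show ⁅n * b, x⁆ = n * ⁅b, x⁆ * n⁻¹ * ⁅n, x⁆ by simp only [commutatorElement_def]; group,
      commutatorElement_eq_one_iff_mul_comm.2 (mem_centralizer_iff.1 (hBD hb) x hx).symm, mul_one,
      mul_inv_cancel, one_mul]
  rw [e]
  exact commutator_le_left_of_normalize c.H_wc (commutator_mem_commutator hw hxH)

end CaseII

end Cfsg.Lib.Qrc
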