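import Cfsg.Agent.QTKE.Qrc.Pair

/-!
The critical pair forces an exact action of a translate on the moved chief section.
-/

set_option autoImplicit false
set_option linter.unusedSectionVars false
set_option linter.style.haveILetI false

namespace Cfsg.Lib.Qrc

open Subgroup
open Cfsg.Lib.FFSLTwo (cj mem_cj)
open Cfsg.Lib.FFModule (conj_mem_cj cj_mul cj_one cj_inv_cj cj_cj_inv card_cj)
open scoped commutatorElement

universe u

variable {G : Type u} [Group G] [Finite G]

theorem le_normalizer_bot (H : Subgroup G) : H ≤ normalizer ((⊥ : Subgroup G) : Set G) :=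
  fun h _ => mem_normalizer_of_cj (Cfsg.Lib.FFModule.cj_bot h)

theorem odd_mul_two (h : G) : ∃ o t : G, o ∈ zpowers h ∧ t ∈ zpowers h ∧ o * t = h ∧ Odd (orderOf o) ∧
    IsPGroup 2 ↥(zpowers t) := by
  obtain ⟨a, m, hm, hord⟩ := Nat.exists_eq_two_pow_mul_odd (orderOf_pos h).ne'
  have hg : Int.gcd ((2 : ℤ) ^ a) (m : ℤ) = 1 := by
    rw [show ((2 : ℤ) ^ a) = ((2 ^ a : ℕ) : ℤ) by push_cast; rfl, Int.gcd_natCast_natCast]
    exact (Nat.coprime_two_left.2 hm).pow_left a
  have hbez := Int.gcd_eq_gcd_ab ((2 : ℤ) ^ a) (m : ℤ)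
  rw [hg] at hbez
  set u := Int.gcdA ((2 : ℤ) ^ a) (m : ℤ)
  set v := Int.gcdB ((2 : ℤ) ^ a) (m : ℤ)
  refine ⟨h ^ ((2 : ℤ) ^ a * u), h ^ ((m : ℤ) * v), ⟨_, rfl⟩, ⟨_, rfl⟩, ?_, ?_, ?_⟩
  · rw [← zpow_add, ← hbez]; simp
  · refine hm.of_dvd_nat (orderOf_dvd_of_pow_eq_one ?_)
    rw [← zpow_natCast, ← zpow_mul, show ((2 : ℤ) ^ a * u) * (m : ℤ) = (orderOf h : ℤ) * u by
      rw [hord]; push_cast; ring, zpow_mul, zpow_natCast, pow_orderOf_eq_one, one_zpow]
  · rintro ⟨_, k, rfl⟩
    refine ⟨a, Subtype.ext ?_⟩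
    show ((h ^ ((m : ℤ) * v)) ^ k) ^ (2 ^ a) = 1
    rw [← zpow_natCast, ← zpow_mul, ← zpow_mul, show ((m : ℤ) * v) * (k * ((2 ^ a : ℕ) : ℤ)) = (orderOf h : ℤ) * (v * k) by
      rw [hord]; push_cast; ring, zpow_mul, zpow_natCast, pow_orderOf_eq_one, one_zpow]

namespace CaseII

variable {T : Sylow 2 G} {M₀ H K V : Subgroup G} (c : CaseII T M₀ H K V)
include c

theorem W_fix_Y : wcOf H V ≤ centralizer (Cfsg.oddGenerated H : Set G) := inf_le_right

theorem comm_le_bot_iff {X : Subgroup G} : ⁅X, Cfsg.oddGenerated H⁆ ≤ ⊥ ↔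
    X ≤ centralizer (Cfsg.oddGenerated H : Set G) :=
  le_bot_iff.trans commutator_eq_bot_iff_le_centralizer

theorem H_sup : Cfsg.oddGenerated H ⊔ (T : Subgroup G) = H := by
  rw [Cfsg.Lib.PushUpOrbit.oddGenerated_eq]
  exact Cfsg.Lib.LocalCStar.residual_sup_eq (T := T) c.hTH

theorem W_eq : wj H V ≤ V ⊔ nOf H V := by
  have hn : H ≤ normalizer ((V ⊔ nOf H V : Subgroup G) : Set G) := by
    conv_lhs => rw [← c.H_sup]
    refine sup_le ?_ (le_normalizer_sup (fun t ht => (cj_of_mem_normalizer (c.hMV (c.hTM ht))).le.trans le_sup_left)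
      fun t ht => (cj_of_mem_normalizer (c.H_n (c.hTH ht))).le.trans le_sup_right)
    refine le_normalizer_sup ?_ fun y hy => (cj_of_mem_normalizer (c.H_n (oddGenerated_le H hy))).le.trans le_sup_right
    rintro y hy _ ⟨v, hv, rfl⟩
    show y * v * y⁻¹ ∈ _
    rw [show y * v * y⁻¹ = ⁅v, y⁆⁻¹ * v by rw [commutatorElement_def]; group]
    exact mul_mem (mem_sup_right (inv_mem (commutator_mem_commutator (le_wj H V hv) hy))) (mem_sup_left hv)
  exact iSup_le fun h => cj_le_of_le le_sup_left (hn h.2)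

theorem hWn : H ≤ normalizer (wj H V : Set G) := le_normalizer_wj H V

end CaseII

/-- two translates of the join inside `T` -/
structure PrePair (T : Sylow 2 G) (H V : Subgroup G) (g : G) : Prop where
  le₁ : cj g (wj H V) ≤ (T : Subgroup G)
  le₂ : cj g⁻¹ (wj H V) ≤ (T : Subgroup G)

theorem PrePair.symm {T : Sylow 2 G} {H V : Subgroup G} {g : G} (p : PrePair T H V g) : PrePair T H V g⁻¹ :=
  ⟨p.le₂, by rw [inv_inv]; exact p.le₁⟩

/-- the index of the meet with the core -/
noncomputable def alph (H V : Subgroup G) (g : G) : ℕ :=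
  (Cfsg.pCoreOf 2 H).relIndex (cj g (wj H V))

/-- the index of the centraliser of a translate -/
noncomputable def xi (H V : Subgroup G) (g : G) : ℕ :=
  (centralizer (cj g⁻¹ (wj H V) : Set G)).relIndex (wj H V)

theorem xi_inv (H V : Subgroup G) (g : G) :
    xi H V g⁻¹ = (centralizer (wj H V : Set G)).relIndex (cj g⁻¹ (wj H V)) := by
  rw [xi, inv_inv, ← relIndex_cj g⁻¹ _ (wj H V), cj_centralizer, cj_inv_cj]

/-- the part of `W` in the translated core -/
def bOf (H V : Subgroup G) (g : G) : Subgroup G := wj H V ⊓ cj g⁻¹ (Cfsg.pCoreOf 2 H)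

theorem alph_eq (H V : Subgroup G) (g : G) : alph H V g = (bOf H V g).relIndex (wj H V) := by
  rw [bOf, inf_relIndex_left, alph, ← relIndex_cj g⁻¹, cj_inv_cj]

namespace CaseII

variable {T : Sylow 2 G} {M₀ H K V : Subgroup G} (c : CaseII T M₀ H K V)
include c

variable {g : G}

theorem W_norm (p : PrePair T H V g) : wj H V ≤ normalizer (cj g (wj H V) : Set G) := by
  have h1 := cj_le_normalizer (g := g) ((p.le₂.trans c.hTH).trans c.hWn)
  rwa [cj_cj_inv] at h1

theorem W'_norm (p : PrePair T H V g) : cj g (wj H V) ≤ normalizer (wj H V : Set G) :=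
  (p.le₁.trans c.hTH).trans c.hWn

theorem quad_translate (p : PrePair T H V g) :
    ⁅⁅wj H V, cj g (wj H V)⁆, cj g (wj H V)⁆ = ⊥ :=
  le_bot_iff.1 <| (commutator_mono ((commutator_le_inf_of_normalize (c.W'_norm p) (c.W_norm p)).trans inf_le_right)
    le_rfl).trans (commutator_eq_bot_of_el (Cfsg.Lib.FFModule.el_cj g c.W_el)).le

theorem quad_translate' (p : PrePair T H V g) {B : Subgroup G} (hB : B ≤ cj g (wj H V)) :
    ⁅⁅wj H V, B⁆, B⁆ = ⊥ :=
  le_bot_iff.1 ((commutator_mono (commutator_mono le_rfl hB) hB).trans (c.quad_translate p).le)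

/-- centralisers of the translate lie in the translated core -/
theorem cent_le_b (p : PrePair T H V g) :
    wj H V ⊓ centralizer (cj g⁻¹ (wj H V) : Set G) ≤ bOf H V g := by
  refine le_inf inf_le_left ?_
  set S := wj H V ⊓ centralizer (cj g⁻¹ (wj H V) : Set G)
  have h1 : cj g S ≤ Cfsg.pCoreOf 2 H := by
    refine c.centralizing_le ((isPGroup_elem (c.sub_el (inf_le_left : S ≤ wj H V))).map _)
      ((map_mono inf_le_left).trans (p.le₁.trans c.hTH)) ?_
    refine (map_mono inf_le_right).trans (le_of_eq ?_)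
    show cj g (centralizer (cj g⁻¹ (wj H V) : Set G)) = _
    rw [cj_centralizer, cj_cj_inv]
  have h2 := map_mono (f := (MulAut.conj g⁻¹).toMonoidHom) h1
  change cj g⁻¹ (cj g S) ≤ cj g⁻¹ _ at h2
  rwa [cj_inv_cj] at h2

theorem xi_eq (p : PrePair T H V g) :
    xi H V g = (centralizer (cj g⁻¹ (wj H V) : Set G)).relIndex (bOf H V g) * alph H V g := by
  rw [xi, alph_eq, ← inf_relIndex_left (wj H V), ← relIndex_mul_relIndex _ _ _ (c.cent_le_b p) inf_le_left,
    ← inf_relIndex_left (bOf H V g) (centralizer (cj g⁻¹ (wj H V) : Set G)),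
    ← inf_relIndex_right (wj H V ⊓ centralizer (cj g⁻¹ (wj H V) : Set G)) (bOf H V g)]
  congr 2
  refine le_antisymm (fun x hx => mem_inf.2 ⟨hx.2, hx.1.2⟩) fun x hx => mem_inf.2 ⟨⟨hx.1.1, hx.2⟩, hx.1⟩

theorem b_bound (p : PrePair T H V g) :
    (centralizer (cj g⁻¹ (wj H V) : Set G)).relIndex (bOf H V g) = 1 ∨
      ((centralizer (cj g⁻¹ (wj H V) : Set G)).relIndex (bOf H V g)) ^ 2 < xi H V g⁻¹ := by
  have e : (centralizer (wj H V : Set G)).relIndex (cj g (bOf H V g)) =
      (centralizer (cj g⁻¹ (wj H V) : Set G)).relIndex (bOf H V g) := by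
    rw [← relIndex_cj g (centralizer (cj g⁻¹ (wj H V) : Set G)), cj_centralizer, cj_cj_inv]
  rw [← e]
  by_cases h : cj g (bOf H V g) ≤ centralizer (wj H V : Set G)
  · exact Or.inl (relIndex_eq_one.2 h)
  refine Or.inr (lt_of_lt_of_le (c.quad_bound ?_ (c.quad_translate' p (map_mono inf_le_left)) h) ?_)
  · exact (map_mono inf_le_right).trans (cj_cj_inv g _).le
  · rw [xi, inv_inv]
    exact relIndex_le_of_le_left (centralizer_le (map_mono (inf_le_left : bOf H V g ≤ wj H V)))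
      FiniteIndex.index_ne_zero

/-- no over-offender, for the translate -/
theorem noo_translate (p : PrePair T H V g) {L M X : Subgroup G} (hL : L ≤ wj H V) (hML : M ≤ L)
    (hHL : H ≤ normalizer (L : Set G)) (hHM : H ≤ normalizer (M : Set G))
    (hmov : ¬ ⁅L, Cfsg.oddGenerated H⁆ ≤ M) (hX : ⁅X, cj g⁻¹ (wj H V)⁆ ≤ M) :
    alph H V g⁻¹ ≤ X.relIndex L :=
  c.noo hL hML hHL hHM hmov (p.le₂.trans c.hTH) (Cfsg.Lib.FFModule.el_cj _ c.W_el) hX

theorem alph_le_xi (p : PrePair T H V g) : alph H V g⁻¹ ≤ xi H V g :=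
  c.noo_translate p le_rfl bot_le c.hWn (le_normalizer_bot H) c.moved_W
    (le_bot_iff.2 (commutator_eq_bot_iff_le_centralizer.2 le_rfl))

theorem alph_gt_one (hne : ¬ cj g (wj H V) ≤ Cfsg.pCoreOf 2 H) : 1 < alph H V g :=
  Nat.one_lt_iff_ne_zero_and_ne_one.2 ⟨FiniteIndex.index_ne_zero, fun h => hne (relIndex_eq_one.1 h)⟩

/-- both translates are outside the core -/
theorem out_symm (p : PrePair T H V g) (hne : ¬ cj g (wj H V) ≤ Cfsg.pCoreOf 2 H) :
    ¬ cj g⁻¹ (wj H V) ≤ Cfsg.pCoreOf 2 H := by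
  intro hle
  have hmove : ¬ cj g⁻¹ (wj H V) ≤ centralizer (wj H V : Set G) := fun hc => hne <| by
    have h1 : wj H V ≤ bOf H V g := (le_inf le_rfl (le_centralizer_iff.1 hc)).trans (c.cent_le_b p)
    have h2 := map_mono (f := (MulAut.conj g).toMonoidHom) (h1.trans inf_le_right)
    change cj g _ ≤ cj g (cj g⁻¹ _) at h2
    rwa [cj_cj_inv] at h2
  have h1 : (xi H V g⁻¹) ^ 2 < xi H V g := by
    rw [xi_inv]
    exact c.quad_bound hle (c.quad_translate p.symm) hmove
  have h2 := c.alph_le_xi p.symm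
  rw [inv_inv] at h2
  have h3 := c.xi_eq p
  have hy : 0 < xi H V g⁻¹ := Nat.pos_of_ne_zero FiniteIndex.index_ne_zero
  set b := (centralizer (cj g⁻¹ (wj H V) : Set G)).relIndex (bOf H V g)
  set a := alph H V g
  set y := xi H V g⁻¹
  set x := xi H V g
  rcases (show b = 1 ∨ b ^ 2 < y from c.b_bound p) with h | h
  · rw [h, one_mul] at h3
    nlinarith
  · have hby : y < b := by
      by_contra hb
      nlinarith [Nat.mul_le_mul (not_lt.1 hb) h2]
    nlinarith

/-- moved invariant subgroups contain the moved part -/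
theorem moved_ge (p : PrePair T H V g) (hne : ¬ cj g (wj H V) ≤ Cfsg.pCoreOf 2 H) {M : Subgroup G}
    (hM : M ≤ wj H V) (hHM : H ≤ normalizer (M : Set G)) (hmov : ¬ ⁅M, Cfsg.oddGenerated H⁆ ≤ ⊥) :
    nOf H V ≤ M := by
  by_contra hnot
  have key : ∀ g, PrePair T H V g → alph H V g⁻¹ * alph H V g⁻¹ ≤ xi H V g := by
    intro g p
    set C := wj H V ⊓ centralizer (cj g⁻¹ (wj H V) : Set G) with hC
    have hMC : M ≤ M ⊔ C := le_sup_left
    have h1 : alph H V g⁻¹ ≤ (M ⊔ C).relIndex (wj H V) := by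
      refine c.noo_translate p le_rfl hM c.hWn hHM hnot (commutator_le.2 fun x hx w hw => ?_)
      have hwM : w ∈ normalizer (M : Set G) := hHM (c.hTH (p.le₂ hw))
      rw [← SetLike.mem_coe, coe_mul_of_left_le_normalizer_right M C
        (fun m hm => centralizer_le_normalizer _ (centralizer_le (inf_le_left : C ≤ wj H V)
          ((el_le_centralizer c.W_el) (hM hm))))] at hx
      obtain ⟨m, hm, z, hz, rfl⟩ := hx
      rw [show ⁅m * z, w⁆ = m * ⁅z, w⁆ * m⁻¹ * ⁅m, w⁆ by simp only [commutatorElement_def]; group,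
        commutatorElement_eq_one_iff_mul_comm.2 (mem_centralizer_iff.1 hz.2 w hw).symm, mul_one,
        mul_inv_cancel, one_mul, show ⁅m, w⁆ = m * (w * m⁻¹ * w⁻¹) by rw [commutatorElement_def]; group]
      exact mul_mem hm ((mem_normalizer_iff.1 hwM _).1 (inv_mem hm))
    have h2 : alph H V g⁻¹ ≤ C.relIndex (M ⊔ C) := by
      refine le_trans (c.noo_translate p (X := C) hM bot_le hHM (le_normalizer_bot H) hmov ?_)
        (relIndex_le_right _ hMC)
      exact le_bot_iff.2 (commutator_eq_bot_iff_le_centralizer.2 inf_le_right)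
    calc alph H V g⁻¹ * alph H V g⁻¹ ≤ C.relIndex (M ⊔ C) * (M ⊔ C).relIndex (wj H V) := Nat.mul_le_mul h2 h1
      _ = C.relIndex (wj H V) := relIndex_mul_relIndex _ _ _ le_sup_right (sup_le hM inf_le_left)
      _ = xi H V g := by rw [hC, inf_relIndex_left, xi]
  have k1 := key g p
  have k2 := key g⁻¹ p.symm
  have e1 := c.xi_eq p
  have e2 := c.xi_eq p.symm
  have b1 := c.b_bound p
  have b2 := c.b_bound p.symm
  have ha := c.alph_gt_one hne
  have ha' := c.alph_gt_one (c.out_symm p hne)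
  simp only [inv_inv] at k2 e2 b2
  set b := (centralizer (cj g⁻¹ (wj H V) : Set G)).relIndex (bOf H V g)
  set b' := (centralizer (cj g (wj H V) : Set G)).relIndex (bOf H V g⁻¹)
  set a := alph H V g
  set a' := alph H V g⁻¹
  set x := xi H V g
  set y := xi H V g⁻¹
  have hbpos : 0 < b := Nat.pos_of_ne_zero FiniteIndex.index_ne_zero
  have hb'pos : 0 < b' := Nat.pos_of_ne_zero FiniteIndex.index_ne_zero
  have hp : 0 < a * a' := Nat.mul_pos (by omega) (by omega)
  have hprod : a * a' ≤ b * b' := by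
    refine Nat.le_of_mul_le_mul_left ?_ hp
    calc a * a' * (a * a') = a' * a' * (a * a) := by ring
      _ ≤ x * y := Nat.mul_le_mul k1 k2
      _ = a * a' * (b * b') := by rw [e1, e2]; ring
  have hxy : x * y = a * a' * (b * b') := by rw [e1, e2]; ring
  have hbb : b * b' * (b * b') ≤ x * y ∧ (b = 1 ∧ b' = 1 ∨ b * b' * (b * b') < x * y) := by
    have hx : 0 < x := Nat.pos_of_ne_zero FiniteIndex.index_ne_zero
    have hy : 0 < y := Nat.pos_of_ne_zero FiniteIndex.index_ne_zero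
    rcases b1 with h | h <;> rcases b2 with h' | h'
    · rw [h, h']; exact ⟨Nat.mul_pos hx hy, Or.inl ⟨rfl, rfl⟩⟩
    all_goals
      first
      | (rw [h]; constructor <;> first | nlinarith | (right; nlinarith))
      | (rw [h']; constructor <;> first | nlinarith | (right; nlinarith))
      | (constructor <;> first | nlinarith | (right; nlinarith))
  rcases hbb.2 with ⟨h, h'⟩ | h
  · rw [h, h'] at hprod
    nlinarith
  · rw [hxy] at h
    exact absurd (Nat.lt_of_mul_lt_mul_right h) (not_lt.2 hprod)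

end CaseII

end Cfsg.Lib.Qrc
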