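import Cfsg.Agent.QTKE.Qrc.Data

/-!
An elementary abelian subgroup outside the core gives a cubic action of small index.
-/

set_option autoImplicit false
set_option linter.unusedSectionVars false
set_option linter.style.haveILetI false

namespace Cfsg.Lib.Qrc

open Subgroup
open Cfsg.Lib.FFSLTwo (cj mem_cj)
open Cfsg.Lib.FFModule (conj_mem_cj cj_mul cj_one cj_inv_cj cj_cj_inv card_cj)
open scoped commutatorElement

universe u

variable {G : Type u} [Group G] [Finite G]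

/-- `x` carried to commutators with fixed `C`, as a subgroup -/
def fixMod (X C : Subgroup G) (hC : X ≤ normalizer (C : Set G)) (S : Set G) : Subgroup G where
  carrier := {h | h ∈ X ∧ ∀ l ∈ S, ⁅h, l⁆ ∈ C}
  one_mem' := ⟨one_mem _, fun l _ => by rw [commutatorElement_one_left]; exact one_mem _⟩
  mul_mem' := fun {a b} ha hb => ⟨mul_mem ha.1 hb.1, fun l hl => by
    rw [show ⁅a * b, l⁆ = a * ⁅b, l⁆ * a⁻¹ * ⁅a, l⁆ by simp only [commutatorElement_def]; group]
    exact mul_mem ((mem_normalizer_iff.1 (hC ha.1) _).1 (hb.2 l hl)) (ha.2 l hl)⟩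
  inv_mem' := fun {a} ha => ⟨inv_mem ha.1, fun l hl => by
    rw [show ⁅a⁻¹, l⁆ = a⁻¹ * ⁅a, l⁆⁻¹ * a⁻¹⁻¹ by simp only [commutatorElement_def]; group]
    exact (mem_normalizer_iff.1 (hC (inv_mem ha.1)) _).1 (inv_mem (ha.2 l hl))⟩

theorem mem_fixMod {X C : Subgroup G} {hC : X ≤ normalizer (C : Set G)} {S : Set G} {h : G} :
    h ∈ fixMod X C hC S ↔ h ∈ X ∧ ∀ l ∈ S, ⁅h, l⁆ ∈ C := Iff.rfl

theorem fixMod_normal {X C L : Subgroup G} {hC : X ≤ normalizer (C : Set G)} (hL : X ≤ normalizer (L : Set G))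
    {h g : G} (hh : h ∈ fixMod X C hC (L : Set G)) (hg : g ∈ X) : g * h * g⁻¹ ∈ fixMod X C hC (L : Set G) := by
  refine ⟨mul_mem (mul_mem hg hh.1) (inv_mem hg), fun l hl => ?_⟩
  rw [show ⁅g * h * g⁻¹, l⁆ = g * ⁅h, g⁻¹ * l * g⁆ * g⁻¹ by simp only [commutatorElement_def]; group]
  refine (mem_normalizer_iff.1 (hC hg) _).1 (hh.2 _ ?_)
  have := (mem_normalizer_iff.1 (hL (inv_mem hg)) l).1 hl
  rwa [inv_inv] at this

/-- an elementary subgroup acting cubically with small index, inside a `2`-subgroup over `R` -/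
def CubicData (H Vt R : Subgroup G) : Prop :=
  ∃ A S : Subgroup G, IsPGroup 2 S ∧ S ≤ H ∧ R ≤ S ∧ A ≤ S ∧ Cfsg.IsElementaryAbelian 2 A ∧
    ¬ A ≤ centralizer (Vt : Set G) ∧ ⁅⁅⁅Vt, A⁆, A⁆, A⁆ = ⊥ ∧
    (centralizer (A : Set G)).relIndex Vt ≤ ((centralizer (Vt : Set G)).relIndex A) ^ 2

/-- the elements of odd order lie in a normal subgroup of `2`-power index -/
theorem mem_of_sup {N Q : Subgroup G} (hQ : IsPGroup 2 Q) (hn : Q ≤ normalizer (N : Set G)) {x : G}
    (hx : x ∈ N ⊔ Q) (ho : Odd (orderOf x)) : x ∈ N := by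
  haveI : Fact (Nat.Prime 2) := ⟨Nat.prime_two⟩
  haveI : (N.subgroupOf (N ⊔ Q)).Normal :=
    normal_subgroupOf_of_le_normalizer (sup_le le_normalizer hn)
  set π := QuotientGroup.mk' (N.subgroupOf (N ⊔ Q))
  have h1 : π ⟨x, hx⟩ ∈ (Q.subgroupOf (N ⊔ Q)).map π := by
    have h2 : (⊤ : Subgroup ↥(N ⊔ Q)) ≤ N.subgroupOf (N ⊔ Q) ⊔ Q.subgroupOf (N ⊔ Q) := by
      rw [← subgroupOf_sup le_sup_left le_sup_right]
      exact (subgroupOf_eq_top.2 le_rfl).ge
    obtain ⟨a, ha, b, hb, hab⟩ := mem_sup_of_normal_left.1 (h2 (mem_top (⟨x, hx⟩ : ↥(N ⊔ Q))))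
    exact ⟨b, hb, by rw [← hab, map_mul, show π a = 1 from (QuotientGroup.eq_one_iff a).2 ha, one_mul]⟩
  obtain ⟨k, hk⟩ := ((hQ.comap_subtype : IsPGroup 2 ↥(Q.subgroupOf (N ⊔ Q))).map π) ⟨_, h1⟩
  have h3 : π ⟨x, hx⟩ = 1 := by
    rw [← orderOf_eq_one_iff]
    refine Nat.eq_one_of_dvd_coprimes (((Nat.coprime_two_left.2 ho).pow_left k)) (orderOf_dvd_of_pow_eq_one
      (congrArg Subtype.val hk)) ((orderOf_map_dvd π _).trans (orderOf_mk x hx).dvd)
  exact mem_subgroupOf.1 ((QuotientGroup.eq_one_iff _).1 h3)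

theorem cubic_core {H Vt R : Subgroup G} (hel : Cfsg.IsElementaryAbelian 2 Vt) (hVH : Vt ≤ H) (hRH : R ≤ H)
    (hRp : IsPGroup 2 R) (hRc : R ≤ centralizer (Vt : Set G))
    (hQR : Cfsg.pCoreOf 2 H ≤ normalizer (R : Set G))
    (hcon : ∀ h ∈ H, h ∈ centralizer (Cfsg.pCoreOf 2 H : Set G) → h ∈ Cfsg.pCoreOf 2 H)
    (hS : ∀ S : Subgroup G, IsPGroup 2 S → S ≤ H → R ≤ S → S ≤ normalizer (Vt : Set G))
    (hout : ¬ Vt ≤ Cfsg.pCoreOf 2 H) : CubicData H Vt R := by
  classical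
  haveI : Fact (Nat.Prime 2) := ⟨Nat.prime_two⟩
  by_contra hno
  set Q := Cfsg.pCoreOf 2 H with hQdef
  have hQp : IsPGroup 2 Q := Cfsg.Lib.JComp.isPGroup_pCoreOf H
  have hQH : Q ≤ H := map_subtype_le _
  have hHQ : H ≤ normalizer (Q : Set G) := le_normalizer.trans (Cfsg.Lib.Large.normalizer_pCoreOf_le H)
  -- mutually normalising conjugates commute
  have ml : ∀ Y : Subgroup G, Y ≤ H → R ≤ Y → Vt ≤ Cfsg.pCoreOf 2 Y → ∀ y ∈ Y,
      cj y Vt ≤ centralizer (Vt : Set G) := by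
    intro Y hYH hRY hVY y hy
    by_contra hne
    set O := Cfsg.pCoreOf 2 Y
    have hOY : O ≤ Y := map_subtype_le _
    have hYO : Y ≤ normalizer (O : Set G) := le_normalizer.trans (Cfsg.Lib.Large.normalizer_pCoreOf_le Y)
    have hSp : IsPGroup 2 ↥(O ⊔ R) :=
      IsPGroup.to_sup_of_normal_left' (Cfsg.Lib.JComp.isPGroup_pCoreOf Y) hRp (hRY.trans hYO)
    have hSH : O ⊔ R ≤ H := sup_le (hOY.trans hYH) hRH
    have hON : O ≤ normalizer (Vt : Set G) := le_sup_left.trans (hS _ hSp hSH le_sup_right)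
    have hcj : ∀ w ∈ Y, cj w Vt ≤ O := fun w hw => by
      have := cj_of_mem_normalizer (hYO hw)
      exact this ▸ map_mono hVY
    have h2 : Vt ≤ normalizer (cj y Vt : Set G) := by
      have := cj_le_normalizer (g := y) ((hcj _ (inv_mem hy)).trans hON)
      rwa [cj_cj_inv] at this
    obtain ⟨w, hw, hne', hq, hle⟩ := pair_cases hel y ((hcj y hy).trans hON) h2 hne
    have hwY : w ∈ Y := by
      rcases hw with rfl | rfl
      exacts [hy, inv_mem hy]
    exact hno ⟨cj w Vt, O ⊔ R, hSp, hSH, le_sup_right, (hcj w hwY).trans le_sup_left,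
      Cfsg.Lib.FFModule.el_cj w hel, hne', by rw [hq]; exact commutator_bot_left _,
      hle.trans (Nat.le_self_pow two_ne_zero _)⟩
  -- a minimal overgroup
  obtain ⟨X, ⟨hXH, hVX, hRX, hQX, hXout⟩, hmin⟩ := Set.exists_min_image
    {Y : Subgroup G | Y ≤ H ∧ Vt ≤ Y ∧ R ≤ Y ∧ Q ≤ Y ∧ ¬ Vt ≤ Cfsg.pCoreOf 2 Y} (fun Y => Nat.card Y)
    (Set.toFinite _) ⟨H, le_rfl, hVH, hRH, hQH, hout⟩
  have hmin' : ∀ Y : Subgroup G, Y ≤ X → Vt ≤ Y → R ≤ Y → Q ≤ Y → ¬ Vt ≤ Cfsg.pCoreOf 2 Y → Y = X :=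
    fun Y h1 h2 h3 h4 h5 => eq_of_le_of_card_ge h1 (hmin Y ⟨h1.trans hXH, h2, h3, h4, h5⟩)
  set P := Cfsg.pCoreOf 2 X with hP
  have hPX : P ≤ X := map_subtype_le _
  have hPp : IsPGroup 2 P := Cfsg.Lib.JComp.isPGroup_pCoreOf X
  have hXP : X ≤ normalizer (P : Set G) := le_normalizer.trans (Cfsg.Lib.Large.normalizer_pCoreOf_le X)
  have hQP : Q ≤ P := Cfsg.Lib.Large.le_pCoreOf hQX hQp (hXH.trans hHQ)
  have hPS : IsPGroup 2 ↥(P ⊔ R) := hPp.to_sup_of_normal_left' hRp (hRX.trans hXP)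
  have hPV : P ≤ normalizer (Vt : Set G) :=
    le_sup_left.trans (hS _ hPS (sup_le (hPX.trans hXH) hRH) le_sup_right)
  have hPcj : ∀ x ∈ X, P ≤ normalizer (cj x Vt : Set G) := fun x hx => by
    have := cj_le_normalizer (g := x) hPV
    rwa [cj_of_mem_normalizer (hXP hx)] at this
  -- the swapped involution
  obtain ⟨z, hzV, hzP⟩ := SetLike.not_le_iff_exists.1 hXout
  have hz : z * z = 1 := by rw [← pow_two]; exact hel.2 z hzV
  obtain ⟨g, hgX, hbs⟩ := exists_bs (hVX hzV) hzP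
  have hz' : (g * z * g⁻¹) * (g * z * g⁻¹) = 1 := by
    rw [show (g * z * g⁻¹) * (g * z * g⁻¹) = g * (z * z) * g⁻¹ by group, hz, mul_one, mul_inv_cancel]
  obtain ⟨y, hy, hy1, hyo, hyinv⟩ := exists_odd_inverted hz hz' hbs
  obtain ⟨w, hw, hs2, hzy⟩ := exists_swap hz hyo hyinv
  set s := z * w with hs
  have hsi : s⁻¹ = s := inv_eq_of_mul_eq_one_right hs2
  have hyX : y ∈ X := (zpowers_le.2 (mul_mem (hVX hzV) (mul_mem (mul_mem hgX (hVX hzV)) (inv_mem hgX)))) hy
  have hsX : s ∈ X := mul_mem (hVX hzV) ((zpowers_le.2 hyX) hw)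
  set Vs := cj s Vt with hVs
  have hVsX : Vs ≤ X := (map_mono hVX).trans (cj_of_mem_normalizer (le_normalizer hsX)).le
  set X₀ := Vt ⊔ Vs ⊔ R with hX₀
  have hX₀X : X₀ ≤ X := sup_le (sup_le hVX hVsX) hRX
  have hyX₀ : y ∈ X₀ := by
    rw [← hzy]
    exact mul_mem (mem_sup_left (mem_sup_left hzV)) (mem_sup_left (mem_sup_right (conj_mem_cj hzV)))
  have hsX₀ : s ∈ X₀ := mul_mem (mem_sup_left (mem_sup_left hzV)) ((zpowers_le.2 hyX₀) hw)
  have hXX : X₀ ⊔ Q = X := by
    refine hmin' _ (sup_le hX₀X hQX) (le_sup_left.trans' (le_sup_left.trans' le_sup_left))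
      (le_sup_left.trans' le_sup_right) le_sup_right fun hle => hy1 ?_
    set O := Cfsg.pCoreOf 2 (X₀ ⊔ Q)
    have hO : X₀ ⊔ Q ≤ normalizer (O : Set G) := le_normalizer.trans (Cfsg.Lib.Large.normalizer_pCoreOf_le _)
    have h1 : z * (y * z * y⁻¹) ∈ O :=
      mul_mem (hle hzV) ((mem_normalizer_iff.1 (hO (mem_sup_left hyX₀)) z).1 (hle hzV))
    have h2 : z * (y * z * y⁻¹) = y⁻¹ * y⁻¹ := by rw [← mul_assoc, ← mul_assoc, hyinv]
    rw [h2] at h1
    have h3 : (y * y) ∈ O := by simpa using inv_mem h1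
    rw [← pow_two] at h3
    obtain ⟨m, hm⟩ := exists_pow_eq_self_of_coprime (x := y) (n := 2) (Nat.coprime_two_left.2 hyo)
    exact Cfsg.Lib.JComp.eq_one_of_odd (Cfsg.Lib.JComp.isPGroup_pCoreOf _) (hm ▸ pow_mem h3 m) hyo
  have hQVs : Q ≤ normalizer (Vs : Set G) := hQP.trans (hPcj s hsX)
  have hQX₀ : Q ≤ normalizer (X₀ : Set G) := fun q hq => by
    refine mem_normalizer_of_cj ?_
    rw [hX₀, Cfsg.Lib.FFModule.cj_sup, Cfsg.Lib.FFModule.cj_sup, cj_of_mem_normalizer (hPV (hQP hq)),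
      cj_of_mem_normalizer (hQVs hq), cj_of_mem_normalizer (hQR hq)]
  have hX₀n : X ≤ normalizer (X₀ : Set G) := hXX.ge.trans (sup_le le_normalizer hQX₀)
  set O := Cfsg.oddGenerated X with hO
  have hOX : O ≤ X := (closure_le _).2 fun x hx => hx.1
  have hOX₀ : O ≤ X₀ := (closure_le _).2 fun x hx => mem_of_sup hQp hQX₀ (hXX.ge hx.1) hx.2
  have hXO : X ≤ normalizer (O : Set G) := Cfsg.Lib.JComp.le_normalizer_of_conj fun a ha x hx => by
    have h1 : O ≤ O.comap (MulAut.conj a).toMonoidHom := (closure_le _).2 fun t ht => subset_closure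
      ⟨mul_mem (mul_mem ha ht.1) (inv_mem ha), by
        show Odd (orderOf ((MulAut.conj a) t))
        rw [MulEquiv.orderOf_eq]; exact ht.2⟩
    exact h1 hx
  set C := P ⊓ centralizer (O : Set G) with hC
  have hXC : X ≤ normalizer (C : Set G) := fun x hx => by
    refine mem_normalizer_of_cj ?_
    rw [hC, cj_inf, cj_centralizer, cj_of_mem_normalizer (hXP hx), cj_of_mem_normalizer (hXO hx)]
  set C0 := Vt ⊓ Vs with hC0
  set B := Vt ⊓ P with hB
  set A := Vs ⊓ P with hA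
  have hAB : cj s B = A := by rw [hB, cj_inf, cj_of_mem_normalizer (hXP hsX)]
  have hBA : cj s A = B := by
    rw [← hAB, cj_mul, hs2, cj_one]
  have hsVs : cj s Vs = Vt := by rw [hVs, cj_mul, hs2, cj_one]
  have hVsel : Cfsg.IsElementaryAbelian 2 Vs := Cfsg.Lib.FFModule.el_cj s hel
  have hC0C : C0 ≤ centralizer (X₀ : Set G) := by
    rw [le_centralizer_iff, hX₀]
    exact sup_le (sup_le ((el_le_centralizer hel).trans (centralizer_le inf_le_left))
      ((el_le_centralizer hVsel).trans (centralizer_le inf_le_right))) (hRc.trans (centralizer_le inf_le_left))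
  have hC0P : C0 ≤ P := by
    refine Cfsg.Lib.Large.le_pCoreOf (inf_le_left.trans hVX) ((isPGroup_elem hel).to_le inf_le_left) ?_
    refine hXX.ge.trans (sup_le ((le_centralizer_iff.1 hC0C).trans (centralizer_le_normalizer _)) fun q hq => ?_)
    refine mem_normalizer_of_cj ?_
    rw [hC0, cj_inf, cj_of_mem_normalizer (hPV (hQP hq)), cj_of_mem_normalizer (hQVs hq)]
  have hC0le : C0 ≤ C := le_inf hC0P (hC0C.trans (centralizer_le hOX₀))
  have hPA : ∀ x ∈ X, ∀ p ∈ P, ∀ v ∈ cj x Vt, ⁅v, p⁆ ∈ cj x Vt ⊓ P := by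
    intro x hx p hp v hv
    have hvX : v ∈ X := (cj_of_mem_normalizer (le_normalizer hx)).le (map_mono hVX hv)
    refine mem_inf.2 ⟨?_, ?_⟩
    · rw [show ⁅v, p⁆ = v * (p * v⁻¹ * p⁻¹) by rw [commutatorElement_def]; group]
      exact mul_mem hv ((mem_normalizer_iff.1 (hPcj x hx hp) _).1 (inv_mem hv))
    · rw [show ⁅v, p⁆ = (v * p * v⁻¹) * p⁻¹ by rw [commutatorElement_def]]
      exact mul_mem ((mem_normalizer_iff.1 (hXP hvX) _).1 hp) (inv_mem hp)
  have hVtP : ∀ p ∈ P, ∀ v ∈ Vt, ⁅v, p⁆ ∈ B := fun p hp v hv => by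
    have := hPA 1 (one_mem _) p hp v (by rwa [cj_one])
    rwa [cj_one] at this
  have hVsP : ∀ p ∈ P, ∀ v ∈ Vs, ⁅v, p⁆ ∈ A := hPA s hsX
  -- the invariant subgroup `L`
  set L := B ⊔ ⨆ r : R, cj (r : G) A with hL
  have hLB : B ≤ L := le_sup_left
  have hLA : ∀ r ∈ R, cj r A ≤ L := fun r hr =>
    le_sup_of_le_right (le_iSup (fun r : R => cj (r : G) A) ⟨r, hr⟩)
  have hA1 : A ≤ L := by
    have := hLA 1 (one_mem _)
    rwa [cj_one] at this
  have hRB : ∀ r ∈ R, cj r B = B := fun r hr => by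
    rw [hB, cj_inf, cj_of_mem_normalizer (hXP (hRX hr)),
      cj_of_mem_normalizer (centralizer_le_normalizer _ (hRc hr))]
  have hAP : ∀ r ∈ R, cj r A ≤ P := fun r hr =>
    (map_mono inf_le_right).trans (cj_of_mem_normalizer (hXP (hRX hr))).le
  have hLP : L ≤ P := sup_le inf_le_right (iSup_le fun r => hAP r r.2)
  have hmove : ∀ (U : Subgroup G), (∀ p ∈ P, ∀ v ∈ U, ⁅v, p⁆ ∈ L) → U ≤ normalizer (L : Set G) := by
    intro U hU
    refine Cfsg.Lib.JComp.le_normalizer_of_conj fun v hv l hl => ?_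
    rw [show v * l * v⁻¹ = ⁅v, l⁆ * l by rw [commutatorElement_def]; group]
    exact mul_mem (hU l (hLP hl) v hv) hl
  have hXL : X ≤ normalizer (L : Set G) := by
    refine hXX.ge.trans (sup_le (sup_le (sup_le ?_ ?_) ?_) ?_)
    · exact hmove _ fun p hp v hv => hLB (hVtP p hp v hv)
    · exact hmove _ fun p hp v hv => hA1 (hVsP p hp v hv)
    · refine le_normalizer_sup (fun r hr => (hRB r hr).le.trans le_sup_left) fun r hr => ?_
      rw [show cj r (⨆ r' : R, cj (r' : G) A) = ⨆ r' : R, cj r (cj (r' : G) A) from Subgroup.map_iSup _ _]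
      refine iSup_le fun r' => ?_
      rw [cj_mul]
      exact hLA _ (mul_mem hr r'.2)
    · refine le_normalizer_sup (fun q hq => ?_) fun q hq => ?_
      · rw [hB, cj_inf, cj_of_mem_normalizer (hPV (hQP hq)), cj_of_mem_normalizer (hXP (hQX hq))]
        exact le_sup_left
      · rw [show cj q (⨆ r' : R, cj (r' : G) A) = ⨆ r' : R, cj q (cj (r' : G) A) from Subgroup.map_iSup _ _]
        refine iSup_le fun r' => ?_
        have e : cj q (cj (r' : G) A) = cj (q * r' * q⁻¹) A := by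
          have hqA : cj q A = A := by
            rw [hA, cj_inf, cj_of_mem_normalizer (hQVs hq), cj_of_mem_normalizer (hXP (hQX hq))]
          conv_rhs => rw [← hqA]
          rw [cj_mul, cj_mul, inv_mul_cancel_right]
        rw [e]
        exact hLA _ ((mem_normalizer_iff.1 (hQR hq) _).1 r'.2)
  have hXLP : ∀ x ∈ X, x ∈ normalizer (P : Set G) := hXP
  set KC := fixMod X C hXC (L : Set G) with hKC
  set KL := fixMod X L hXL (P : Set G) with hKL
  -- `K1`
  have key : ∀ v ∈ Vt, v ∉ P → ∃ a ∈ A, ⁅v, a⁆ ∉ C := by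
    intro v hv hvP
    by_contra hcon'
    push Not at hcon'
    have hvX := hVX hv
    have hvC : v ∈ KC := by
      refine ⟨hvX, fun l hl => ?_⟩
      let D : Subgroup G :=
        { carrier := {l | l ∈ X ∧ ⁅v, l⁆ ∈ C}
          one_mem' := ⟨one_mem _, by rw [commutatorElement_one_right]; exact one_mem _⟩
          mul_mem' := fun {a b} ha hb => ⟨mul_mem ha.1 hb.1, by
            rw [show ⁅v, a * b⁆ = ⁅v, a⁆ * (a * ⁅v, b⁆ * a⁻¹) by simp only [commutatorElement_def]; group]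
            exact mul_mem ha.2 ((mem_normalizer_iff.1 (hXC ha.1) _).1 hb.2)⟩
          inv_mem' := fun {a} ha => ⟨inv_mem ha.1, by
            rw [show ⁅v, a⁻¹⁆ = a⁻¹ * ⁅v, a⁆⁻¹ * a⁻¹⁻¹ by simp only [commutatorElement_def]; group]
            exact (mem_normalizer_iff.1 (hXC (inv_mem ha.1)) _).1 (inv_mem ha.2)⟩ }
      have hle : L ≤ D := by
        refine sup_le (fun b hb => ⟨hVX hb.1, ?_⟩) (iSup_le fun r => ?_)
        · rw [commutatorElement_eq_one_iff_mul_comm.2 (Cfsg.Lib.ElemToolkit.comm_of hel.1 hv hb.1)]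
          exact one_mem _
        · rintro _ ⟨a, ha, rfl⟩
          refine ⟨hPX (hAP r r.2 (mem_map_of_mem _ ha)), ?_⟩
          show ⁅v, (r : G) * a * (r : G)⁻¹⁆ ∈ C
          have h1 : ⁅v, (r : G) * a * (r : G)⁻¹⁆ = (r : G) * ⁅v, a⁆ * (r : G)⁻¹ := by
            have h2 : (r : G) * v * (r : G)⁻¹ = v := by
              rw [← mem_centralizer_iff.1 (hRc r.2) v hv, mul_inv_cancel_right]
            conv_lhs => rw [← h2]
            simp only [commutatorElement_def]; group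
          rw [h1]
          exact (mem_normalizer_iff.1 (hXC (hRX r.2)) _).1 (hcon' a ha)
      exact (hle hl).2
    have hvL : v ∈ KL := ⟨hvX, fun p hp => hLB (hVtP p hp v hv)⟩
    obtain ⟨g', hg', hbs'⟩ := exists_bs hvX hvP
    have hv2 : v * v = 1 := by rw [← pow_two]; exact hel.2 v hv
    have hv2' : (g' * v * g'⁻¹) * (g' * v * g'⁻¹) = 1 := by
      rw [show (g' * v * g'⁻¹) * (g' * v * g'⁻¹) = g' * (v * v) * g'⁻¹ by group, hv2, mul_one, mul_inv_cancel]
    obtain ⟨t, ht, ht1, hto, -⟩ := exists_odd_inverted hv2 hv2' hbs'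
    have htC : t ∈ KC := zpowers_le.2 (mul_mem hvC (fixMod_normal hXL hvC hg')) ht
    have htL : t ∈ KL := zpowers_le.2 (mul_mem hvL (fixMod_normal hXP hvL hg')) ht
    have htO : t ∈ O := subset_closure ⟨htC.1, hto⟩
    have hfixL : ∀ l ∈ L, ⁅t, l⁆ = 1 := fun l hl => by
      have hc := htC.2 l hl
      exact fixed_of_odd hto (mem_centralizer_iff.1 hc.2 t htO) (mul_self_pow_two hPp hc.1)
    refine ht1 (Cfsg.Lib.JComp.eq_one_of_odd hQp (hcon t (hXH htC.1) (mem_centralizer_iff.2 fun p hp => ?_)) hto)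
    have hl := htL.2 p (hQP hp)
    have h1 := fixed_of_odd hto (commutatorElement_eq_one_iff_mul_comm.1 (hfixL _ hl))
      (mul_self_pow_two hPp (hLP hl))
    exact (commutatorElement_eq_one_iff_mul_comm.1 h1).symm
  obtain ⟨a₀, ha₀, ha₀C⟩ := key z hzV hzP
  have ha₀C' : a₀ ∉ C := fun h => ha₀C (by
    rw [show ⁅z, a₀⁆ = (z * a₀ * z⁻¹) * a₀⁻¹ by rw [commutatorElement_def]]
    exact mul_mem ((mem_normalizer_iff.1 (hXC (hVX hzV)) _).1 h) (inv_mem h))
  -- elements outside `P` move a fixed element modulo `C`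
  have hsR : cj s R ≤ X₀ := (map_mono le_sup_right).trans (cj_of_mem_normalizer (le_normalizer hsX₀)).le
  have hQs : cj s Q = Q := cj_of_mem_normalizer (hHQ (hXH hsX))
  have hQsR : Q ≤ normalizer (cj s R : Set G) := by
    have := cj_le_normalizer (g := s) hQR
    rwa [hQs] at this
  have hsRVs : cj s R ≤ centralizer (Vs : Set G) := by
    rw [hVs, ← cj_centralizer]; exact map_mono hRc
  have move : ∀ u ∈ A, u ∉ C → ∀ v ∈ Vt, v ∉ P → ⁅v, u⁆ ∉ C := by
    intro u hu huC v hv hvP hvu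
    set Y := Vs ⊔ cj s R ⊔ Q ⊔ zpowers v with hY
    have hYX : Y ≤ X := sup_le (sup_le (sup_le hVsX (hsR.trans hX₀X)) hQX) (zpowers_le.2 (hVX hv))
    have hYs : cj s Y ≤ X := (map_mono hYX).trans (cj_of_mem_normalizer (le_normalizer hsX)).le
    have hYs_eq : cj s Y = Vt ⊔ R ⊔ Q ⊔ zpowers (s * v * s⁻¹) := by
      rw [hY, Cfsg.Lib.FFModule.cj_sup, Cfsg.Lib.FFModule.cj_sup, Cfsg.Lib.FFModule.cj_sup, hsVs, hQs, cj_mul,
        hs2, cj_one, show cj s (zpowers v) = zpowers (s * v * s⁻¹) from MonoidHom.map_zpowers _ v]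
    have hVY : Vt ≤ cj s Y := hYs_eq ▸ le_sup_left.trans' (le_sup_left.trans' le_sup_left)
    have hRY : R ≤ cj s Y := hYs_eq ▸ le_sup_left.trans' (le_sup_left.trans' le_sup_right)
    have hQY : Q ≤ cj s Y := hYs_eq ▸ le_sup_left.trans' le_sup_right
    by_cases hcase : Vt ≤ Cfsg.pCoreOf 2 (cj s Y)
    · have hc := ml _ (hYs.trans hXH) hRY hcase (s * v * s⁻¹)
        (hYs_eq ▸ mem_sup_right (mem_zpowers _))
      have hc' : cj v Vs ≤ centralizer (Vs : Set G) := by
        have := map_mono (f := (MulAut.conj s).toMonoidHom) hc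
        change cj s (cj (s * v * s⁻¹) Vt) ≤ cj s (centralizer (Vt : Set G)) at this
        rw [cj_centralizer, cj_mul, show s * (s * v * s⁻¹) = v * s by
          rw [hsi, show s * (s * v * s) = (s * s) * v * s by group, hs2, one_mul]] at this
        rwa [hVs, cj_mul]
      obtain ⟨a, ha, hvaC⟩ := key v hv hvP
      refine hvaC ?_
      have hB' : ⁅v, a⁆ ∈ B := hVtP a ha.2 v hv
      refine ⟨hB'.2, centralizer_le hOX₀ (?_ : ⁅v, a⁆ ∈ centralizer (X₀ : Set G))⟩
      have hle : X₀ ≤ centralizer (zpowers ⁅v, a⁆ : Set G) := by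
        refine sup_le (sup_le ((el_le_centralizer hel).trans (centralizer_le (zpowers_le.2 hB'.1))) ?_)
          (hRc.trans (centralizer_le (zpowers_le.2 hB'.1)))
        rw [le_centralizer_iff, zpowers_le, commutatorElement_def]
        exact mul_mem (hc' (conj_mem_cj ha.1)) (inv_mem (el_le_centralizer hVsel ha.1))
      exact le_centralizer_iff.1 hle (mem_zpowers _)
    · have hYeq : cj s Y = X := hmin' _ hYs hVY hRY hQY hcase
      set D₀ := Vs ⊔ cj s R ⊔ (zpowers v ⊔ B) with hD₀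
      have hQD : Q ≤ normalizer (D₀ : Set G) := fun q hq => by
        refine Cfsg.Lib.JComp.mem_normalizer_of_cj_le ?_
        show cj q D₀ ≤ D₀
        rw [hD₀, Cfsg.Lib.FFModule.cj_sup, Cfsg.Lib.FFModule.cj_sup, Cfsg.Lib.FFModule.cj_sup,
          cj_of_mem_normalizer (hQVs hq), cj_of_mem_normalizer (hQsR hq)]
        refine sup_le_sup_left (sup_le ?_ ?_) _
        · rw [show cj q (zpowers v) = zpowers (q * v * q⁻¹) from MonoidHom.map_zpowers _ v, zpowers_le]
          have : q * v * q⁻¹ = v * ⁅v⁻¹, q⁆ := by rw [commutatorElement_def]; group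
          rw [this]
          exact mul_mem (mem_sup_left (mem_zpowers v)) (mem_sup_right (hVtP q (hQP hq) _ (inv_mem hv)))
        · rw [hB, cj_inf, cj_of_mem_normalizer (hPV (hQP hq)), cj_of_mem_normalizer (hXP (hQX hq))]
          exact le_sup_right
      have hXD : X ≤ D₀ ⊔ Q := by
        have h1 : Y = X := by
          rw [← cj_one Y, ← hs2, ← cj_mul, hYeq, cj_of_mem_normalizer (le_normalizer hsX)]
        rw [← h1, hY]
        exact sup_le (sup_le (le_sup_left.trans' le_sup_left) le_sup_right)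
          (le_sup_left.trans' (le_sup_right.trans' le_sup_left))
      have hD : D₀ ≤ fixMod X C hXC {u} := by
        have h1 : ∀ h ∈ X, h * u = u * h → h ∈ fixMod X C hXC {u} := fun h hh hc => ⟨hh, fun l hl => by
          rw [Set.mem_singleton_iff.1 hl, commutatorElement_eq_one_iff_mul_comm.2 hc]; exact one_mem _⟩
        refine sup_le (sup_le (fun h hh => h1 h (hVsX hh) (Cfsg.Lib.ElemToolkit.comm_of hVsel.1 hh hu.1))
          fun h hh => h1 h (hX₀X (hsR hh)) (mem_centralizer_iff.1 (hsRVs hh) u hu.1).symm) (sup_le ?_ ?_)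
        · rw [zpowers_le]
          exact ⟨hVX hv, fun l hl => by rw [Set.mem_singleton_iff.1 hl]; exact hvu⟩
        · intro b hb
          refine ⟨hVX hb.1, fun l hl => ?_⟩
          rw [Set.mem_singleton_iff.1 hl]
          refine hC0le (mem_inf.2 ⟨(hVtP u hu.2 b hb.1).1, ?_⟩)
          rw [show ⁅b, u⁆ = ⁅u, b⁆⁻¹ from (commutatorElement_inv u b).symm]
          exact inv_mem (hVsP b hb.2 u hu.1).1
      have hOD : ∀ x ∈ X, Odd (orderOf x) → x * u = u * x := fun x hx ho => by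
        have h1 := hD (mem_of_sup hQp hQD (hXD hx) ho)
        have h2 := h1.2 u rfl
        exact commutatorElement_eq_one_iff_mul_comm.1
          (fixed_of_odd ho (mem_centralizer_iff.1 h2.2 x (subset_closure ⟨hx, ho⟩)) (mul_self_pow_two hPp h2.1))
      refine huC ⟨hu.2, ?_⟩
      have hle : O ≤ centralizer (zpowers u : Set G) := (closure_le _).2 fun x hx =>
        mem_centralizer_iff.2 fun t ht => by
          obtain ⟨k, rfl⟩ := ht
          exact ((show Commute x u from hOD x hx.1 hx.2).zpow_right k).eq.symm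
      exact le_centralizer_iff.1 hle (mem_zpowers u)
  -- counting
  have hcomB : ∀ a b, a ∈ Vt → b ∈ Vt → a * b = b * a := fun a b => Cfsg.Lib.ElemToolkit.comm_of hel.1
  let u : G := a₀
  have hu : u ∈ A := ha₀
  haveI : ((B ⊓ C).subgroupOf B).Normal := normal_subgroupOf_of_le_normalizer
    (((inf_le_left : B ≤ Vt).trans (el_le_centralizer hel)).trans
      ((centralizer_le (inf_le_left.trans inf_le_left : B ⊓ C ≤ Vt)).trans (centralizer_le_normalizer _)))
  let f : Vt →* B ⧸ (B ⊓ C).subgroupOf B := MonoidHom.mk'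
    (fun v => QuotientGroup.mk ⟨⁅(v : G), u⁆, hVtP u hu.2 v v.2⟩) fun a b => by
      rw [← QuotientGroup.mk_mul]
      refine congrArg QuotientGroup.mk (Subtype.ext ?_)
      show ⁅(a : G) * b, u⁆ = ⁅(a : G), u⁆ * ⁅(b : G), u⁆
      have h1 : (a : G) * ⁅(b : G), u⁆ = ⁅(b : G), u⁆ * a := hcomB _ _ a.2 (hVtP u hu.2 b b.2).1
      rw [show ⁅(a : G) * b, u⁆ = (a : G) * ⁅(b : G), u⁆ * (a : G)⁻¹ * ⁅(a : G), u⁆ by
        simp only [commutatorElement_def]; group, h1, mul_inv_cancel_right]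
      exact hcomB _ _ (hVtP u hu.2 b b.2).1 (hVtP u hu.2 a a.2).1
  have hker : f.ker ≤ B.subgroupOf Vt := fun v hv => by
    by_contra hvB
    refine move u hu ha₀C' v v.2 (fun h => hvB (mem_subgroupOf.2 ⟨v.2, h⟩)) ?_
    exact (mem_subgroupOf.1 ((QuotientGroup.eq_one_iff _).1 hv)).2
  have h1 : B.relIndex Vt ≤ (B ⊓ C).relIndex B := by
    refine le_trans (Nat.le_of_dvd (Nat.pos_of_ne_zero FiniteIndex.index_ne_zero) (index_dvd_of_le hker)) ?_
    rw [index_ker]
    exact Nat.card_le_card_of_injective _ Subtype.val_injective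
  have h2 : (B ⊓ C).relIndex B ≤ (centralizer (Vt : Set G)).relIndex A := by
    rw [inf_relIndex_left, ← relIndex_cj s C B, cj_of_mem_normalizer (hXC hsX), hAB, ← inf_relIndex_left A C,
      ← inf_relIndex_left A (centralizer (Vt : Set G))]
    refine relIndex_le_of_le_left (fun a ha => ⟨ha.1, ha.1.2, centralizer_le hOX₀ ?_⟩) FiniteIndex.index_ne_zero
    -- centralised by the conjugate generators
    have hle : cj s X₀ ≤ centralizer (zpowers a : Set G) := by
      rw [hX₀, Cfsg.Lib.FFModule.cj_sup, Cfsg.Lib.FFModule.cj_sup, hsVs]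
      refine sup_le (sup_le ?_ ?_) (hsRVs.trans (centralizer_le (zpowers_le.2 ha.1.1)))
      · exact (el_le_centralizer hVsel).trans (centralizer_le (zpowers_le.2 ha.1.1))
      · exact le_centralizer_iff.1 (zpowers_le.2 ha.2)
    rw [cj_of_mem_normalizer (le_normalizer hsX₀)] at hle
    exact le_centralizer_iff.1 hle (mem_zpowers a)
  have h3 : (centralizer (A : Set G)).relIndex B ≤ (centralizer (Vt : Set G)).relIndex A := by
    have e : (centralizer (Vs : Set G)).relIndex B = (centralizer (Vt : Set G)).relIndex A := by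
      rw [← hAB, ← relIndex_cj s (centralizer (Vs : Set G)) B, cj_centralizer, hsVs]
    exact e ▸ relIndex_le_of_le_left (centralizer_le inf_le_left) FiniteIndex.index_ne_zero
  refine hno ⟨A, P ⊔ R, hPS, sup_le (hPX.trans hXH) hRH, le_sup_right, inf_le_right.trans le_sup_left,
    Cfsg.Lib.ElemToolkit.elementary_mono inf_le_left hVsel, fun hAc => ha₀C ?_, ?_, ?_⟩
  · rw [commutatorElement_eq_one_iff_mul_comm.2 (mem_centralizer_iff.1 (hAc ha₀) z hzV)]
    exact one_mem _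
  · refine le_bot_iff.1 ?_
    have e1 : ⁅Vt, A⁆ ≤ B := commutator_le.2 fun v hv a ha => hVtP a ha.2 v hv
    have e2 : ⁅B, A⁆ ≤ C0 := commutator_le.2 fun b hb a ha => mem_inf.2 ⟨(hVtP a ha.2 b hb.1).1, by
      rw [← commutatorElement_inv a b]
      exact inv_mem (hVsP b hb.2 a ha.1).1⟩
    have e3 : ⁅C0, A⁆ = ⊥ := commutator_eq_bot_iff_le_centralizer.2
      (inf_le_right.trans ((el_le_centralizer hVsel).trans (centralizer_le inf_le_left)))
    exact (commutator_mono ((commutator_mono e1 le_rfl).trans e2) le_rfl).trans e3.le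
  · have e : (B ⊓ centralizer (A : Set G)).relIndex Vt =
        (centralizer (A : Set G)).relIndex B * B.relIndex Vt := by
      rw [← relIndex_mul_relIndex (B ⊓ centralizer (A : Set G)) B Vt inf_le_left inf_le_left, inf_relIndex_left]
    calc (centralizer (A : Set G)).relIndex Vt ≤ (B ⊓ centralizer (A : Set G)).relIndex Vt :=
          relIndex_le_of_le_left inf_le_right FiniteIndex.index_ne_zero
      _ ≤ _ := by rw [e, pow_two]; exact Nat.mul_le_mul h3 (h1.trans h2)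

end Cfsg.Lib.Qrc
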