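import Cfsg.Agent.QTKE.Qrc.Base
import Cfsg.Agent.QTKE.PushUp.Main
import Cfsg.Agent.Components.Misc.Large
import Cfsg.Agent.JComp.Basic
import Cfsg.Agent.PLocal.FFModule.Local

/-!
The setting for the `qrc`-lemma and its first consequences.
-/

set_option autoImplicit false
set_option linter.unusedSectionVars false
set_option linter.style.haveILetI false

namespace Cfsg.Lib.Qrc

open Subgroup
open Cfsg.Lib.FFSLTwo (cj mem_cj)
open Cfsg.Lib.FFModule (conj_mem_cj cj_mul cj_one cj_inv_cj cj_cj_inv card_cj)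
open scoped commutatorElement

universe u

variable {G : Type u} [Group G] [Finite G]

theorem relIndex_le_right (H : Subgroup G) {K L : Subgroup G} (h : K ≤ L) : H.relIndex K ≤ H.relIndex L :=
  relIndex_le_of_le_right h (Nat.card_pos (α := L ⧸ H.subgroupOf L)).ne'

theorem relIndex_mul_card {H K : Subgroup G} (h : H ≤ K) : H.relIndex K * Nat.card H = Nat.card K := by
  rw [← Nat.card_congr (subgroupOfEquivOfLe h).toEquiv, relIndex, index_mul_card]

theorem commutator_le_left_of_normalize {A V : Subgroup G} (hA : A ≤ normalizer (V : Set G)) : ⁅V, A⁆ ≤ V :=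
  commutator_le.2 fun v hv a ha => by
    rw [show ⁅v, a⁆ = v * (a * v⁻¹ * a⁻¹) by rw [commutatorElement_def]; group]
    exact mul_mem hv ((mem_normalizer_iff.1 (hA ha) _).1 (inv_mem hv))

theorem cj_le_normalizer {g : G} {A B : Subgroup G} (h : A ≤ normalizer (B : Set G)) :
    cj g A ≤ normalizer (cj g B : Set G) := fun _ hx => le_normalizer_map _ (map_mono h hx)

theorem isPGroup_elem {p : ℕ} {A : Subgroup G} (h : Cfsg.IsElementaryAbelian p A) : IsPGroup p A :=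
  fun a => ⟨1, Subtype.ext (by rw [pow_one]; push_cast; exact h.2 a a.2)⟩

theorem el_le_centralizer {p : ℕ} {A : Subgroup G} (h : Cfsg.IsElementaryAbelian p A) :
    A ≤ centralizer (A : Set G) := fun _ ha => mem_centralizer_iff.2 fun _ hb =>
  Cfsg.Lib.ElemToolkit.comm_of h.1 hb ha

theorem commutator_eq_bot_of_el {p : ℕ} {A : Subgroup G} (h : Cfsg.IsElementaryAbelian p A) : ⁅A, A⁆ = ⊥ :=
  commutator_eq_bot_iff_le_centralizer.2 (el_le_centralizer h)

theorem induces_of_el {B V : Subgroup G} (hB : Cfsg.IsElementaryAbelian 2 B)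
    (h : ¬ B ≤ centralizer (V : Set G)) : Cfsg.InducesElemAbelianTwoGroupOn B V := by
  refine ⟨h, fun b hb => by rw [hB.2 b hb]; exact one_mem _, fun b hb b' hb' => ?_⟩
  rw [Cfsg.Lib.ElemToolkit.comm_of hB.1 hb hb', mul_inv_cancel_right, mul_inv_cancel]
  exact one_mem _

/-- two subgroups normalising each other -/
theorem commutator_le_inf_of_normalize {A V : Subgroup G} (hA : A ≤ normalizer (V : Set G))
    (hV : V ≤ normalizer (A : Set G)) : ⁅V, A⁆ ≤ V ⊓ A :=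
  le_inf (commutator_le_left_of_normalize hA) (commutator_comm V A ▸ commutator_le_left_of_normalize hV)

/-- mutually normalising conjugates: one of the two ways gives a quadratic action of small index -/
theorem pair_cases {V : Subgroup G} (hV : Cfsg.IsElementaryAbelian 2 V) (x : G)
    (h₁ : cj x V ≤ normalizer (V : Set G)) (h₂ : V ≤ normalizer (cj x V : Set G))
    (hne : ¬ cj x V ≤ centralizer (V : Set G)) :
    ∃ y, (y = x ∨ y = x⁻¹) ∧ ¬ cj y V ≤ centralizer (V : Set G) ∧ ⁅⁅V, cj y V⁆, cj y V⁆ = ⊥ ∧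
      (centralizer (cj y V : Set G)).relIndex V ≤ (centralizer (V : Set G)).relIndex (cj y V) := by
  have hq : ∀ y, cj y V ≤ normalizer (V : Set G) → V ≤ normalizer (cj y V : Set G) →
      ⁅⁅V, cj y V⁆, cj y V⁆ = ⊥ := fun y a b => le_bot_iff.1
    ((commutator_mono ((commutator_le_inf_of_normalize a b).trans inf_le_right) le_rfl).trans
      (commutator_eq_bot_of_el (Cfsg.Lib.FFModule.el_cj y hV)).le)
  rcases le_or_gt ((centralizer (cj x V : Set G)).relIndex V) ((centralizer (V : Set G)).relIndex (cj x V))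
    with h | h
  · exact ⟨x, Or.inl rfl, hne, hq x h₁ h₂, h⟩
  have e1 : (centralizer (V : Set G)).relIndex (cj x V) = (centralizer (cj x⁻¹ V : Set G)).relIndex V := by
    conv_rhs => rw [← relIndex_cj x, cj_centralizer, cj_cj_inv]
  have e2 : (centralizer (cj x V : Set G)).relIndex V = (centralizer (V : Set G)).relIndex (cj x⁻¹ V) := by
    conv_rhs => rw [← relIndex_cj x, cj_centralizer, cj_cj_inv]
  refine ⟨x⁻¹, Or.inr rfl, fun hc => hne ?_, hq x⁻¹ ?_ ?_, by rw [← e1, ← e2]; exact h.le⟩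
  · have h3 : V ≤ centralizer (cj x V : Set G) := by
      have := map_mono (f := (MulAut.conj x).toMonoidHom) hc
      change cj x (cj x⁻¹ V) ≤ cj x (centralizer (V : Set G)) at this
      rwa [cj_cj_inv, cj_centralizer] at this
    exact le_centralizer_iff.1 h3
  · have := cj_le_normalizer (g := x⁻¹) h₂
    rwa [cj_inv_cj] at this
  · have := cj_le_normalizer (g := x⁻¹) h₁
    rwa [cj_inv_cj] at this

/-- the hypotheses, with the first and the third alternative excluded -/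
structure Setup (T : Sylow 2 G) (M₀ H K V : Subgroup G) : Prop where
  hev : Cfsg.IsOfEvenCharacteristic G
  hTM : (T : Subgroup G) ≤ M₀
  hTH : (T : Subgroup G) ≤ H
  hcore : Cfsg.pCore 2 ↥H ≠ ⊥
  hKH : K ≤ H
  hKne : K ≠ H
  hTK : (T : Subgroup G) ≤ K
  hmax : ∀ X : Subgroup G, X ≤ H → (T : Subgroup G) ≤ X → X ≠ H → X ≤ K
  hVM : V ≤ M₀
  hMV : M₀ ≤ normalizer (V : Set G)
  hV : Cfsg.IsElementaryAbelian 2 V
  hred : ∀ N : Subgroup G, N ≤ M₀ → M₀ ≤ normalizer (N : Set G) →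
    M₀ ⊓ centralizer (V : Set G) ≤ N →
      (∃ k : ℕ, (M₀ ⊓ centralizer (V : Set G)).relIndex N = 2 ^ k) → N = M₀ ⊓ centralizer (V : Set G)
  hR : Cfsg.pCoreOf 2 M₀ = (T : Subgroup G) ⊓ centralizer (V : Set G)
  hI : K ≤ normalizer (Cfsg.oddGenerated M₀ : Set G) ∨ K ≤ normalizer (V : Set G)
  hn1 : ¬ ∃ R₀ : Subgroup G, R₀ ≠ ⊥ ∧ R₀ ≤ Cfsg.pCoreOf 2 M₀ ∧ M₀ ⊔ H ≤ normalizer (R₀ : Set G)
  hn3 : ¬ Cfsg.QuadParamLE M₀ V 2

namespace Setup

variable {T : Sylow 2 G} {M₀ H K V : Subgroup G} (d : Setup T M₀ H K V)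
include d

theorem VT : V ≤ (T : Subgroup G) := by
  haveI : Fact (Nat.Prime 2) := ⟨Nat.prime_two⟩
  exact (Cfsg.Lib.Large.le_pCoreOf d.hVM (isPGroup_elem d.hV) d.hMV).trans (d.hR.le.trans inf_le_left)

theorem VR : V ≤ Cfsg.pCoreOf 2 M₀ := d.hR.ge.trans' (le_inf d.VT (el_le_centralizer d.hV))

theorem RT : Cfsg.pCoreOf 2 M₀ ≤ (T : Subgroup G) := d.hR.le.trans inf_le_left

theorem RC : Cfsg.pCoreOf 2 M₀ ≤ centralizer (V : Set G) := d.hR.le.trans inf_le_right

theorem MR : M₀ ≤ normalizer (Cfsg.pCoreOf 2 M₀ : Set G) :=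
  le_normalizer.trans (Cfsg.Lib.Large.normalizer_pCoreOf_le M₀)

theorem QT : Cfsg.pCoreOf 2 H ≤ (T : Subgroup G) := by
  haveI : Fact (Nat.Prime 2) := ⟨Nat.prime_two⟩
  refine (map_mono (Cfsg.Lib.Coprime.pCore_le_sylow 2 (T.subtype d.hTH))).trans ?_
  rw [Sylow.coe_subtype, subgroupOf_map_subtype]
  exact inf_le_left

theorem HQ : H ≤ normalizer (Cfsg.pCoreOf 2 H : Set G) :=
  le_normalizer.trans (Cfsg.Lib.Large.normalizer_pCoreOf_le H)

/-- a nontrivial subgroup of the core of `M₀` normalised by it is not normal in `H` -/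
theorem proper {R₀ : Subgroup G} (h0 : R₀ ≠ ⊥) (hR₀ : R₀ ≤ Cfsg.pCoreOf 2 M₀)
    (hM : M₀ ≤ normalizer (R₀ : Set G)) : H ⊓ normalizer (R₀ : Set G) ≤ K :=
  d.hmax _ inf_le_left (le_inf d.hTH (d.hTM.trans hM)) fun he =>
    d.hn1 ⟨R₀, h0, hR₀, sup_le hM (he.ge.trans inf_le_right)⟩

theorem constrained {h : G} (hh : h ∈ H) (hc : h ∈ centralizer (Cfsg.pCoreOf 2 H : Set G)) :
    h ∈ Cfsg.pCoreOf 2 H := by
  haveI : Fact (Nat.Prime 2) := ⟨Nat.prime_two⟩
  set O := Cfsg.pCoreOf 2 H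
  set M := normalizer (O : Set G)
  have hM : Cfsg.Lib.Components.CharPGroup 2 ↥M := d.hev _
    ⟨O, (Cfsg.Lib.Components.isPGroup_pCore (G := ↥H) 2).map _,
      fun h0 => d.hcore ((map_eq_bot_iff_of_injective _ H.subtype_injective).1 h0), rfl⟩
    ⟨T, d.hTH.trans d.HQ⟩
  have hle : Cfsg.pCoreOf 2 M ≤ Cfsg.pCoreOf 2 H := by
    have hT : Cfsg.pCoreOf 2 M ≤ (T : Subgroup G) := by
      refine (map_mono (Cfsg.Lib.Coprime.pCore_le_sylow 2 (T.subtype (d.hTH.trans d.HQ)))).trans ?_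
      rw [Sylow.coe_subtype, subgroupOf_map_subtype]
      exact inf_le_left
    exact Cfsg.Lib.Large.le_pCoreOf (hT.trans d.hTH) (T.2.to_le hT)
      (d.HQ.trans (le_normalizer.trans (Cfsg.Lib.Large.normalizer_pCoreOf_le M)))
  refine hle ⟨⟨h, d.HQ hh⟩, hM (mem_centralizer_iff.2 fun w hw => Subtype.ext ?_), rfl⟩
  exact mem_centralizer_iff.1 hc (w : G) (hle (mem_map_of_mem _ hw))

/-- the residual subgroup of `H` moves `V` -/
theorem F1 : ¬ (T : Subgroup G) ⊓ Cfsg.oddGenerated H ≤ centralizer (V : Set G) := by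
  haveI : Fact (Nat.Prime 2) := ⟨Nat.prime_two⟩
  intro hle
  set R := Cfsg.pCoreOf 2 M₀
  set Y := Cfsg.oddGenerated H
  have hYH : Y ≤ H := (closure_le _).2 fun x hx => hx.1
  have hYn : H ≤ normalizer (Y : Set G) := by
    refine Cfsg.Lib.JComp.le_normalizer_of_conj fun a ha x hx => ?_
    have h1 : Y ≤ Y.comap (MulAut.conj a).toMonoidHom := (closure_le _).2 fun y hy => subset_closure
      ⟨mul_mem (mul_mem ha hy.1) (inv_mem ha), by
        show Odd (orderOf ((MulAut.conj a) y))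
        rw [MulEquiv.orderOf_eq]; exact hy.2⟩
    exact h1 hx
  have hRY : R ≤ normalizer (Y : Set G) := (d.RT.trans d.hTH).trans hYn
  have hHT : H ≤ normalizer ((Y ⊔ R : Subgroup G) : Set G) := by
    have h1 : Y ≤ normalizer ((Y ⊔ R : Subgroup G) : Set G) := le_sup_left.trans le_normalizer
    have h2 : (T : Subgroup G) ≤ normalizer ((Y ⊔ R : Subgroup G) : Set G) := fun t ht => by
      rw [mem_normalizer_iff_map_conj_eq, Subgroup.map_sup,
        mem_normalizer_iff_map_conj_eq.1 (hYn (d.hTH ht)), mem_normalizer_iff_map_conj_eq.1 (d.MR (d.hTM ht))]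
    conv_lhs => rw [← Cfsg.Lib.LocalCStar.residual_sup_eq (T := T) d.hTH,
      ← Cfsg.Lib.PushUpOrbit.oddGenerated_eq]
    exact sup_le h1 h2
  have hTR : (T : Subgroup G) ⊓ (Y ⊔ R) = R := by
    refine le_antisymm ?_ (le_inf d.RT le_sup_right)
    rintro x ⟨hxT, hx⟩
    replace hx : x ∈ R ⊔ Y := sup_comm Y R ▸ hx
    rw [← SetLike.mem_coe, coe_mul_of_left_le_normalizer_right R Y hRY] at hx
    obtain ⟨r, hr, y, hy, rfl⟩ := hx
    have hyT : y ∈ (T : Subgroup G) := by simpa using mul_mem (inv_mem (d.RT hr)) hxT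
    exact mul_mem hr (d.hR.ge ⟨hyT, hle ⟨hyT, hy⟩⟩)
  set X := Y ⊔ R
  have hXH : X ≤ H := sup_le hYH (d.RT.trans d.hTH)
  haveI hn : (X.subgroupOf H).Normal := (normal_subgroupOf_iff_le_normalizer hXH).2 hHT
  obtain ⟨P, hP⟩ := Cfsg.Lib.FFSLTwo.card_sylow_inf (T.subtype d.hTH) (X.subgroupOf H)
  let e := subgroupOfEquivOfLe hXH
  let P' : Sylow 2 ↥X := P.mapSurjective (f := e.toMonoidHom) e.surjective
  have hP' : (P' : Subgroup ↥X) = R.subgroupOf X := by
    rw [show (P' : Subgroup ↥X) = (P : Subgroup ↥(X.subgroupOf H)).map e.toMonoidHom from rfl]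
    ext x
    rw [mem_subgroupOf]
    constructor
    · rintro ⟨y, hy, rfl⟩
      have h1 : (y : ↥H) ∈ (P : Subgroup ↥(X.subgroupOf H)).map (X.subgroupOf H).subtype := ⟨y, hy, rfl⟩
      rw [hP] at h1
      exact hTR.le ⟨mem_subgroupOf.1 h1.1, mem_subgroupOf.1 h1.2⟩
    · intro hx
      have h1 : (⟨x, hXH x.2⟩ : ↥H) ∈ (T.subtype d.hTH : Subgroup ↥H) ⊓ X.subgroupOf H :=
        ⟨mem_subgroupOf.2 (d.RT hx), mem_subgroupOf.2 x.2⟩
      rw [← hP] at h1
      obtain ⟨y, hy, hyx⟩ := h1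
      exact ⟨y, hy, Subtype.ext (congrArg (fun w : ↥H => (w : G)) hyx)⟩
  refine d.hn1 (Cfsg.Lib.PushUpOrbit.common_normal d.hev T d.hTM d.hTH d.hcore
    ⟨K.subgroupOf H, ⟨⟨fun h => d.hKne (le_antisymm d.hKH (subgroupOf_eq_top.1 h)), fun L hL => ?_⟩,
      fun t ht => mem_subgroupOf.2 (d.hTK (mem_subgroupOf.1 ht))⟩, fun L ⟨hL, hTL⟩ => ?_⟩ ?_ d.RT ⟨P', hP'⟩ d.MR)
  · by_contra hne
    refine hL.not_ge fun x hx => mem_subgroupOf.2 (d.hmax (L.map H.subtype) (map_subtype_le _) ?_ (fun h => hne ?_)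
      (mem_map_of_mem _ hx))
    · intro t ht
      exact ⟨⟨t, d.hTH ht⟩, hL.le (mem_subgroupOf.2 (d.hTK ht)), rfl⟩
    · exact map_injective H.subtype_injective (by rw [h, ← MonoidHom.range_eq_map, Subgroup.range_subtype])
  · have hLK : L ≤ K.subgroupOf H := fun x hx => mem_subgroupOf.2 (d.hmax (L.map H.subtype) (map_subtype_le _)
      (fun t ht => ⟨⟨t, d.hTH ht⟩, hTL (mem_subgroupOf.2 ht), rfl⟩)
      (fun h => hL.1 (map_injective H.subtype_injective (by rw [h, ← MonoidHom.range_eq_map, Subgroup.range_subtype])))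
      (mem_map_of_mem _ hx))
    rcases hLK.lt_or_eq with h | h
    · exact absurd (hL.2 _ h) (fun h' => d.hKne (le_antisymm d.hKH (subgroupOf_eq_top.1 h')))
    · exact h
  · intro h0
    have hV0 : V = ⊥ := le_bot_iff.1 (h0 ▸ d.VR)
    refine d.hcore (le_bot_iff.1 fun q hq => ?_)
    have h1 : (q : G) ∈ R := d.hR.ge (mem_inf.2 ⟨d.QT (mem_map_of_mem _ hq), by
      rw [hV0, mem_centralizer_iff]
      intro y hy
      rw [SetLike.mem_coe, mem_bot] at hy
      simp [hy]⟩)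
    rw [show R = ⊥ from h0, mem_bot] at h1
    exact mem_bot.2 (Subtype.ext h1)

theorem V_ne : V ≠ ⊥ := fun h => d.F1 (inf_le_left.trans fun t _ => by
  rw [h, mem_centralizer_iff]
  intro y hy
  rw [SetLike.mem_coe, mem_bot] at hy
  simp [hy])

theorem NV : H ⊓ normalizer (V : Set G) ≤ K := d.proper d.V_ne d.VR d.hMV

theorem CV : H ⊓ centralizer (V : Set G) ≤ K :=
  (inf_le_inf_left _ (centralizer_le_normalizer _)).trans d.NV

theorem R_ne : Cfsg.pCoreOf 2 M₀ ≠ ⊥ := fun h => d.V_ne (le_bot_iff.1 (h ▸ d.VR))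

/-- no quadratic action of small index inside `M₀` -/
theorem no_quad {B : Subgroup G} (hB : B ≤ M₀) (hel : Cfsg.IsElementaryAbelian 2 B)
    (hne : ¬ B ≤ centralizer (V : Set G)) (hq : ⁅⁅V, B⁆, B⁆ = ⊥)
    (hle : (centralizer (B : Set G)).relIndex V ≤ ((centralizer (V : Set G)).relIndex B) ^ 2) : False :=
  d.hn3 ⟨B, hB, induces_of_el hel hne, hq, by rwa [inf_relIndex_left]⟩

/-- mutually normalising conjugates of `V` commute -/
theorem commute_conj {x : G} (h₁ : cj x V ≤ M₀) (h₂ : V ≤ cj x M₀) : cj x V ≤ centralizer (V : Set G) := by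
  by_contra hne
  obtain ⟨y, hy, hne', hq, hle⟩ := pair_cases d.hV x (h₁.trans d.hMV) (h₂.trans (cj_le_normalizer d.hMV)) hne
  refine d.no_quad ?_ (Cfsg.Lib.FFModule.el_cj y d.hV) hne' hq (hle.trans (Nat.le_self_pow two_ne_zero _))
  rcases hy with rfl | rfl
  · exact h₁
  · have := map_mono (f := (MulAut.conj x⁻¹).toMonoidHom) h₂
    change cj x⁻¹ V ≤ cj x⁻¹ (cj x M₀) at this
    rwa [cj_inv_cj] at this

/-- the elementary subgroups of largest order of `T` centralise `V` -/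
theorem max_elem_le {A : Subgroup G} (hA : Cfsg.Lib.Thompson.IsMaxElem 2 (T : Subgroup G) A) :
    A ≤ Cfsg.pCoreOf 2 M₀ := by
  haveI : Fact (Nat.Prime 2) := ⟨Nat.prime_two⟩
  have hAM : A ≤ normalizer (V : Set G) := hA.1.trans (d.hTM.trans d.hMV)
  by_contra hne
  have hAC : ¬ A ≤ centralizer (V : Set G) := fun h => hne ((le_inf hA.1 h).trans d.hR.ge)
  have hb := Cfsg.Lib.FFModule.bestOffender_of_max d.VT d.hV hA
  obtain ⟨h1, h2⟩ := Cfsg.Lib.ElemToolkit.replacement d.hV hAM (Cfsg.Lib.ElemToolkit.opt_of_best hb)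
    (S := (V : Set G)) subset_rfl
  set W := Cfsg.Lib.ElemToolkit.commSpan (V : Set G) A with hW
  set B := A ⊓ centralizer (W : Set G) with hB
  have hWe : ⁅V, A⁆ = W := rfl
  by_cases hBC : B ≤ centralizer (V : Set G)
  · have e : V ⊓ centralizer (B : Set G) = V := inf_eq_left.2 (le_centralizer_iff.1 hBC)
    rw [e] at h2
    have hgen : V ≤ ⁅V, A⁆ ⊔ (V ⊓ centralizer (A : Set G)) := by rw [hWe]; exact h2.le
    have := Cfsg.Lib.ElemToolkit.comm_lt Nat.prime_two d.hV hAM hb hgen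
    exact hAC (le_centralizer_iff.1 (commutator_eq_bot_iff_le_centralizer.1 this))
  have hq : ⁅⁅V, B⁆, B⁆ = ⊥ := le_bot_iff.1 <| by
    refine (commutator_mono ((commutator_mono le_rfl inf_le_left).trans hWe.le) le_rfl).trans (le_bot_iff.2 ?_)
    rw [commutator_eq_bot_iff_le_centralizer]
    exact le_centralizer_iff.1 inf_le_right
  refine d.no_quad (inf_le_left.trans (hA.1.trans d.hTM))
    (Cfsg.Lib.ElemToolkit.elementary_mono inf_le_left hA.2.1) hBC hq
    (le_trans ?_ (Nat.le_self_pow two_ne_zero _))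
  set C := B ⊓ centralizer (V : Set G) with hC
  have h3 := Cfsg.Lib.ElemToolkit.meas_le (Cfsg.Lib.ElemToolkit.opt_of_best hb) (inf_le_left.trans inf_le_left : C ≤ A)
  rw [← h1] at h3
  have e : V ⊓ centralizer (C : Set G) = V := inf_eq_left.2 (le_centralizer_iff.1 inf_le_right)
  rw [Cfsg.Lib.ElemToolkit.meas, Cfsg.Lib.ElemToolkit.meas, e] at h3
  have hV1 := relIndex_mul_card (inf_le_left : V ⊓ centralizer (B : Set G) ≤ V)
  have hB1 := relIndex_mul_card (inf_le_left : B ⊓ centralizer (V : Set G) ≤ B)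
  rw [inf_relIndex_left] at hV1 hB1
  rw [← hV1, ← hB1] at h3
  refine Nat.le_of_mul_le_mul_right (?_ : _ * (Nat.card C * Nat.card ↥(V ⊓ centralizer (B : Set G))) ≤ _)
    (Nat.mul_pos Nat.card_pos Nat.card_pos)
  calc _ = Nat.card C * ((centralizer (B : Set G)).relIndex V * Nat.card ↥(V ⊓ centralizer (B : Set G))) := by ring
    _ ≤ _ := h3
    _ = _ := by ring

theorem J_le : Cfsg.thompsonSubgroupOf 2 (T : Subgroup G) ≤ Cfsg.pCoreOf 2 M₀ := by
  rw [Cfsg.Lib.Thompson.thompsonSubgroupOf_eq]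
  exact sSup_le fun A hA => d.max_elem_le hA

theorem NJ : H ⊓ normalizer (Cfsg.thompsonSubgroupOf 2 (T : Subgroup G) : Set G) ≤ K := by
  haveI : Fact (Nat.Prime 2) := ⟨Nat.prime_two⟩
  refine d.proper (Cfsg.Lib.Thompson.thompsonSubgroupOf_ne_bot T.2
    fun h => d.R_ne (le_bot_iff.1 (d.RT.trans h.le))) d.J_le fun m hm => ?_
  rw [show Cfsg.thompsonSubgroupOf 2 (T : Subgroup G) = Cfsg.thompsonSubgroupOf 2 (Cfsg.pCoreOf 2 M₀) from ?_]
  · exact Cfsg.Lib.Thompson.normalizer_le_normalizer_thompson _ (d.MR hm)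
  rw [Cfsg.Lib.Thompson.thompsonSubgroupOf_eq, Cfsg.Lib.Thompson.thompsonSubgroupOf_eq]
  obtain ⟨A₀, hA₀⟩ := Cfsg.Lib.Thompson.exists_isMaxElem (p := 2) (T : Subgroup G)
  refine congrArg sSup (Set.ext fun A => ⟨fun hA => ⟨d.max_elem_le hA, hA.2.1, fun B hB hBe =>
    hA.2.2 B (hB.trans d.RT) hBe⟩, fun hA => ⟨hA.1.trans d.RT, hA.2.1, fun B hB hBe => ?_⟩⟩)
  exact (hA₀.2.2 B hB hBe).trans (hA.2.2 A₀ (d.max_elem_le hA₀) hA₀.2.1)

end Setup

end Cfsg.Lib.Qrc
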