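import Cfsg.Agent.QTKE.Qrc.Wreath
import Cfsg.Agent.PLocal.FFModule.Module
import Cfsg.Agent.PLocal.FFModule.Offender

/-!
Generating families of members in general position; the part of a Sylow subgroup in the product of the members.
-/

set_option autoImplicit false
set_option linter.unusedSectionVars false
set_option linter.style.haveILetI false

namespace Cfsg.Lib.Qrc

open Subgroup
open Cfsg.Lib.FFSLTwo
open Cfsg.Lib.FFModule

variable {P : Type*} [Group P] [Finite P] {V : Type*} [AddCommGroup V] [Finite V]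
variable {p : ℕ} [Fact p.Prime] {φ : P →* AddMonoid.End V} {q : ℕ}

/-- each member together with the joint fixed space of the others spans -/
def GenPos (φ : P →* AddMonoid.End V) (s : Set (Subgroup P)) : Prop :=
  ∀ a ∈ s, fixA φ a ⊔ fixA φ (sSup (s \ {a})) = ⊤

theorem fix_sSup_insert (a : Subgroup P) (t : Set (Subgroup P)) :
    fixA φ (sSup (insert a t)) = fixA φ a ⊓ fixA φ (sSup t) := by rw [sSup_insert, fixA_sup]

theorem fix_sSup_empty : fixA φ (sSup (∅ : Set (Subgroup P))) = ⊤ := eq_top_iff.2 fun v _ a ha => by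
  rw [sSup_empty, mem_bot] at ha
  rw [ha]; exact phi_one v

theorem index_fix_le {t : Finset (Subgroup P)} (ht : ∀ a ∈ t, (fixA φ a).index = q) :
    (fixA φ (sSup (t : Set (Subgroup P)))).index ≤ q ^ t.card := by
  classical
  induction t using Finset.induction_on with
  | empty => rw [Finset.coe_empty, fix_sSup_empty]; simp
  | @insert a t hat ih =>
    rw [Finset.coe_insert, fix_sSup_insert, Finset.card_insert_of_notMem hat, pow_succ']
    exact (index_inf_le _ _).trans (Nat.mul_le_mul (ht a (Finset.mem_insert_self a t)).le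
      (ih fun b hb => ht b (Finset.mem_insert_of_mem hb)))

theorem index_fix_eq {s t : Finset (Subgroup P)} (hs : ∀ a ∈ s, (fixA φ a).index = q)
    (hgp : GenPos φ (s : Set (Subgroup P))) (hts : t ⊆ s) :
    (fixA φ (sSup (t : Set (Subgroup P)))).index = q ^ t.card := by
  classical
  induction t using Finset.induction_on with
  | empty => rw [Finset.coe_empty, fix_sSup_empty]; simp
  | @insert a t hat ih =>
    rw [Finset.coe_insert, fix_sSup_insert, Finset.card_insert_of_notMem hat, pow_succ']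
    have hts' : t ⊆ s := (Finset.subset_insert a t).trans hts
    have ha := hts (Finset.mem_insert_self a t)
    have h := index_inf_mul_sup (fixA φ a) (fixA φ (sSup (t : Set (Subgroup P))))
    have htop : fixA φ a ⊔ fixA φ (sSup (t : Set (Subgroup P))) = ⊤ := top_le_iff.1 <| by
      rw [← hgp a ha]
      exact sup_le_sup_left (fixA_anti (sSup_le_sSup (show (t : Set (Subgroup P)) ⊆ (s : Set (Subgroup P)) \ {a} from
        fun b hb => ⟨hts' hb, fun h0 => hat (by rw [Set.mem_singleton_iff] at h0; exact h0 ▸ hb)⟩))) _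
    rw [htop, AddSubgroup.index_top, mul_one, hs a ha, ih hts'] at h
    exact h

/-- a larger module split by a family in general position -/
theorem split_of_genPos {V₂ : Type*} [AddCommGroup V₂] {φ₂ : P →* AddMonoid.End V₂} (ι : V →+ V₂)
    (hι : ∀ g v, φ₂ g (ι v) = ι (φ g v)) {s t : Finset (Subgroup P)}
    (hgp : GenPos φ (s : Set (Subgroup P))) (hts : t ⊆ s)
    (hone : ∀ a ∈ s, ∀ x, ∃ v, ∀ g ∈ a, φ₂ g (x - ι v) = x - ι v) (x : V₂) :
    ∃ v, ∀ a ∈ t, ∀ g ∈ a, φ₂ g (x - ι v) = x - ι v := by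
  classical
  induction t using Finset.induction_on with
  | empty => exact ⟨0, fun a ha => absurd ha (Finset.notMem_empty a)⟩
  | @insert a t hat ih =>
    have hts' : t ⊆ s := (Finset.subset_insert a t).trans hts
    have ha := hts (Finset.mem_insert_self a t)
    obtain ⟨v, hv⟩ := ih hts'
    obtain ⟨u, hu⟩ := hone a ha (x - ι v)
    obtain ⟨f, hf, e, he, hfe⟩ := AddSubgroup.mem_sup.1 ((hgp a ha).symm ▸ AddSubgroup.mem_top u :
      u ∈ fixA φ a ⊔ fixA φ (sSup ((s : Set (Subgroup P)) \ {a})))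
    refine ⟨v + e, fun b hb g hg => ?_⟩
    rcases Finset.mem_insert.1 hb with rfl | hb
    · have h1 : x - ι (v + e) = (x - ι v - ι u) + ι f := by rw [← hfe, map_add, map_add]; abel
      rw [h1, map_add, hu g hg, hι, hf g hg]
    · have heg : φ g e = e := he g ((le_sSup (show b ∈ ((s : Set (Subgroup P)) \ {a}) from
        ⟨hts' hb, fun h0 => hat (by rw [Set.mem_singleton_iff] at h0; exact h0 ▸ hb)⟩) : b ≤ _) hg)
      rw [map_add, ← sub_sub, map_sub, hv b hb g hg, hι, heg]

theorem mem_sSup_fix {V₂ : Type*} [AddCommGroup V₂] {φ₂ : P →* AddMonoid.End V₂} {s : Set (Subgroup P)} {v : V₂}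
    (h : ∀ a ∈ s, ∀ g ∈ a, φ₂ g v = v) : ∀ g ∈ sSup s, φ₂ g v = v := by
  let S : Subgroup P :=
    { carrier := {g | φ₂ g v = v}
      one_mem' := by show φ₂ 1 v = v; rw [map_one]; rfl
      mul_mem' := fun {a b} ha hb => by
        show φ₂ (a * b) v = v
        rw [map_mul]
        show φ₂ a (φ₂ b v) = v
        rw [show φ₂ b v = v from hb, show φ₂ a v = v from ha]
      inv_mem' := fun {a} ha => by
        show φ₂ a⁻¹ v = v
        conv_lhs => rw [← (show φ₂ a v = v from ha)]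
        show (φ₂ a⁻¹ * φ₂ a) v = v
        rw [← map_mul, inv_mul_cancel, map_one]; rfl }
  exact fun g hg => (sSup_le fun a ha => h a ha : sSup s ≤ S) hg

/-- the even functions -/
theorem card_even (N : ℕ) :
    Nat.card {z : Fin (N + 1) → ZMod 2 // ∑ i, z i = 0} = 2 ^ N := by
  have e : {z : Fin (N + 1) → ZMod 2 // ∑ i, z i = 0} ≃ (Fin N → ZMod 2) :=
    { toFun := fun z i => z.1 i.succ
      invFun := fun y => ⟨Fin.cons (-∑ i, y i) y, by
        rw [Fin.sum_univ_succ]; simp only [Fin.cons_zero, Fin.cons_succ]; exact neg_add_cancel _⟩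
      left_inv := fun z => by
        refine Subtype.ext (funext fun i => ?_)
        refine Fin.cases ?_ ?_ i
        · have h := z.2
          rw [Fin.sum_univ_succ, add_eq_zero_iff_eq_neg] at h
          simp [h]
        · intro j; simp
      right_inv := fun y => by funext i; simp }
  rw [Nat.card_congr e, Nat.card_fun]
  simp

theorem perm_index {E : Subgroup P} {n : ℕ} (h : BlockPerm φ E n) : (fixA φ E).index = 2 ^ 2 ^ n := by
  obtain ⟨ρ, Ψ, hev, hs, h0, -⟩ := h
  have hker : Ψ.ker = fixA φ E := AddSubgroup.ext fun v => (AddMonoidHom.mem_ker).trans (h0 v)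
  rw [← hker, AddSubgroup.index_ker, ← card_even (2 ^ n)]
  refine Nat.card_congr (Equiv.subtypeEquivRight fun z => ⟨?_, fun hz => ?_⟩)
  · rintro ⟨v, rfl⟩; exact hev v
  · obtain ⟨u, -, hu⟩ := hs z hz
    exact ⟨u, hu⟩

/-- two commuting factors cut a maximal `p`-subgroup -/
theorem max_sup {A B R : Subgroup P} (hc : Comm A B)
    (hR : IsPGroup p R) (hle : R ≤ A ⊔ B) (hmax : ∀ S : Subgroup P, IsPGroup p S → R ≤ S → S ≤ A ⊔ B → S ≤ R)
    (hinf : A ⊓ B = ⊥) :
    R ≤ (R ⊓ A) ⊔ (R ⊓ B) ∧ ∀ S : Subgroup P, IsPGroup p S → R ⊓ A ≤ S → S ≤ A → S ≤ R ⊓ A := by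
  classical
  have hAB : A ≤ normalizer (B : Set P) := fun a ha => centralizer_le_normalizer _
    (mem_centralizer_iff.2 fun b hb => (hc a ha b hb).symm)
  let SA : Set P := {a | a ∈ A ∧ ∃ b ∈ B, a * b ∈ R}
  let SB : Set P := {b | b ∈ B ∧ ∃ a ∈ A, a * b ∈ R}
  have huniq : ∀ a ∈ A, ∀ b ∈ B, a * b = 1 → a = 1 := fun a ha b hb h => by
    have : a ∈ A ⊓ B := mem_inf.2 ⟨ha, by rw [eq_inv_of_mul_eq_one_left h]; exact inv_mem hb⟩
    rwa [hinf, mem_bot] at this
  let PA : Subgroup P :=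
    { carrier := SA
      one_mem' := ⟨one_mem _, 1, one_mem _, by rw [mul_one]; exact one_mem _⟩
      mul_mem' := by
        rintro a a' ⟨ha, b, hb, h⟩ ⟨ha', b', hb', h'⟩
        refine ⟨mul_mem ha ha', b * b', mul_mem hb hb', ?_⟩
        rw [show a * a' * (b * b') = a * (a' * b) * b' by group, hc a' ha' b hb,
          show a * (b * a') * b' = (a * b) * (a' * b') by group]
        exact mul_mem h h'
      inv_mem' := by
        rintro a ⟨ha, b, hb, h⟩
        refine ⟨inv_mem ha, b⁻¹, inv_mem hb, ?_⟩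
        rw [← _root_.mul_inv_rev, ← hc a ha b hb]
        exact inv_mem h }
  let PB : Subgroup P :=
    { carrier := SB
      one_mem' := ⟨one_mem _, 1, one_mem _, by rw [one_mul]; exact one_mem _⟩
      mul_mem' := by
        rintro b b' ⟨hb, a, ha, h⟩ ⟨hb', a', ha', h'⟩
        refine ⟨mul_mem hb hb', a * a', mul_mem ha ha', ?_⟩
        rw [show a * a' * (b * b') = a * (a' * b) * b' by group, hc a' ha' b hb,
          show a * (b * a') * b' = (a * b) * (a' * b') by group]
        exact mul_mem h h'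
      inv_mem' := by
        rintro b ⟨hb, a, ha, h⟩
        refine ⟨inv_mem hb, a⁻¹, inv_mem ha, ?_⟩
        rw [← _root_.mul_inv_rev, ← hc a ha b hb]
        exact inv_mem h }
  have hpow : ∀ a ∈ A, ∀ b ∈ B, a * b ∈ R → ∃ k : ℕ, a ^ p ^ k = 1 ∧ b ^ p ^ k = 1 := fun a ha b hb h => by
    obtain ⟨k, hk⟩ := hR ⟨a * b, h⟩
    have hk' : (a * b) ^ p ^ k = 1 := congrArg Subtype.val hk
    rw [(show Commute a b from hc a ha b hb).mul_pow] at hk'
    have h1 := huniq _ (pow_mem ha _) _ (pow_mem hb _) hk'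
    exact ⟨k, h1, by rwa [h1, one_mul] at hk'⟩
  have hPA : IsPGroup p PA := fun x => by
    obtain ⟨b, hb, h⟩ := x.2.2
    obtain ⟨k, hk, -⟩ := hpow _ x.2.1 b hb h
    exact ⟨k, Subtype.ext hk⟩
  have hPB : IsPGroup p PB := fun x => by
    obtain ⟨a, ha, h⟩ := x.2.2
    obtain ⟨k, -, hk⟩ := hpow a ha _ x.2.1 h
    exact ⟨k, Subtype.ext hk⟩
  have hPAB : IsPGroup p ↥(PA ⊔ PB) := hPA.to_sup_of_normal_right' hPB fun a ha =>
    centralizer_le_normalizer _ (mem_centralizer_iff.2 fun b hb => (hc a ha.1 b hb.1).symm)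
  have hRP : R ≤ PA ⊔ PB := fun r hr => by
    have h := hle hr
    rw [← SetLike.mem_coe, coe_mul_of_left_le_normalizer_right A B hAB] at h
    obtain ⟨a, ha, b, hb, rfl⟩ := h
    exact mul_mem (mem_sup_left ⟨ha, b, hb, hr⟩) (mem_sup_right ⟨hb, a, ha, hr⟩)
  have hPR := hmax _ hPAB hRP (sup_le_sup (fun a ha => ha.1) fun b hb => hb.1)
  have hA' : PA ≤ R ⊓ A := le_inf (le_sup_left.trans hPR) fun a ha => ha.1
  have hB' : PB ≤ R ⊓ B := le_inf (le_sup_right.trans hPR) fun b hb => hb.1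
  have hRAB : R ≤ (R ⊓ A) ⊔ (R ⊓ B) := hRP.trans (sup_le_sup hA' hB')
  refine ⟨hRAB, fun S hS hle' hSA => ?_⟩
  have hS' : IsPGroup p ↥(S ⊔ (R ⊓ B)) := hS.to_sup_of_normal_right' (hR.to_le inf_le_left) fun a ha =>
    centralizer_le_normalizer _ (mem_centralizer_iff.2 fun b hb => (hc a (hSA ha) b hb.2).symm)
  exact le_inf ((le_sup_left (b := R ⊓ B)).trans (hmax _ hS' (hRAB.trans (sup_le_sup_right hle' _))
    (sup_le_sup hSA inf_le_right))) hSA

theorem max_iSup {r : ℕ} {E : Fin r → Subgroup P} (hc : ∀ {i j}, i ≠ j → Comm (E i) (E j))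
    (hinf : ∀ i, E i ⊓ (⨆ j ∈ {j | j ≠ i}, E j) = ⊥) (s : Finset (Fin r)) :
    ∀ R : Subgroup P, IsPGroup p R → R ≤ ⨆ i ∈ s, E i →
      (∀ S : Subgroup P, IsPGroup p S → R ≤ S → S ≤ (⨆ i ∈ s, E i) → S ≤ R) →
      R ≤ (⨆ i ∈ s, R ⊓ E i) ∧ ∀ i ∈ s, ∀ S : Subgroup P, IsPGroup p S → R ⊓ E i ≤ S → S ≤ E i → S ≤ R ⊓ E i := by
  classical
  induction s using Finset.induction_on with
  | empty =>
    intro R hR hle _
    exact ⟨hle.trans (by simp), fun i hi => absurd hi (Finset.notMem_empty i)⟩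
  | @insert a s has ih =>
    intro R hR hle hmax
    rw [Finset.iSup_insert] at hle hmax
    set B := ⨆ i ∈ s, E i with hB
    have hBle : B ≤ ⨆ j ∈ {j | j ≠ a}, E j := iSup₂_le fun i hi =>
      le_iSup₂_of_le i (fun h => has (h ▸ hi)) le_rfl
    have hcB : Comm (E a) B := fun x hx y hy =>
      (mem_centralizer_iff.1 ((iSup₂_le fun i hi z hz => mem_centralizer_iff.2 fun w hw =>
        hc (fun (h : a = i) => has (h ▸ hi)) w hw z hz : B ≤ centralizer (E a : Set P)) hy) x hx)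
    have hEB : E a ⊓ B = ⊥ := le_bot_iff.1 ((inf_le_inf_left _ hBle).trans (hinf a).le)
    obtain ⟨h1, h2⟩ := max_sup hcB hR hle hmax hEB
    obtain ⟨-, h3⟩ := max_sup hcB.symm hR (sup_comm (E a) B ▸ hle) (sup_comm (E a) B ▸ hmax) (by rw [inf_comm, hEB])
    obtain ⟨h4, h5⟩ := ih (R ⊓ B) (hR.to_le inf_le_left) inf_le_right h3
    have hsub : ∀ i ∈ s, R ⊓ B ⊓ E i = R ⊓ E i := fun i hi => by
      rw [inf_assoc, inf_eq_right.2 (le_iSup₂_of_le i hi le_rfl : E i ≤ B)]
    refine ⟨h1.trans ?_, fun i hi S => ?_⟩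
    · rw [Finset.iSup_insert]
      exact sup_le_sup_left (h4.trans (iSup₂_mono fun i hi => (hsub i hi).le)) _
    · rcases Finset.mem_insert.1 hi with rfl | hi
      · exact h2 S
      · intro a b c; rw [← hsub i hi] at b ⊢; exact h5 i hi S a b c

section

variable {T : Sylow p P} {M : Subgroup P} (g : Glob p φ q T M)
include g

theorem exists_genPos : ∃ s : Finset (Subgroup P), (∀ a ∈ s, Mem p φ q a) ∧
    mall p φ q ≤ sSup (s : Set (Subgroup P)) ∧ GenPos φ (s : Set (Subgroup P)) := by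
  classical
  obtain ⟨r, Δ, hb⟩ := g.exists_blocks
  have ff := g.ff
  have hd := ff.decomp hb
  have hsub : ∀ i, ∃ Γ : Finset (Subgroup P), (∀ a ∈ Γ, a ∈ Δ i) ∧
      sSup (Δ i) ≤ sSup (Γ : Set (Subgroup P)) ∧ GenPos φ (Γ : Set (Subgroup P)) := by
    intro i
    rcases Nat.lt_or_ge 2 q with hq | hq
    · obtain ⟨x, hx, y, hy, hxy⟩ := hb.two i
      refine ⟨{x, y}, fun a ha => ?_, ?_, fun a ha => ?_⟩
      · rcases Finset.mem_insert.1 ha with rfl | ha
        · exact hx
        · rw [Finset.mem_singleton.1 ha]; exact hy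
      · rw [← hb.big hq hx hy hxy]
        exact sup_le (le_sSup (by simp)) (le_sSup (by simp))
      · simp only [Finset.coe_insert, Finset.coe_singleton, Set.mem_insert_iff, Set.mem_singleton_iff] at ha ⊢
        rcases ha with rfl | rfl
        · rw [show ({a, y} : Set (Subgroup P)) \ {a} = {y} by
            ext z; simp only [Set.mem_sdiff, Set.mem_insert_iff, Set.mem_singleton_iff]
            constructor
            · rintro ⟨h | h, h'⟩; exacts [absurd h h', h]
            · rintro rfl; exact ⟨Or.inr rfl, Ne.symm hxy⟩, sSup_singleton]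
          exact ff.sup (hb.mem hx) (hb.mem hy) hxy
        · rw [show ({x, a} : Set (Subgroup P)) \ {a} = {x} by
            ext z; simp only [Set.mem_sdiff, Set.mem_insert_iff, Set.mem_singleton_iff]
            constructor
            · rintro ⟨h | h, h'⟩; exacts [h, absurd h h']
            · rintro rfl; exact ⟨Or.inl rfl, hxy⟩, sSup_singleton]
          exact ff.sup (hb.mem hy) (hb.mem hx) (Ne.symm hxy)
    · have hq2 : q = 2 := le_antisymm hq ff.one_lt
      obtain ⟨n, hn, hcard⟩ := hb.small hq2 i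
      have hperm : BlockPerm φ (sSup (Δ i)) n :=
        ff.perm hq2 (fun z hz => hb.mem hz) (fun a ha b hb' h => hb.nc ha hb' h) hn hcard
      have hidx := perm_index hperm
      set Γ := (Set.toFinite (Δ i)).toFinset with hΓ
      have hΓc : Γ.card = 2 ^ n := by
        rw [← hcard, Nat.card_coe_set_eq, Set.ncard_eq_toFinset_card (Δ i) (Set.toFinite _)]
      refine ⟨Γ, fun a ha => (Set.Finite.mem_toFinset _).1 ha, by rw [hΓ, Set.Finite.coe_toFinset],
        fun a ha => ?_⟩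
      set X := fixA φ (sSup ((Γ : Set (Subgroup P)) \ {a}))
      have hnle : ¬ X ≤ fixA φ a := fun hle => by
        have h1 : fixA φ (sSup (Δ i)) = X := by
          refine le_antisymm (fixA_anti (sSup_le_sSup fun z hz => (Set.Finite.mem_toFinset _).1 hz.1)) fun v hv => ?_
          refine mem_sSup_fix (s := Δ i) fun b hb' g hg => ?_
          by_cases hba : b = a
          · exact (hle hv) g (hba ▸ hg)
          · exact hv g ((le_sSup (show b ∈ (Γ : Set (Subgroup P)) \ {a} from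
              ⟨(Set.Finite.mem_toFinset _).2 hb', hba⟩) : b ≤ _) hg)
        have h2 : X.index ≤ q ^ (Γ.erase a).card := by
          have := index_fix_le (φ := φ) (t := Γ.erase a)
            (fun b hb' => ff.index (hb.mem ((Set.Finite.mem_toFinset _).1 (Finset.mem_of_mem_erase hb'))))
          rwa [Finset.coe_erase] at this
        rw [← h1, hidx, Finset.card_erase_of_mem ha, hΓc, hq2] at h2
        have h3 := (Nat.pow_le_pow_iff_right (by norm_num)).1 h2
        have : 0 < 2 ^ n := by positivity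
        omega
      have h4 : (fixA φ a ⊔ X).index ∣ 2 := by
        rw [← hq2, ← ff.index (hb.mem ((Set.Finite.mem_toFinset _).1 ha))]
        exact AddSubgroup.index_dvd_of_le le_sup_left
      rcases (Nat.dvd_prime Nat.prime_two).1 h4 with h5 | h5
      · exact AddSubgroup.index_eq_one.1 h5
      · refine absurd ((le_sup_right : X ≤ fixA φ a ⊔ X).trans (le_of_eq ?_)) hnle
        refine (eq_of_le_of_index_le le_sup_left ?_).symm
        rw [h5, ff.index (hb.mem ((Set.Finite.mem_toFinset _).1 ha)), hq2]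
  choose Γ hΓmem hΓsup hΓgp using hsub
  refine ⟨Finset.univ.biUnion Γ, fun a ha => ?_, ?_, fun a ha => ?_⟩
  · obtain ⟨i, -, hi⟩ := Finset.mem_biUnion.1 ha
    exact hb.mem (hΓmem i a hi)
  · rw [g.mall_eq hb]
    exact iSup_le fun i => (hΓsup i).trans (sSup_le_sSup fun z hz =>
      Finset.mem_coe.2 (Finset.mem_biUnion.2 ⟨i, Finset.mem_univ i, hz⟩))
  · obtain ⟨i, -, hi⟩ := Finset.mem_biUnion.1 (Finset.mem_coe.1 ha)
    refine eq_top_iff.2 fun v _ => ?_
    obtain ⟨f, hf, e, he, rfl⟩ := AddSubgroup.mem_sup.1 ((hΓgp i a hi).symm ▸ AddSubgroup.mem_top v :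
      v ∈ fixA φ a ⊔ fixA φ (sSup ((Γ i : Set (Subgroup P)) \ {a})))
    have hsplit : img φ (sSup (Δ i)) ⊔ fixA φ (sSup (Δ i)) = ⊤ := by
      refine top_le_iff.1 (hd.split.ge.trans (sup_le ((fixA_anti (le_iSup (fun k => sSup (Δ k)) i)).trans
        le_sup_right) (iSup_le fun j => ?_)))
      by_cases hij : j = i
      · exact hij ▸ le_sup_left
      · exact le_sup_of_le_right fun w hw x hx => hd.zero hij x hx w hw
    obtain ⟨w, hw, e₀, he₀, rfl⟩ := AddSubgroup.mem_sup.1 (hsplit ▸ AddSubgroup.mem_top e :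
      e ∈ img φ (sSup (Δ i)) ⊔ fixA φ (sSup (Δ i)))
    rw [show f + (w + e₀) = (f + e₀) + w by abel]
    refine AddSubgroup.add_mem_sup ((fixA φ a).add_mem hf (fixA_anti (le_sSup (hΓmem i a hi)) he₀)) ?_
    refine mem_sSup_fix fun b hb' x hx => ?_
    obtain ⟨j, -, hj⟩ := Finset.mem_biUnion.1 (Finset.mem_coe.1 hb'.1)
    by_cases hij : i = j
    · subst hij
      have h1 := he x ((le_sSup (show b ∈ (Γ i : Set (Subgroup P)) \ {a} from ⟨hj, hb'.2⟩) : b ≤ _) hx)
      rw [map_add, (he₀ : e₀ ∈ fixA φ (sSup (Δ i))) x ((le_sSup (hΓmem i b hj) : b ≤ _) hx)] at h1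
      exact add_right_cancel h1
    · exact hd.zero hij x ((le_sSup (hΓmem j b hj) : b ≤ _) hx) w hw

/-- the part of the Sylow subgroup in the product of the members -/
theorem syl_mall : (T : Subgroup P) ⊓ mall p φ q ≤ sSup g.inSyl ∨
    (q = 2 ∧ ∀ X : AddSubgroup V, (∀ x ∈ (T : Subgroup P), ∀ v ∈ X, φ x v ∈ X) →
      (∀ x ∈ (T : Subgroup P) ⊓ mall p φ q, ∀ v ∈ X, φ x v = v) ∨
      ∃ σ ∈ (T : Subgroup P) ⊓ mall p φ q, σ * σ = 1 ∧ (∃ v ∈ X, φ σ v ≠ v) ∧
        ∀ v ∈ X, ∀ v' ∈ X, φ σ v ≠ v → φ σ v' ≠ v' → φ σ (v + v') = v + v') := by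
  classical
  obtain ⟨r, Δ, hb⟩ := g.exists_blocks
  have ff := g.ff
  have hd := ff.decomp hb
  set E : Fin r → Subgroup P := fun i => sSup (Δ i) with hE
  set R := (T : Subgroup P) ⊓ mall p φ q with hR
  have hall : mall p φ q = ⨆ i ∈ (Finset.univ : Finset (Fin r)), E i := by
    rw [g.mall_eq hb]; simp [hE]
  haveI := mall_normal (p := p) (φ := φ) (q := q)
  obtain ⟨Q, hQ⟩ := card_sylow_inf T (mall p φ q)
  have hmax : ∀ S : Subgroup P, IsPGroup p S → R ≤ S → S ≤ (⨆ i ∈ (Finset.univ : Finset (Fin r)), E i) → S ≤ R := by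
    intro S hS hRS hSE
    rw [← hall] at hSE
    have h1 : (Q : Subgroup ↥(mall p φ q)) = S.subgroupOf (mall p φ q) := by
      refine (Q.3 hS.comap_subtype fun x hx => mem_subgroupOf.2 (hRS ?_)).symm
      rw [hR, ← hQ]
      exact mem_map_of_mem _ hx
    rw [hR, ← hQ, h1, subgroupOf_map_subtype, inf_eq_left.2 hSE]
  obtain ⟨hdec, hloc⟩ := max_iSup (fun {i j} h => hd.comm h) hd.inf Finset.univ R (T.2.to_le inf_le_left)
    (inf_le_right.trans hall.le) hmax
  rcases Nat.lt_or_ge 2 q with hq | hq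
  · refine Or.inl (hdec.trans (iSup₂_le fun i _ => ?_))
    obtain ⟨n, hn, h⟩ := hd.type i
    obtain ⟨-, hpn, F, iF, iFF, ρ, Ψ, hF, -⟩ := h.resolve_right fun h' => by omega
    obtain ⟨x, hx, -⟩ := hb.two i
    have hxm := hb.mem hx
    have hxE : x ≤ E i := le_sSup hx
    obtain ⟨S₁, hS₁⟩ := ((isPGroup_el hxm.el).comap_subtype : IsPGroup p ↥(x.subgroupOf (E i))).exists_le_sylow
    have hRi : IsPGroup p ↥((R ⊓ E i).subgroupOf (E i)) :=
      ((T.2.to_le (inf_le_left.trans inf_le_left)) : IsPGroup p ↥(R ⊓ E i)).comap_subtype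
    obtain ⟨S₂, hS₂⟩ := hRi.exists_le_sylow
    obtain ⟨k, hk⟩ := MulAction.exists_smul_eq (E i) S₁ S₂
    have hxeq : (S₁ : Subgroup (E i)).map (E i).subtype = x := by
      refine (eq_of_le_of_card_ge ?_ ?_).symm
      · intro y hy
        exact ⟨⟨y, hxE hy⟩, hS₁ (mem_subgroupOf.2 hy), rfl⟩
      · rw [hxm.card, ← hpn, ← Nat.card_congr ((S₁ : Subgroup (E i)).equivMapOfInjective _ (E i).subtype_injective).toEquiv]
        exact pgroup_sl_two hn hF S₁.2 (ρ.toMonoidHom.comp (S₁ : Subgroup (E i)).subtype)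
          (ρ.injective.comp Subtype.val_injective)
    have hS₂eq : (S₂ : Subgroup (E i)).map (E i).subtype = R ⊓ E i := by
      refine le_antisymm (hloc i (Finset.mem_univ i) _ (S₂.2.map _) ?_ (map_subtype_le _)) ?_ <;>
      · intro y hy; exact ⟨⟨y, hy.2⟩, hS₂ (mem_subgroupOf.2 hy), rfl⟩
    have he : FFSLTwo.cj (k : P) x = R ⊓ E i := by
      rw [← hS₂eq, ← hk, Sylow.coe_subgroup_smul, ← hxeq]
      ext y
      constructor
      · rintro ⟨_, ⟨z, hz, rfl⟩, rfl⟩
        exact ⟨_, ⟨z, hz, rfl⟩, rfl⟩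
      · rintro ⟨_, ⟨z, hz, rfl⟩, rfl⟩
        exact ⟨_, ⟨z, hz, rfl⟩, rfl⟩
    exact le_sSup ⟨he ▸ hxm.conj (k : P), inf_le_left.trans inf_le_left⟩
  · have hq2 : q = 2 := le_antisymm hq ff.one_lt
    refine Or.inr ⟨hq2, fun X hX => ?_⟩
    have hblock : ∀ i, (∀ x ∈ R ⊓ E i, ∀ v ∈ X, φ x v = v) ∨
        ∃ σ ∈ R, σ * σ = 1 ∧ (∃ v ∈ X, φ σ v ≠ v) ∧
          ∀ v ∈ X, ∀ v' ∈ X, φ σ v ≠ v → φ σ v' ≠ v' → φ σ (v + v') = v + v' := by
      intro i
      obtain ⟨n, hn, h⟩ := hd.type i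
      obtain ⟨-, hp2, ρ, Ψ, hev, hs, h0, hΨ⟩ := h.resolve_left fun h' => by omega
      subst hp2
      set S := ((R ⊓ E i).subgroupOf (E i)).map ρ.toMonoidHom with hS
      have hSp : IsPGroup 2 S := by
        exact (((T.2.to_le (inf_le_left.trans inf_le_left)) : IsPGroup 2 ↥(R ⊓ E i)).comap_subtype).map _
      have hSmax : ∀ R' : Subgroup (Equiv.Perm (Fin (2 ^ n + 1))), IsPGroup 2 R' → S ≤ R' → R' ≤ S := by
        intro R' hR' hle σ hσ
        have hp' : IsPGroup 2 ↥((R'.comap ρ.toMonoidHom).map (E i).subtype) := by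
          exact (hR'.comap_of_injective _ ρ.injective).map _
        have h1 := hloc i (Finset.mem_univ i) _ hp'
          (fun y hy => ⟨⟨y, hy.2⟩, mem_comap.2 (hle (mem_map_of_mem _ (mem_subgroupOf.2 hy))), rfl⟩)
          (map_subtype_le _) (mem_map_of_mem (E i).subtype
            (show ρ.symm σ ∈ R'.comap ρ.toMonoidHom by simpa [mem_comap] using hσ))
        exact ⟨ρ.symm σ, mem_subgroupOf.2 h1, ρ.apply_symm_apply σ⟩
      have hfix : ∀ (x : E i) v, φ (x : P) v = v ↔ Ψ v ∘ ((ρ x)⁻¹ : Equiv.Perm _) = Ψ v := by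
        intro x v
        have hc : Ψ (φ (x : P) v) = Ψ v ∘ ((ρ x)⁻¹ : Equiv.Perm _) := funext fun k => hΨ x v k
        rw [← hc]
        refine ⟨fun h => by rw [h], fun h => ?_⟩
        -- the moved part lies in the image
        have h1 : dd φ (x : P) v ∈ fixA φ (E i) := (h0 _).1 (by rw [dd_apply, map_sub, h, sub_self])
        have h2 : dd φ (x : P) v ∈ img φ (E i) := dd_mem_img x.2 v
        have h3 : dd φ (x : P) v ∈ fixA φ (mall 2 φ q) := by
          rw [g.mall_eq hb, iSup, mem_fixA_sSup]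
          rintro _ ⟨j, rfl⟩
          by_cases hij : i = j
          · exact hij ▸ h1
          · exact fun y hy => hd.zero hij y hy _ h2
        exact dd_eq_zero.1 (g.fix_mall h3)
      set Y := X.map Ψ with hY
      have hYinv : ∀ σ ∈ S, ∀ f ∈ Y, f ∘ σ ∈ Y := by
        rintro _ ⟨x, hx, rfl⟩ _ ⟨v, hv, rfl⟩
        refine ⟨φ ((x⁻¹ : E i) : P) v, hX _ ?_ v hv, funext fun k => ?_⟩
        · push_cast
          exact inv_mem (mem_subgroupOf.1 hx).1.1
        · rw [hΨ, map_inv, inv_inv]; rfl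
      rcases exists_oneMove hn S hSp hSmax Y hYinv with hall | ⟨σ, ⟨x, hx, rfl⟩, hσ2, ⟨_, ⟨v, hv, rfl⟩, hmove⟩, hpair⟩
      · refine Or.inl fun x hx v hv => (hfix ⟨x, hx.2⟩ v).2 ?_
        exact hall _ (inv_mem (mem_map_of_mem _ (mem_subgroupOf.2 hx))) _ ⟨v, hv, rfl⟩
      · have hinv : (ρ x)⁻¹ = ρ x := inv_eq_of_mul_eq_one_right hσ2
        refine Or.inr ⟨x, (mem_subgroupOf.1 hx).1, ?_, ⟨v, hv, fun h => hmove ?_⟩, fun v hv v' hv' h h' => ?_⟩
        · rw [← Subgroup.coe_mul, ρ.injective (show ρ (x * x) = ρ 1 by rw [map_mul, map_one]; exact hσ2), coe_one]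
        · have := (hfix x v).1 h
          rwa [hinv] at this
        · rw [hfix, hinv, map_add]
          exact hpair _ ⟨v, hv, rfl⟩ _ ⟨v', hv', rfl⟩ (fun h0 => h ((hfix x v).2 (by rw [hinv]; exact h0)))
            (fun h0 => h' ((hfix x v').2 (by rw [hinv]; exact h0)))
    by_cases hall : ∀ i, ∀ x ∈ R ⊓ E i, ∀ v ∈ X, φ x v = v
    · refine Or.inl fun x hx v hv => ?_
      let S : Subgroup P :=
        { carrier := {y | φ y v = v}
          one_mem' := phi_one v
          mul_mem' := fun {a b} ha hb => by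
            show φ (a * b) v = v
            rw [phi_mul, show φ b v = v from hb, show φ a v = v from ha]
          inv_mem' := fun {a} ha => by
            show φ a⁻¹ v = v
            conv_lhs => rw [← (show φ a v = v from ha)]
            exact phi_inv_cancel a v }
      exact (iSup₂_le fun i _ y hy => hall i y hy v hv : (⨆ i ∈ (Finset.univ : Finset (Fin r)), R ⊓ E i) ≤ S)
        (hdec hx)
    · push Not at hall
      obtain ⟨i, x, hx, v, hv, hne⟩ := hall
      exact Or.inr ((hblock i).resolve_left fun h => hne (h x hx v hv))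

end

end Cfsg.Lib.Qrc
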