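import Cfsg.Agent.QTKE.Qrc.Core
import Cfsg.Agent.QTKE.Qrc.Gen

/-!
The members of the moved chief section lift to subgroups centralising the complement.
-/

set_option autoImplicit false
set_option linter.unusedSectionVars false
set_option linter.style.haveILetI false

namespace Cfsg.Lib.Qrc

open Subgroup
open Cfsg.Lib.FFSLTwo (cj mem_cj fixA dd dd_apply dd_eq_zero phi_mul phi_one phi_inv_cancel phi_cancel_inv)
open Cfsg.Lib.FFModule (conj_mem_cj cj_mul cj_one cj_inv_cj cj_cj_inv card_cj Ctx Glob Mem)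
open scoped commutatorElement

universe u

variable {G : Type u} [Group G] [Finite G]

theorem relIndex_le_of_sup {N X W : Subgroup G} (hNW : N ≤ W) (hW : W ≤ N ⊔ X)
    (hn : N ≤ normalizer (X : Set G)) : X.relIndex W ≤ X.relIndex N := by
  refine Nat.card_le_card_of_surjective
    (Quotient.map' (Subgroup.inclusion hNW) fun a b h => ?_) fun q => ?_
  · rw [QuotientGroup.leftRel_apply] at h ⊢
    exact h
  · induction q using QuotientGroup.induction_on with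
    | H w =>
      have h := hW w.2
      rw [← SetLike.mem_coe, coe_mul_of_left_le_normalizer_right N X hn] at h
      obtain ⟨n, hn', x, hx, he⟩ := h
      refine ⟨QuotientGroup.mk ⟨n, hn'⟩, ?_⟩
      show (QuotientGroup.mk (Subgroup.inclusion hNW ⟨n, hn'⟩) : ↥W ⧸ X.subgroupOf W) = QuotientGroup.mk w
      rw [QuotientGroup.eq, mem_subgroupOf]
      show n⁻¹ * (w : G) ∈ X
      rw [← he, inv_mul_cancel_left]
      exact hx

/-- a member together with a subgroup over it -/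
structure LiftOf {E : Type*} [AddCommGroup E] (H V : Subgroup G) (φ : ↥H →* AddMonoid.End E) (π : G → E)
    (A : Subgroup (↥H ⧸ φ.ker)) (Ã : Subgroup G) : Prop where
  le : Ã ≤ H
  el : Cfsg.IsElementaryAbelian 2 Ã
  img : (Ã.subgroupOf H).map (QuotientGroup.mk' φ.ker) = A
  wc : wcOf H V ≤ centralizer (Ã : Set G)
  sup : wj H V ≤ nOf H V ⊔ (wj H V ⊓ centralizer (Ã : Set G))
  fix : ∀ n ∈ nOf H V, π n ∈ fixA (modLift φ) A → n ∈ centralizer (Ã : Set G)
  quad : ⁅⁅wj H V, Ã⁆, Ã⁆ = ⊥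

section

variable {T : Sylow 2 G} {M₀ H K V D B : Subgroup G} (c : CaseII T M₀ H K V) (x : Exact T H V D B)
variable {E : Type*} [AddCommGroup E] [Finite E] {φ : ↥H →* AddMonoid.End E} {π : G → E}
  (s : SecData H (nOf H V) (nOf H V ⊓ wcOf H V) φ π)
include c x s

theorem Exact.ker_cent {h : ↥H} (hh : h ∈ φ.ker) :
    (h : G) ∈ centralizer (nOf H V : Set G) ∧ ∀ w ∈ wj H V, ⁅w, (h : G)⁆ ∈ wcOf H V :=
  x.hker h h.2 fun n hn => ((s.ker_mem h.2).1 hh n hn).2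

theorem Exact.cent_ker {h : G} (hh : h ∈ H) (hc : h ∈ centralizer (nOf H V : Set G)) : (⟨h, hh⟩ : ↥H) ∈ φ.ker :=
  (s.ker_mem hh).2 fun n hn => by
    rw [commutatorElement_eq_one_iff_mul_comm.2 (mem_centralizer_iff.1 hc n hn)]
    exact one_mem _

theorem Exact.fix_mk (h : ↥H) {n : G} (hn : n ∈ nOf H V) :
    modLift φ (h : ↥H ⧸ φ.ker) (π n) = π n ↔ ⁅n, (h : G)⁆ ∈ wcOf H V := by
  rw [modLift_mk, s.fix_iff h hn, mem_inf]
  exact ⟨fun h => h.2, fun h' => ⟨commutator_le_left_of_normalize c.H_n (commutator_mem_commutator hn h.2), h'⟩⟩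

theorem LiftOf.conj {A : Subgroup (↥H ⧸ φ.ker)} {Ã : Subgroup G} (l : LiftOf H V φ π A Ã) (h : ↥H) :
    LiftOf H V φ π (cj (h : ↥H ⧸ φ.ker) A) (cj (h : G) Ã) := by
  have hW := cj_of_mem_normalizer (c.hWn h.2)
  have hN := cj_of_mem_normalizer (c.H_n h.2)
  have hWc := cj_of_mem_normalizer (c.H_wc h.2)
  refine ⟨cj_le_of_le l.le (le_normalizer h.2), Cfsg.Lib.FFModule.el_cj _ l.el, ?_, ?_, ?_, fun n hn hfix => ?_, ?_⟩
  · rw [← l.img]
    ext p
    constructor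
    · rintro ⟨a, ha, rfl⟩
      obtain ⟨b, hb, hab⟩ := mem_subgroupOf.1 ha
      refine ⟨QuotientGroup.mk' φ.ker ⟨b, l.le hb⟩, ⟨⟨b, l.le hb⟩, hb, rfl⟩, ?_⟩
      show (h : ↥H ⧸ φ.ker) * _ * (h : ↥H ⧸ φ.ker)⁻¹ = _
      rw [show (h : ↥H ⧸ φ.ker) = QuotientGroup.mk' φ.ker h from rfl, ← map_inv, ← map_mul, ← map_mul]
      exact congrArg _ (Subtype.ext hab)
    · rintro ⟨_, ⟨b, hb, rfl⟩, rfl⟩
      refine ⟨h * b * h⁻¹, mem_subgroupOf.2 (conj_mem_cj hb), ?_⟩
      rw [map_mul, map_mul, map_inv]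
      rfl
  · rw [← hWc, ← cj_centralizer]; exact map_mono l.wc
  · conv_lhs => rw [← hW]
    refine (map_mono l.sup).trans (le_of_eq ?_)
    show cj (h : G) (nOf H V ⊔ (wj H V ⊓ centralizer (Ã : Set G))) = _
    rw [Cfsg.Lib.FFModule.cj_sup, cj_inf, cj_centralizer, hN, hW]
  · rw [← cj_centralizer, mem_cj]
    have hn' : (h : G)⁻¹ * n * (h : G) ∈ nOf H V := mem_cj.1 (hN.symm ▸ hn)
    refine l.fix _ hn' ?_
    have h1 := Cfsg.Lib.FFSLTwo.mem_fixA_cj.1 hfix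
    rw [← QuotientGroup.mk_inv, modLift_mk, s.act h⁻¹ n hn] at h1
    simpa using h1
  · rw [← hW, ← cj_commutator, ← cj_commutator, l.quad, Cfsg.Lib.FFModule.cj_bot]

theorem Exact.exists_glob : ∃ (q : ℕ) (M : Subgroup (↥H ⧸ φ.ker))
    (g : Glob 2 (modLift φ) q
      ((T.subtype c.hTH).mapSurjective (f := QuotientGroup.mk' φ.ker) (QuotientGroup.mk'_surjective _)) M),
    ∃ A : Subgroup (↥H ⧸ φ.ker), ∃ Ã : Subgroup G, Mem 2 (modLift φ) q A ∧ LiftOf H V φ π A Ã := by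
  classical
  haveI : Fact (Nat.Prime 2) := ⟨Nat.prime_two⟩
  have hc := s.ctx c.toSetup inf_le_left x.hchief x.hmov
  set mk := QuotientGroup.mk' φ.ker with hmk
  set ψ := modLift φ with hψ
  have hDH : D ≤ H := x.hDT.trans c.hTH
  set Dh := (D.subgroupOf H).map mk with hDh
  have hDel : Cfsg.IsElementaryAbelian 2 Dh := by
    refine ⟨⟨⟨?_⟩⟩, ?_⟩
    · rintro ⟨_, a, ha, rfl⟩ ⟨_, b, hb, rfl⟩
      refine Subtype.ext ?_
      show mk a * mk b = mk b * mk a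
      rw [← map_mul, ← map_mul, show a * b = b * a from Subtype.ext (Cfsg.Lib.ElemToolkit.comm_of x.hD.1 ha hb)]
    · rintro _ ⟨a, ha, rfl⟩
      rw [← map_pow, show a ^ 2 = 1 from Subtype.ext (x.hD.2 _ ha), map_one]
  have hcard : Nat.card Dh = (Cfsg.pCoreOf 2 H).relIndex D := by
    let f : D →* ↥H ⧸ φ.ker := mk.comp (Subgroup.inclusion hDH)
    have hr : f.range = Dh := by
      ext y
      constructor
      · rintro ⟨a, rfl⟩; exact ⟨Subgroup.inclusion hDH a, a.2, rfl⟩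
      · rintro ⟨a, ha, rfl⟩; exact ⟨⟨a, ha⟩, rfl⟩
    rw [← hr, ← index_ker, relIndex]
    congr 1
    ext a
    rw [MonoidHom.mem_ker, mem_subgroupOf]
    show ((Subgroup.inclusion hDH a : ↥H) : ↥H ⧸ φ.ker) = 1 ↔ _
    rw [QuotientGroup.eq_one_iff]
    constructor
    · intro ha
      exact x.hkT (zpowers (a : G)) ((isPGroup_elem x.hD).to_le (zpowers_le.2 a.2))
        ((zpowers_le.2 a.2).trans hDH) (zpowers_le.2 (x.ker_cent c s ha).1) (mem_zpowers _)
    · exact fun ha => x.cent_ker c s (hDH a.2) (x.hQN ha)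
  have hfixD : s.pre (fixA ψ Dh) = nOf H V ⊓ B := by
    ext n
    rw [SecData.mem_pre, mem_inf]
    constructor
    · rintro ⟨hn, hfix⟩
      exact ⟨hn, x.hfix n hn fun a ha => (x.fix_mk c s ⟨a, hDH ha⟩ hn).1 (hfix _ ⟨⟨a, hDH ha⟩, ha, rfl⟩)⟩
    · rintro ⟨hn, hnB⟩
      refine ⟨hn, ?_⟩
      rintro _ ⟨a, ha, rfl⟩
      refine (x.fix_mk c s a hn).2 ?_
      rw [commutatorElement_eq_one_iff_mul_comm.2 (mem_centralizer_iff.1 (x.hBD hnB) a ha).symm]
      exact one_mem _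
  have hidx : (fixA ψ Dh).index = Nat.card Dh := by
    rw [← s.relIndex_pre, hfixD, inf_relIndex_left, hcard, x.hidx]
  have hne : Dh ≠ ⊥ := fun h => x.hDone (relIndex_eq_one.1 (by rw [← hcard, h, Subgroup.card_bot]))
  set T' := (T.subtype c.hTH).mapSurjective (f := mk) (QuotientGroup.mk'_surjective _) with hT'
  have hDT : Dh ≤ (T' : Subgroup (↥H ⧸ φ.ker)) := by
    show Dh ≤ ((T.subtype c.hTH : Sylow 2 ↥H) : Subgroup ↥H).map mk
    refine map_mono fun a ha => ?_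
    rw [Sylow.coe_subtype]
    exact mem_subgroupOf.2 (x.hDT (mem_subgroupOf.1 ha))
  obtain ⟨q, M, g⟩ := Cfsg.Lib.Qrc.exists_glob hc T' hne hDel hidx.le
  obtain ⟨Y, hYD, hY⟩ := g.exists_mem_le hne hDel hidx.le
  refine ⟨q, M, g, Y, D ⊓ (Y.comap mk).map H.subtype, hY, ?_⟩
  set Yt := D ⊓ (Y.comap mk).map H.subtype with hYt
  have hYtD : Yt ≤ D := inf_le_left
  have hBY : B ≤ centralizer (Yt : Set G) := x.hBD.trans (centralizer_le hYtD)
  have himg : (Yt.subgroupOf H).map mk = Y := by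
    refine le_antisymm ?_ fun y hy => ?_
    · rintro _ ⟨a, ha, rfl⟩
      obtain ⟨b, hb, hba⟩ := (mem_subgroupOf.1 ha).2
      rw [← show b = a from Subtype.ext hba]
      exact hb
    · obtain ⟨a, ha, rfl⟩ := hYD hy
      exact ⟨a, mem_subgroupOf.2 (mem_inf.2 ⟨ha, a, hy, rfl⟩), rfl⟩
  -- the centraliser of the lift covers the fixed space
  let S : AddSubgroup E :=
    { carrier := {v | ∃ n ∈ nOf H V, π n = v ∧ n ∈ centralizer (Yt : Set G)}
      zero_mem' := ⟨1, one_mem _, s.map_one, one_mem _⟩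
      add_mem' := by
        rintro _ _ ⟨n, hn, rfl, hnc⟩ ⟨m, hm, rfl, hmc⟩
        exact ⟨n * m, mul_mem hn hm, s.map_mul n hn m hm, mul_mem hnc hmc⟩
      neg_mem' := by
        rintro _ ⟨n, hn, rfl, hnc⟩
        refine ⟨n, hn, ?_, hnc⟩
        rw [eq_neg_iff_add_eq_zero, ← two_nsmul]
        exact s.char _ }
  have hYTs : Y ∈ g.inSyl := ⟨hY, hYD.trans hDT⟩
  have hS : S ≤ fixA ψ Y := by
    rintro _ ⟨n, hn, rfl, hnc⟩ y hy
    rw [← himg] at hy
    obtain ⟨a, ha, rfl⟩ := hy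
    refine (x.fix_mk c s a hn).2 ?_
    rw [commutatorElement_eq_one_iff_mul_comm.2 (mem_centralizer_iff.1 hnc a (mem_subgroupOf.1 ha)).symm]
    exact one_mem _
  have hinv : ∀ k, (∀ y ∈ Y, k * y = y * k) → ∀ v ∈ S, ψ k v ∈ S := by
    intro k hk v hv
    obtain ⟨n, hn, rfl, hnc⟩ := hv
    induction k using QuotientGroup.induction_on with
    | H h =>
      refine ⟨(h : G) * n * (h : G)⁻¹, s.conj_L h.2 hn, (s.act h n hn).symm, mem_centralizer_iff.2 fun a ha => ?_⟩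
      have haH : a ∈ H := hDH (hYtD ha)
      have haY : mk ⟨a, haH⟩ ∈ Y := himg ▸ mem_map_of_mem _ (mem_subgroupOf.2 ha)
      have hker : (⟨a, haH⟩⁻¹ * (h⁻¹ * ⟨a, haH⟩ * h) : ↥H) ∈ φ.ker := by
        rw [← QuotientGroup.eq_one_iff, QuotientGroup.mk_mul, QuotientGroup.mk_mul, QuotientGroup.mk_mul,
          QuotientGroup.mk_inv, QuotientGroup.mk_inv, mul_assoc ((h : ↥H ⧸ φ.ker))⁻¹,
          show ((⟨a, haH⟩ : ↥H) : ↥H ⧸ φ.ker) * (h : ↥H ⧸ φ.ker) =
            (h : ↥H ⧸ φ.ker) * ((⟨a, haH⟩ : ↥H) : ↥H ⧸ φ.ker) from (hk _ haY).symm,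
          inv_mul_cancel_left, inv_mul_cancel]
      have h1 := mem_centralizer_iff.1 (x.ker_cent c s hker).1 n hn
      push_cast at h1
      have h2 : n * a = a * n := (mem_centralizer_iff.1 hnc a ha).symm
      have h3 : (h : G)⁻¹ * a * h * n = n * ((h : G)⁻¹ * a * h) := by
        calc (h : G)⁻¹ * a * h * n = a * ((a⁻¹ * ((h : G)⁻¹ * a * h)) * n) := by group
          _ = a * (n * (a⁻¹ * ((h : G)⁻¹ * a * h))) := by rw [h1]
          _ = (a * n) * (a⁻¹ * ((h : G)⁻¹ * a * h)) := by group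
          _ = (n * a) * (a⁻¹ * ((h : G)⁻¹ * a * h)) := by rw [h2]
          _ = _ := by group
      calc a * ((h : G) * n * (h : G)⁻¹) = (h : G) * ((h : G)⁻¹ * a * h * n) * (h : G)⁻¹ := by group
        _ = (h : G) * n * (h : G)⁻¹ * a := by rw [h3]; group
  have himgS : ∀ A ∈ g.inSyl, ∀ a ∈ A, ∀ v, dd ψ a v ∈ S := by
    intro A hA a ha v
    obtain ⟨n, hn, hne'⟩ := s.surj (dd ψ a v)
    refine ⟨n, hn, hne', hBY (hfixD.le ⟨hn, ?_⟩).2⟩
    rw [hne']
    refine Cfsg.Lib.FFModule.fixA_anti (g.offender hDel hidx.le).1 ?_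
    rw [Cfsg.Lib.FFModule.mem_fixA_sSup]
    intro m hm
    exact (g.ff.comm_mem hA.1 hm.1 (g.inSyl_comm hA ⟨hm.1, hm.2.trans hDT⟩) ha v).2
  have hfull := g.fix_le_of_invariant hYTs hS hinv himgS
  refine ⟨hYtD.trans hDH, Cfsg.Lib.ElemToolkit.elementary_mono hYtD x.hD, himg, x.hwcB.trans hBY,
    x.hWB.trans (sup_le_sup_left (le_inf x.hBW hBY) _), fun n hn hf => ?_,
    le_bot_iff.1 ((commutator_mono (commutator_mono le_rfl hYtD) hYtD).trans x.hquad.le)⟩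
  obtain ⟨m, hm, hme, hmc⟩ := hfull hf
  have hz : n * m ∈ nOf H V ⊓ wcOf H V := (s.eq_zero _ (mul_mem hn hm)).1 (by
    rw [s.map_mul n hn m hm, hme, ← two_nsmul]; exact s.char _)
  have h1 : n * m ∈ centralizer (Yt : Set G) := hBY (x.hwcB hz.2)
  simpa using mul_mem h1 (inv_mem hmc)

theorem Exact.exists_lift {q : ℕ} {M : Subgroup (↥H ⧸ φ.ker)} {T' : Sylow 2 (↥H ⧸ φ.ker)}
    [Fact (Nat.Prime 2)] (g : Glob 2 (modLift φ) q T' M) {Y : Subgroup (↥H ⧸ φ.ker)} {Yt : Subgroup G}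
    (hY : Mem 2 (modLift φ) q Y) (l : LiftOf H V φ π Y Yt) {A : Subgroup (↥H ⧸ φ.ker)}
    (hA : Mem 2 (modLift φ) q A) : ∃ Ã, LiftOf H V φ π A Ã := by
  obtain ⟨k, rfl⟩ := g.mem_conj hY hA
  induction k using QuotientGroup.induction_on with
  | H h => exact ⟨_, LiftOf.conj c x s l h⟩

theorem Exact.lift_T {A : Subgroup (↥H ⧸ φ.ker)} {Ã : Subgroup G} (l : LiftOf H V φ π A Ã)
    (hA : A ≤ (T.subtype c.hTH : Subgroup ↥H).map (QuotientGroup.mk' φ.ker)) :
    ∃ A', LiftOf H V φ π A A' ∧ A' ≤ (T : Subgroup G) := by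
  haveI : Fact (Nat.Prime 2) := ⟨Nat.prime_two⟩
  set mk := QuotientGroup.mk' φ.ker with hmk
  set C := φ.ker.map H.subtype with hC
  set X := C ⊔ (T : Subgroup G) with hX
  have hCH : C ≤ H := map_subtype_le _
  have hXH : X ≤ H := sup_le hCH c.hTH
  have hle : Ã ≤ X := fun a ha => by
    obtain ⟨t, ht, hte⟩ := hA (l.img ▸ mem_map_of_mem mk (mem_subgroupOf.2 ha : (⟨a, l.le ha⟩ : ↥H) ∈ Ã.subgroupOf H))
    have h1 : (⟨a, l.le ha⟩ : ↥H) * t⁻¹ ∈ φ.ker := by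
      rw [← QuotientGroup.eq_one_iff]
      show mk (_ * t⁻¹) = 1
      rw [map_mul, map_inv, hte, mul_inv_cancel]
    have ht' : (t : G) ∈ (T : Subgroup G) := by simpa [Sylow.coe_subtype, mem_subgroupOf] using ht
    rw [show a = (a * (t : G)⁻¹) * t by group]
    exact mul_mem (mem_sup_left ⟨_, h1, rfl⟩) (mem_sup_right ht')
  obtain ⟨P, hP⟩ := ((isPGroup_elem l.el).comap_subtype : IsPGroup 2 ↥(Ã.subgroupOf X)).exists_le_sylow
  obtain ⟨u, hu⟩ := MulAction.exists_smul_eq X (T.subtype (le_sup_right : (T : Subgroup G) ≤ X)) P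
  have hCn : (T : Subgroup G) ≤ normalizer (C : Set G) := c.hTH.trans (le_normalizer_map_of_normal φ.ker)
  have hu' : (u : G) ∈ C ⊔ (T : Subgroup G) := u.2
  rw [sup_comm, ← SetLike.mem_coe, coe_mul_of_left_le_normalizer_right (T : Subgroup G) C hCn] at hu'
  obtain ⟨t, ht, z, hz, htz⟩ := hu'
  -- replace the conjugating element by one in the kernel
  have hc' : t * z * t⁻¹ ∈ C := (mem_normalizer_iff.1 (hCn ht) z).1 hz
  obtain ⟨k, hk, hkc⟩ := hc'
  have hconj : cj ((k⁻¹ : ↥H) : G) Ã ≤ (T : Subgroup G) := by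
    rintro _ ⟨a, ha, rfl⟩
    show ((k⁻¹ : ↥H) : G) * a * ((k⁻¹ : ↥H) : G)⁻¹ ∈ (T : Subgroup G)
    have h1 := hP (mem_subgroupOf.2 ha : (⟨a, hle ha⟩ : X) ∈ Ã.subgroupOf X)
    rw [← hu, Sylow.coe_subgroup_smul, Subgroup.mem_pointwise_smul_iff_inv_smul_mem] at h1
    have h2 : (u : G)⁻¹ * a * (u : G) ∈ (T : Subgroup G) := by
      simpa [MulAut.smul_def, Sylow.coe_subtype, mem_subgroupOf, mul_assoc] using h1
    have h3 : (k : G) = t * z * t⁻¹ := hkc
    push_cast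
    rw [h3, show (t * z * t⁻¹)⁻¹ * a * (t * z * t⁻¹)⁻¹⁻¹ = t * ((t * z)⁻¹ * a * (t * z)) * t⁻¹ by group,
      show t * z = (u : G) from htz]
    exact mul_mem (mul_mem ht h2) (inv_mem ht)
  refine ⟨_, ?_, hconj⟩
  have h := LiftOf.conj c x s l k⁻¹
  rwa [show ((k⁻¹ : ↥H) : ↥H ⧸ φ.ker) = 1 from (QuotientGroup.eq_one_iff _).2 (inv_mem hk), cj_one] at h

theorem Exact.lift_centV {q : ℕ} {M : Subgroup (↥H ⧸ φ.ker)} {T' : Sylow 2 (↥H ⧸ φ.ker)}
    [Fact (Nat.Prime 2)] (g : Glob 2 (modLift φ) q T' M) {A : Subgroup (↥H ⧸ φ.ker)} {Ã : Subgroup G}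
    (hA : Mem 2 (modLift φ) q A) (l : LiftOf H V φ π A Ã) (hT : Ã ≤ (T : Subgroup G)) :
    Ã ≤ centralizer (V : Set G) := by
  by_contra hne
  set mk := QuotientGroup.mk' φ.ker
  set W := wj H V
  set N := nOf H V
  have hdec : ∀ w ∈ W, ∃ n ∈ N, ∃ y ∈ W ⊓ centralizer (Ã : Set G), n * y = w := fun w hw => by
    have h := l.sup hw
    rw [← SetLike.mem_coe, coe_mul_of_left_le_normalizer_right N (W ⊓ centralizer (Ã : Set G))
      (fun n hn => centralizer_le_normalizer _ (centralizer_le inf_le_left ((el_le_centralizer c.W_el) (c.n_le hn))))] at h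
    exact h
  have hfull : ∀ a (ha : a ∈ Ã), a ∈ centralizer (V : Set G) → (⟨a, l.le ha⟩ : ↥H) ∈ φ.ker := by
    intro a ha hac
    by_contra hker
    refine hne (le_centralizer_iff.1 fun v hv => ?_)
    obtain ⟨n, hn, y, hy, rfl⟩ := hdec v (le_wj H V hv)
    refine mul_mem (l.fix n hn ?_) hy.2
    have hmem : mk ⟨a, l.le ha⟩ ∈ A :=
      l.img.le (mem_map_of_mem _ (mem_subgroupOf.2 ha))
    refine g.ff.cap hA hmem
      (fun h => hker ((QuotientGroup.eq_one_iff _).1 h)) ?_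
    refine (x.fix_mk c s ⟨a, l.le ha⟩ hn).2 ?_
    have h1 : (n * y) * a = a * (n * y) := mem_centralizer_iff.1 hac _ hv
    have h2 : a * y = y * a := mem_centralizer_iff.1 hy.2 a ha
    rw [commutatorElement_eq_one_iff_mul_comm.2 ?_]
    · exact one_mem _
    · show n * a = a * n
      calc n * a = (n * y) * a * y⁻¹ := by rw [mul_assoc n y a, ← h2]; group
        _ = a * n := by rw [h1]; group
  have hcard : (centralizer (V : Set G)).relIndex Ã = q := by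
    let f : Ã →* ↥H ⧸ φ.ker := mk.comp (Subgroup.inclusion l.le)
    have hr : f.range = A := by
      rw [← l.img]
      ext y
      constructor
      · rintro ⟨a, rfl⟩; exact ⟨Subgroup.inclusion l.le a, a.2, rfl⟩
      · rintro ⟨a, ha, rfl⟩; exact ⟨⟨a, ha⟩, rfl⟩
    rw [← hA.card, ← hr, ← index_ker, relIndex]
    congr 1
    ext a
    rw [MonoidHom.mem_ker, mem_subgroupOf]
    show _ ↔ ((Subgroup.inclusion l.le a : ↥H) : ↥H ⧸ φ.ker) = 1
    rw [QuotientGroup.eq_one_iff]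
    refine ⟨fun ha => hfull a a.2 ha, fun ha => ?_⟩
    have h1 : zpowers (a : G) ≤ centralizer (N : Set G) := zpowers_le.2 (x.ker_cent c s ha).1
    refine mem_centralizer_iff.2 fun v hv => ?_
    obtain ⟨n, hn, y, hy, rfl⟩ := hdec v (le_wj H V hv)
    have e1 : n * (a : G) = a * n := mem_centralizer_iff.1 (h1 (mem_zpowers _)) n hn
    have e2 : (a : G) * y = y * a := mem_centralizer_iff.1 hy.2 a a.2
    rw [mul_assoc, ← e2, ← mul_assoc, e1, mul_assoc]
  refine c.toSetup.no_quad (hT.trans c.hTM) l.el hne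
    (le_bot_iff.1 ((commutator_mono (commutator_mono (le_wj H V) le_rfl) le_rfl).trans l.quad.le)) ?_
  rw [hcard]
  have hidx : (centralizer (Ã : Set G)).relIndex N ≤ q := by
    rw [← g.ff.index hA, ← s.relIndex_pre, ← inf_relIndex_left N (centralizer (Ã : Set G))]
    refine relIndex_le_of_le_left (fun n hn => mem_inf.2 ⟨hn.1, l.fix n hn.1 hn.2⟩) FiniteIndex.index_ne_zero
  calc (centralizer (Ã : Set G)).relIndex V ≤ (centralizer (Ã : Set G)).relIndex W := relIndex_le_right _ (le_wj H V)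
    _ = (W ⊓ centralizer (Ã : Set G)).relIndex W := (inf_relIndex_left _ _).symm
    _ ≤ (W ⊓ centralizer (Ã : Set G)).relIndex N := relIndex_le_of_sup c.n_le l.sup
        (fun n hn => centralizer_le_normalizer _ (centralizer_le inf_le_left ((el_le_centralizer c.W_el) (c.n_le hn))))
    _ = (centralizer (Ã : Set G)).relIndex N := by
        rw [← inf_relIndex_right (W ⊓ centralizer (Ã : Set G)) N, inf_comm W, inf_assoc,
          inf_eq_right.2 c.n_le, inf_relIndex_right]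
    _ ≤ q := hidx
    _ ≤ q ^ 2 := Nat.le_self_pow two_ne_zero q

end

end Cfsg.Lib.Qrc
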