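import Cfsg.Agent.QTKE.Qrc.Sect

/-!
The critical pair: counting.
-/

set_option autoImplicit false
set_option linter.unusedSectionVars false
set_option linter.style.haveILetI false

namespace Cfsg.Lib.Qrc

open Subgroup
open Cfsg.Lib.FFSLTwo (cj mem_cj)
open Cfsg.Lib.FFModule (conj_mem_cj cj_mul cj_one cj_inv_cj cj_cj_inv card_cj)
open scoped commutatorElement

universe u

variable {G : Type u} [Group G] [Finite G]

theorem relIndex_le_two {X W : Subgroup G} (h : ∀ x ∈ W, ∀ y ∈ W, x ∉ X → y ∉ X → x * y ∈ X) :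
    X.relIndex W ≤ 2 := by
  classical
  let f : ↥W ⧸ X.subgroupOf W → Bool := fun q => decide (q = QuotientGroup.mk (1 : ↥W))
  have hf : Function.Injective f := by
    intro p q hpq
    induction p using QuotientGroup.induction_on with
    | H a =>
      induction q using QuotientGroup.induction_on with
      | H b =>
        simp only [f, decide_eq_decide, QuotientGroup.eq, mul_one, inv_mem_iff, mem_subgroupOf] at hpq ⊢
        push_cast
        by_cases ha : (a : G) ∈ X
        · exact mul_mem (inv_mem ha) (hpq.1 ha)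
        · exact h _ (inv_mem a.2) _ b.2 (fun h' => ha (inv_mem_iff.1 h')) (fun h' => ha (hpq.2 h'))
  have h2 := Nat.card_le_card_of_injective f hf
  rw [relIndex, index]
  simpa using h2

theorem commutator_le_of_odd {H L L₀ : Subgroup G} (hn : H ≤ normalizer (L₀ : Set G))
    (h : ∀ x ∈ L, ∀ y ∈ H, Odd (orderOf y) → ⁅x, y⁆ ∈ L₀) : ⁅L, Cfsg.oddGenerated H⁆ ≤ L₀ := by
  refine commutator_le.2 fun x hx y hy => ?_
  refine (?_ : y ∈ H ∧ ⁅x, y⁆ ∈ L₀).2
  rw [Cfsg.oddGenerated] at hy
  induction hy using closure_induction with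
  | mem y hy => exact ⟨hy.1, h x hx y hy.1 hy.2⟩
  | one => exact ⟨one_mem _, by rw [commutatorElement_one_right]; exact one_mem _⟩
  | mul a b _ _ ha hb =>
    refine ⟨mul_mem ha.1 hb.1, ?_⟩
    rw [show ⁅x, a * b⁆ = ⁅x, a⁆ * (a * ⁅x, b⁆ * a⁻¹) by simp only [commutatorElement_def]; group]
    exact mul_mem ha.2 ((mem_normalizer_iff.1 (hn ha.1) _).1 hb.2)
  | inv a _ ha =>
    refine ⟨inv_mem ha.1, ?_⟩
    rw [show ⁅x, a⁻¹⁆ = a⁻¹ * ⁅x, a⁆⁻¹ * a⁻¹⁻¹ by simp only [commutatorElement_def]; group]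
    exact (mem_normalizer_iff.1 (hn (inv_mem ha.1)) _).1 (inv_mem ha.2)

/-- a pairing into a group of order two -/
theorem pairing_le {W A M N₁ : Subgroup G} (hW : Cfsg.IsElementaryAbelian 2 W) (hN : N₁ ≤ W)
    (htwo : ∀ x ∈ N₁, ∀ y ∈ N₁, x ∉ M → y ∉ M → x * y ∈ M)
    (hAN : ∀ a ∈ A, ∀ x ∈ N₁, a * x = x * a) (hc : ∀ w ∈ W, ∀ a ∈ A, ⁅w, a⁆ ∈ N₁)
    {L : Subgroup G} (hL : ∀ w ∈ W, (∀ a ∈ A, ⁅w, a⁆ ∈ M) → w ∈ L) :
    L.relIndex W ≤ (centralizer (W : Set G)).relIndex A := by
  classical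
  have hWc : ∀ w ∈ W, ∀ v ∈ W, w * v = v * w := fun w hw v hv => Cfsg.Lib.ElemToolkit.comm_of hW.1 hw hv
  have hleft : ∀ w ∈ W, ∀ v ∈ W, ∀ a ∈ A, ⁅w * v, a⁆ = ⁅v, a⁆ * ⁅w, a⁆ := fun w hw v hv a ha => by
    rw [show ⁅w * v, a⁆ = w * ⁅v, a⁆ * w⁻¹ * ⁅w, a⁆ by simp only [commutatorElement_def]; group,
      hWc w hw _ (hN (hc v hv a ha)), mul_inv_cancel_right]
  have hright : ∀ w ∈ W, ∀ a ∈ A, ∀ b ∈ A, ⁅w, a * b⁆ = ⁅w, a⁆ * ⁅w, b⁆ := fun w hw a ha b hb => by
    rw [show ⁅w, a * b⁆ = ⁅w, a⁆ * (a * ⁅w, b⁆ * a⁻¹) by simp only [commutatorElement_def]; group,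
      hAN a ha _ (hc w hw b hb), mul_inv_cancel_right]
  let LB : Subgroup G → Subgroup G := fun B =>
    { carrier := {w | w ∈ W ∧ ∀ a ∈ B, a ∈ A → ⁅w, a⁆ ∈ M}
      one_mem' := ⟨one_mem _, fun a _ _ => by rw [commutatorElement_one_left]; exact one_mem _⟩
      mul_mem' := fun {w v} hw hv => ⟨mul_mem hw.1 hv.1, fun a ha haA => by
        rw [hleft w hw.1 v hv.1 a haA]; exact mul_mem (hv.2 a ha haA) (hw.2 a ha haA)⟩
      inv_mem' := fun {w} hw => by
        have e : w⁻¹ = w := inv_eq_of_mul_eq_one_right (by rw [← pow_two]; exact hW.2 w hw.1)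
        rw [e]; exact hw }
  set C := A ⊓ centralizer (W : Set G)
  have key : ∀ B : Subgroup G, C ≤ B → B ≤ A → (LB B).relIndex W ≤ (centralizer (W : Set G)).relIndex B := by
    intro B
    induction hn : Nat.card B using Nat.strong_induction_on generalizing B with
    | _ n ih =>
      subst hn
      intro hCB hBA
      by_cases hBC : B ≤ C
      · refine le_trans (le_of_eq ?_) (Nat.pos_of_ne_zero FiniteIndex.index_ne_zero)
        refine relIndex_eq_one.2 fun w hw => ⟨hw, fun a ha _ => ?_⟩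
        rw [commutatorElement_eq_one_iff_mul_comm.2 (mem_centralizer_iff.1 (hBC ha).2 w hw)]
        exact one_mem _
      obtain ⟨B', ⟨hCB', hB'⟩, hmax⟩ := Set.exists_max_image
        {X : Subgroup G | C ≤ X ∧ X < B} (fun X => Nat.card X) (Set.toFinite _)
        ⟨C, le_rfl, lt_of_le_not_ge hCB hBC⟩
      obtain ⟨a, haB, haB'⟩ := SetLike.exists_of_lt hB'
      have hsup : B' ⊔ zpowers a = B := by
        refine ((sup_le hB'.le (zpowers_le.2 haB)).lt_or_eq.resolve_left fun hlt => ?_)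
        have h1 := hmax (B' ⊔ zpowers a) ⟨hCB'.trans le_sup_left, hlt⟩
        exact haB' ((eq_of_le_of_card_ge le_sup_left h1).ge (mem_sup_right (mem_zpowers a)))
      have hlt : Nat.card B' < Nat.card B := lt_of_not_ge fun h => hB'.ne (eq_of_le_of_card_ge hB'.le h)
      have h1 := ih _ hlt B' rfl hCB' (hB'.le.trans hBA)
      let La : Subgroup G :=
        { carrier := {w | w ∈ W ∧ ⁅w, a⁆ ∈ M}
          one_mem' := ⟨one_mem _, by rw [commutatorElement_one_left]; exact one_mem _⟩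
          mul_mem' := fun {w v} hw hv => ⟨mul_mem hw.1 hv.1, by
            rw [hleft w hw.1 v hv.1 a (hBA haB)]; exact mul_mem hv.2 hw.2⟩
          inv_mem' := fun {w} hw => by
            have e : w⁻¹ = w := inv_eq_of_mul_eq_one_right (by rw [← pow_two]; exact hW.2 w hw.1)
            rw [e]; exact hw }
      have hLa : La.relIndex W ≤ 2 := relIndex_le_two fun x hx y hy hx' hy' => ⟨mul_mem hx hy, by
        rw [hleft x hx y hy a (hBA haB)]
        exact htwo _ (hc y hy a (hBA haB)) _ (hc x hx a (hBA haB)) (fun h => hy' ⟨hy, h⟩) fun h => hx' ⟨hx, h⟩⟩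
      have hle : LB B' ⊓ La ≤ LB B := by
        rintro w ⟨hw1, hw2⟩
        refine ⟨hw1.1, fun b hb _ => ?_⟩
        let D : Subgroup G :=
          { carrier := {b | b ∈ A ∧ ⁅w, b⁆ ∈ M}
            one_mem' := ⟨one_mem _, by rw [commutatorElement_one_right]; exact one_mem _⟩
            mul_mem' := fun {b b'} hb hb' => ⟨mul_mem hb.1 hb'.1, by
              rw [hright w hw1.1 b hb.1 b' hb'.1]; exact mul_mem hb.2 hb'.2⟩
            inv_mem' := fun {b} hb => ⟨inv_mem hb.1, by
              have h := hright w hw1.1 b hb.1 b⁻¹ (inv_mem hb.1)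
              rw [mul_inv_cancel, commutatorElement_one_right] at h
              rw [show ⁅w, b⁻¹⁆ = ⁅w, b⁆⁻¹ from eq_inv_of_mul_eq_one_right h.symm]
              exact inv_mem hb.2⟩ }
        have hBD : B ≤ D := hsup ▸ sup_le (fun x hx => ⟨hBA (hB'.le hx), hw1.2 x hx (hBA (hB'.le hx))⟩)
          (zpowers_le.2 ⟨hBA haB, hw2.2⟩)
        exact (hBD hb).2
      have hstep : B'.relIndex B * (centralizer (W : Set G)).relIndex B' = (centralizer (W : Set G)).relIndex B := by
        have hle' : B ⊓ centralizer (W : Set G) ≤ B' := fun x hx => hCB' ⟨hBA hx.1, hx.2⟩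
        rw [← inf_relIndex_left B (centralizer (W : Set G)), ← relIndex_mul_relIndex _ B' B hle' hB'.le, mul_comm,
          ← inf_relIndex_left B' (centralizer (W : Set G))]
        congr 1
        rw [← inf_relIndex_right (B ⊓ centralizer (W : Set G)) B', inf_right_comm, inf_eq_right.2 hB'.le]
      have h2 : 2 ≤ B'.relIndex B := by
        rcases Nat.lt_or_ge (B'.relIndex B) 2 with h | h
        · exact absurd (relIndex_eq_one.1 (by
            have := Nat.pos_of_ne_zero (FiniteIndex.index_ne_zero (H := B'.subgroupOf B))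
            rw [relIndex] at h ⊢
            omega)) hB'.not_ge
        · exact h
      calc (LB B).relIndex W ≤ (LB B' ⊓ La).relIndex W := relIndex_le_of_le_left hle FiniteIndex.index_ne_zero
        _ ≤ (LB B').relIndex W * La.relIndex W := relIndex_inf_le
        _ ≤ (centralizer (W : Set G)).relIndex B' * 2 := Nat.mul_le_mul h1 hLa
        _ ≤ _ := by rw [← hstep, mul_comm (B'.relIndex B)]; exact Nat.mul_le_mul_left _ h2
  refine le_trans ?_ (key A inf_le_left le_rfl)
  rw [← inf_relIndex_right L W]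
  exact relIndex_le_of_le_left (fun w hw => ⟨hL w hw.1 fun a ha => hw.2 a ha ha, hw.1⟩) FiniteIndex.index_ne_zero

/-- the moved part of the join -/
def nOf (H V : Subgroup G) : Subgroup G := ⁅wj H V, Cfsg.oddGenerated H⁆

/-- the fixed part of the join -/
def wcOf (H V : Subgroup G) : Subgroup G := wj H V ⊓ centralizer (Cfsg.oddGenerated H : Set G)

namespace CaseII

variable {T : Sylow 2 G} {M₀ H K V : Subgroup G} (c : CaseII T M₀ H K V)
include c

theorem n_le : nOf H V ≤ wj H V :=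
  commutator_le_left_of_normalize ((oddGenerated_le H).trans (le_normalizer_wj H V))

theorem H_n : H ≤ normalizer (nOf H V : Set G) := fun h hh => mem_normalizer_of_cj (by
  rw [nOf, cj_commutator, cj_of_mem_normalizer (le_normalizer_wj H V hh),
    cj_of_mem_normalizer (le_normalizer_oddGenerated H hh)])

theorem H_wc : H ≤ normalizer (wcOf H V : Set G) := fun h hh => mem_normalizer_of_cj (by
  rw [wcOf, cj_inf, cj_centralizer, cj_of_mem_normalizer (le_normalizer_wj H V hh),
    cj_of_mem_normalizer (le_normalizer_oddGenerated H hh)])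

theorem moved_W : ¬ ⁅wj H V, Cfsg.oddGenerated H⁆ ≤ ⊥ := fun h =>
  c.toSetup.odd_not_le <| le_trans (le_inf (oddGenerated_le H)
    ((le_centralizer_iff.1 (commutator_eq_bot_iff_le_centralizer.1 (le_bot_iff.1 h))).trans
      (centralizer_le (le_wj H V)))) c.toSetup.CV

theorem n_moved : ¬ ⁅nOf H V, Cfsg.oddGenerated H⁆ ≤ ⊥ := fun h =>
  c.moved_W (c.moved_trans le_rfl (le_normalizer_wj H V) (normalizer_eq_top (H := (⊥ : Subgroup G)) ▸ le_top)
    le_rfl h)

end CaseII

end Cfsg.Lib.Qrc
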