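import Cfsg.Agent.QTKE.Qrc.CaseI

/-!
The subgroup `V` inside the core of `H`: a critical translate and the first inequality.
-/

set_option autoImplicit false
set_option linter.unusedSectionVars false
set_option linter.style.haveILetI false

namespace Cfsg.Lib.Qrc

open Subgroup
open Cfsg.Lib.FFSLTwo (cj mem_cj)
open Cfsg.Lib.FFModule (conj_mem_cj cj_mul cj_one cj_inv_cj cj_cj_inv card_cj)
open scoped commutatorElement

universe u

variable {G : Type u} [Group G] [Finite G]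

/-- the join of the conjugates of `V` under `H` -/
def wj (H V : Subgroup G) : Subgroup G := ⨆ h : H, cj (h : G) V

theorem cj_le_wj {H V : Subgroup G} {h : G} (hh : h ∈ H) : cj h V ≤ wj H V :=
  le_iSup (fun h : H => cj (h : G) V) ⟨h, hh⟩

theorem le_wj (H V : Subgroup G) : V ≤ wj H V := (cj_one V).ge.trans (cj_le_wj (one_mem H))

theorem le_normalizer_wj (H V : Subgroup G) : H ≤ normalizer (wj H V : Set G) :=
  le_normalizer_conjJoin V le_rfl

/-- quadratic action on an elementary group induces an elementary group -/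
theorem induces_of_quad {B V : Subgroup G} (hV : Cfsg.IsElementaryAbelian 2 V) (hB : B ≤ normalizer (V : Set G))
    (hne : ¬ B ≤ centralizer (V : Set G)) (hq : ⁅⁅V, B⁆, B⁆ = ⊥) : Cfsg.InducesElemAbelianTwoGroupOn B V := by
  have hfix : ∀ v ∈ V, ∀ b ∈ B, ∀ b' ∈ B, b' * ⁅v, b⁆ * b'⁻¹ = ⁅v, b⁆ := fun v hv b hb b' hb' => by
    rw [mem_centralizer_iff.1 (commutator_eq_bot_iff_le_centralizer.1 hq (commutator_mem_commutator hv hb)) b' hb',
      mul_inv_cancel_right]
  have hcV : ∀ v ∈ V, ∀ b ∈ B, ⁅v, b⁆ ∈ V := fun v hv b hb =>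
    commutator_le_left_of_normalize hB (commutator_mem_commutator hv hb)
  have hinv : ∀ v ∈ V, v⁻¹ = v := fun v hv => inv_eq_of_mul_eq_one_right (by rw [← pow_two]; exact hV.2 v hv)
  have hact : ∀ v ∈ V, ∀ b ∈ B, b * v * b⁻¹ = v * ⁅v, b⁆ := fun v hv b hb => by
    conv_lhs => rw [← hinv v hv]
    rw [commutatorElement_def, ← mul_assoc, ← mul_assoc, ← mul_assoc, show v * v = 1 by rw [← pow_two]; exact hV.2 v hv,
      one_mul]
  have htwo : ∀ v ∈ V, ∀ b ∈ B, ∀ b' ∈ B, (b * b') * v * (b * b')⁻¹ = v * ⁅v, b⁆ * ⁅v, b'⁆ := by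
    intro v hv b hb b' hb'
    calc (b * b') * v * (b * b')⁻¹ = (b * v * b⁻¹) * (b * ⁅v, b'⁆ * b⁻¹) := by
          rw [show (b * b') * v * (b * b')⁻¹ = b * (b' * v * b'⁻¹) * b⁻¹ by group, hact v hv b' hb']; group
      _ = _ := by rw [hact v hv b hb, hfix v hv b' hb' b hb]
  refine ⟨hne, fun b hb => mem_centralizer_iff.2 fun v hv => ?_, fun b hb b' hb' => mem_centralizer_iff.2 fun v hv => ?_⟩
  · have h := htwo v hv b hb b hb
    rw [mul_assoc v, show ⁅v, b⁆ * ⁅v, b⁆ = 1 by rw [← pow_two]; exact hV.2 _ (hcV v hv b hb), mul_one,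
      ← pow_two] at h
    exact (mul_inv_eq_iff_eq_mul.1 h).symm
  · obtain ⟨u, hu⟩ : ∃ u, u = (b' * b)⁻¹ * v * (b' * b) := ⟨_, rfl⟩
    have huV : u ∈ V := by
      refine (mem_normalizer_iff.1 (hB (mul_mem hb' hb)) u).2 ?_
      rw [show b' * b * u * (b' * b)⁻¹ = v by rw [hu]; group]
      exact hv
    have h : (b * b') * u * (b * b')⁻¹ = (b' * b) * u * (b' * b)⁻¹ := by
      rw [htwo u huV b hb b' hb', htwo u huV b' hb' b hb, mul_assoc, mul_assoc,
        Cfsg.Lib.ElemToolkit.comm_of hV.1 (hcV u huV b hb) (hcV u huV b' hb')]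
    have h1 : (b * b' * b⁻¹ * b'⁻¹) * v * (b * b' * b⁻¹ * b'⁻¹)⁻¹ = v := by
      rw [show (b * b' * b⁻¹ * b'⁻¹) * v * (b * b' * b⁻¹ * b'⁻¹)⁻¹ = (b * b') * u * (b * b')⁻¹ by
        rw [hu]; group, h, hu]
      group
    exact (mul_inv_eq_iff_eq_mul.1 h1).symm

namespace Setup

variable {T : Sylow 2 G} {M₀ H K V : Subgroup G} (d : Setup T M₀ H K V)
include d

/-- Sylow's theorem inside `H` -/
theorem exists_cj_T {S : Subgroup G} (hS : IsPGroup 2 S) (hSH : S ≤ H) :
    ∃ h ∈ H, S ≤ cj h (T : Subgroup G) := by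
  haveI : Fact (Nat.Prime 2) := ⟨Nat.prime_two⟩
  obtain ⟨P, hP⟩ := (hS.comap_subtype : IsPGroup 2 ↥(S.subgroupOf H)).exists_le_sylow
  obtain ⟨h, hh⟩ := MulAction.exists_smul_eq H (T.subtype d.hTH) P
  refine ⟨h, h.2, fun x hx => ?_⟩
  have h1 := hP (mem_subgroupOf.2 hx : (⟨x, hSH hx⟩ : H) ∈ S.subgroupOf H)
  rw [← hh, Sylow.coe_subgroup_smul, Subgroup.mem_pointwise_smul_iff_inv_smul_mem] at h1
  exact mem_cj.2 (by simpa [MulAut.smul_def, Sylow.coe_subtype, mem_subgroupOf, mul_assoc] using h1)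

/-- normal subgroups inside `K` meet `T` in the core -/
theorem normal_le {C : Subgroup G} (hCK : C ≤ K) (hn : H ≤ normalizer (C : Set G)) {S : Subgroup G}
    (hS : IsPGroup 2 S) (hSC : S ≤ C) : S ≤ Cfsg.pCoreOf 2 H := by
  haveI : Fact (Nat.Prime 2) := ⟨Nat.prime_two⟩
  have hCH : C ≤ H := hCK.trans d.hKH
  set D := (T : Subgroup G) ⊓ C with hD
  haveI : (C.subgroupOf H).Normal := normal_subgroupOf_of_le_normalizer hn
  obtain ⟨Q, hQ⟩ := Cfsg.Lib.FFSLTwo.card_sylow_inf (T.subtype d.hTH) (C.subgroupOf H)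
  have hfr := Sylow.normalizer_sup_eq_top Q
  rw [hQ] at hfr
  have hDn : H ≤ normalizer (D : Set G) := by
    by_contra hne
    refine d.hKne (le_antisymm d.hKH fun h hh => ?_)
    have hK : H ⊓ normalizer (D : Set G) ≤ K := d.hmax _ inf_le_left (le_inf d.hTH fun t ht => ?_)
      fun he => hne (he.ge.trans inf_le_right)
    swap
    · refine mem_normalizer_of_cj ?_
      rw [hD, cj_inf, cj_of_mem_normalizer (le_normalizer ht), cj_of_mem_normalizer (hn (d.hTH ht))]
    obtain ⟨a, ha, c, hc, hac⟩ := mem_sup_of_normal_right.1 (hfr.ge (mem_top (⟨h, hh⟩ : ↥H)))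
    have ha' : (a : G) ∈ normalizer (D : Set G) := by
      refine mem_normalizer_of_cj ?_
      have h1 := mem_normalizer_iff_map_conj_eq.1 ha
      have h2 := congrArg (Subgroup.map H.subtype) h1
      rw [Subgroup.map_map, show H.subtype.comp ((MulAut.conj a : ↥H ≃* ↥H) : ↥H →* ↥H) =
        (MulAut.conj (a : G)).toMonoidHom.comp H.subtype from rfl, ← Subgroup.map_map] at h2
      rw [Sylow.coe_subtype, show (T : Subgroup G).subgroupOf H ⊓ C.subgroupOf H = ((T : Subgroup G) ⊓ C).subgroupOf H from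
        (Subgroup.comap_inf _ _ _).symm, subgroupOf_map_subtype, inf_eq_left.2 (inf_le_right.trans hCH)] at h2
      exact h2
    have : h = (a : G) * (c : G) := (congrArg Subtype.val hac).symm
    rw [this]
    exact mul_mem (hK (mem_inf.2 ⟨a.2, ha'⟩)) (hCK (mem_subgroupOf.1 hc))
  have hDQ : D ≤ Cfsg.pCoreOf 2 H :=
    Cfsg.Lib.Large.le_pCoreOf (inf_le_left.trans d.hTH) (T.2.to_le inf_le_left) hDn
  obtain ⟨h, hh, hSh⟩ := d.exists_cj_T hS (hSC.trans hCH)
  calc S ≤ cj h (T : Subgroup G) ⊓ C := le_inf hSh hSC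
    _ = cj h D := by rw [hD, cj_inf, cj_of_mem_normalizer (hn hh)]
    _ ≤ Cfsg.pCoreOf 2 H := cj_le_of_le hDQ (d.HQ hh)

/-- `R` contains the `2`-subgroups of `M₀` centralising `V` -/
theorem le_R {S : Subgroup G} (hS : IsPGroup 2 S) (hSM : S ≤ M₀) (hSC : S ≤ centralizer (V : Set G)) :
    S ≤ Cfsg.pCoreOf 2 M₀ := by
  haveI : Fact (Nat.Prime 2) := ⟨Nat.prime_two⟩
  obtain ⟨P, hP⟩ := (hS.comap_subtype : IsPGroup 2 ↥(S.subgroupOf M₀)).exists_le_sylow
  obtain ⟨m, hm⟩ := MulAction.exists_smul_eq M₀ (T.subtype d.hTM) P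
  intro x hx
  have h1 := hP (mem_subgroupOf.2 hx : (⟨x, hSM hx⟩ : M₀) ∈ S.subgroupOf M₀)
  rw [← hm, Sylow.coe_subgroup_smul, Subgroup.mem_pointwise_smul_iff_inv_smul_mem] at h1
  have hxT : x ∈ cj (m : G) (T : Subgroup G) :=
    mem_cj.2 (by simpa [MulAut.smul_def, Sylow.coe_subtype, mem_subgroupOf, mul_assoc] using h1)
  have h2 : x ∈ cj (m : G) ((T : Subgroup G) ⊓ centralizer (V : Set G)) := by
    rw [cj_inf, cj_centralizer, cj_of_mem_normalizer (d.hMV m.2)]
    exact mem_inf.2 ⟨hxT, hSC hx⟩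
  rw [← d.hR, cj_of_mem_normalizer (d.MR m.2)] at h2
  exact h2

theorem commute_conj_R {x : G} (h₁ : cj x V ≤ M₀) (h₂ : V ≤ cj x M₀) : cj x V ≤ Cfsg.pCoreOf 2 M₀ :=
  d.le_R ((isPGroup_elem d.hV).map _) h₁ (d.commute_conj h₁ h₂)

end Setup

/-- the products of `k + 1` elements of `M₀` separated by elements of `H` -/
def pathSet (M₀ H : Subgroup G) : ℕ → Set G
  | 0 => M₀
  | k + 1 => {x | ∃ y ∈ pathSet M₀ H k, ∃ h ∈ H, ∃ m ∈ M₀, y * h * m = x}

theorem mem_pathSet_succ {M₀ H : Subgroup G} {k : ℕ} {y h m : G} (hy : y ∈ pathSet M₀ H k) (hh : h ∈ H)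
    (hm : m ∈ M₀) : y * h * m ∈ pathSet M₀ H (k + 1) := ⟨y, hy, h, hh, m, hm, rfl⟩

theorem pathSet_left {M₀ H : Subgroup G} {k : ℕ} : ∀ {y h m : G}, y ∈ pathSet M₀ H k → h ∈ H → m ∈ M₀ →
    m * h * y ∈ pathSet M₀ H (k + 1) := by
  induction k with
  | zero => exact fun hy hh hm => ⟨_, hm, _, hh, _, hy, rfl⟩
  | succ k ih =>
    rintro y h m ⟨y', hy', h', hh', m', hm', rfl⟩ hh hm
    exact ⟨_, ih hy' hh hm, h', hh', m', hm', by group⟩

theorem pathSet_inv {M₀ H : Subgroup G} {k : ℕ} : ∀ {x : G}, x ∈ pathSet M₀ H k → x⁻¹ ∈ pathSet M₀ H k := by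
  induction k with
  | zero => exact fun hx => M₀.inv_mem hx
  | succ k ih =>
    rintro x ⟨y, hy, h, hh, m, hm, rfl⟩
    rw [_root_.mul_inv_rev, _root_.mul_inv_rev, ← mul_assoc]
    exact pathSet_left (ih hy) (inv_mem hh) (inv_mem hm)

theorem pathSet_mul {M₀ H : Subgroup G} {k : ℕ} : ∀ {l : ℕ} {x y : G}, x ∈ pathSet M₀ H k →
    y ∈ pathSet M₀ H l → x * y ∈ pathSet M₀ H (k + l) := by
  intro l
  induction l with
  | zero =>
    intro x y hx hy
    cases k with
    | zero => exact M₀.mul_mem hx hy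
    | succ k =>
      obtain ⟨y', hy', h', hh', m', hm', rfl⟩ := hx
      exact ⟨y', hy', h', hh', m' * y, M₀.mul_mem hm' hy, by group⟩
  | succ l ih =>
    rintro x _ hx ⟨y', hy', h', hh', m', hm', rfl⟩
    exact ⟨_, ih hx hy', h', hh', m', hm', by group⟩

/-- the second case -/
structure CaseII (T : Sylow 2 G) (M₀ H K V : Subgroup G) : Prop extends Setup T M₀ H K V where
  hVQ : V ≤ Cfsg.pCoreOf 2 H
  hWR : ∀ h ∈ H, cj h V ≤ Cfsg.pCoreOf 2 M₀

namespace Setup

variable {T : Sylow 2 G} {M₀ H K V : Subgroup G} (d : Setup T M₀ H K V)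
include d

theorem path_step {k : ℕ} (hA : ∀ x ∈ pathSet M₀ H k, cj x V ≤ Cfsg.pCoreOf 2 H) {g : G}
    (hg : g ∈ pathSet M₀ H (k + 1)) : cj g V ≤ Cfsg.pCoreOf 2 M₀ := by
  obtain ⟨y, hy, h, hh, m, hm, he⟩ := pathSet_inv hg
  have hge : g = m⁻¹ * (h⁻¹ * y⁻¹) := by rw [← inv_inv g, ← he]; group
  have hQM : Cfsg.pCoreOf 2 H ≤ M₀ := d.QT.trans d.hTM
  have hin : cj (y * h) V ≤ M₀ := by
    cases k with
    | zero =>
      rw [← cj_mul]
      refine cj_le_of_le ((cj_le_of_le ?_ (d.HQ hh)).trans hQM) (le_normalizer (show y ∈ M₀ from hy))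
      have h1 := hA 1 M₀.one_mem
      rwa [cj_one] at h1
    | succ j =>
      obtain ⟨y', hy', h', hh', m', hm', he'⟩ := pathSet_inv hy
      have hye : y = m'⁻¹ * h'⁻¹ * y'⁻¹ := by rw [← inv_inv y, ← he']; group
      have h1 : cj (y'⁻¹ * h) V ≤ Cfsg.pCoreOf 2 H := by
        refine hA _ ?_
        have := mem_pathSet_succ (pathSet_inv hy') hh M₀.one_mem
        rwa [mul_one] at this
      rw [hye, show m'⁻¹ * h'⁻¹ * y'⁻¹ * h = m'⁻¹ * (h'⁻¹ * (y'⁻¹ * h)) by group, ← cj_mul, ← cj_mul h'⁻¹]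
      exact cj_le_of_le ((cj_le_of_le h1 (d.HQ (inv_mem hh'))).trans hQM) (le_normalizer (inv_mem hm'))
  rw [hge, ← cj_mul]
  refine cj_le_of_le (d.commute_conj_R ?_ ?_) (d.MR (inv_mem hm))
  · rw [← cj_mul]
    exact (cj_le_of_le (hA _ (pathSet_inv hy)) (d.HQ (inv_mem hh))).trans hQM
  · have h2 := map_mono (f := (MulAut.conj (h⁻¹ * y⁻¹)).toMonoidHom) hin
    change cj (h⁻¹ * y⁻¹) (cj (y * h) V) ≤ cj (h⁻¹ * y⁻¹) M₀ at h2
    rwa [cj_mul, show h⁻¹ * y⁻¹ * (y * h) = 1 by group, cj_one] at h2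

theorem exists_critical (hVQ : V ≤ Cfsg.pCoreOf 2 H) :
    CaseII T M₀ H K V ∧ ∃ g : G, cj g (wj H V) ≤ (T : Subgroup G) ∧ cj g⁻¹ (wj H V) ≤ (T : Subgroup G) ∧
      ¬ cj g (wj H V) ≤ Cfsg.pCoreOf 2 H := by
  classical
  have h0 : ∀ x ∈ pathSet M₀ H 0, cj x V ≤ Cfsg.pCoreOf 2 H := fun x hx =>
    (cj_of_mem_normalizer (d.hMV hx)).le.trans hVQ
  have hWR : ∀ h ∈ H, cj h V ≤ Cfsg.pCoreOf 2 M₀ := fun h hh => d.path_step h0 (by
    have := mem_pathSet_succ (k := 0) (M₀ := M₀) M₀.one_mem hh M₀.one_mem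
    rwa [one_mul, mul_one] at this)
  refine ⟨⟨d, hVQ, hWR⟩, ?_⟩
  have hex : ∃ k, ¬ ∀ x ∈ pathSet M₀ H k, cj x V ≤ Cfsg.pCoreOf 2 H := by
    by_contra hall
    push Not at hall
    have hR : ∀ g ∈ M₀ ⊔ H, cj g V ≤ Cfsg.pCoreOf 2 M₀ := by
      intro g hg
      have hk : ∃ k, g ∈ pathSet M₀ H (k + 1) := by
        rw [sup_eq_closure] at hg
        induction hg using closure_induction with
        | mem x hx =>
          rcases hx with hx | hx
          · exact ⟨0, 1, M₀.one_mem, 1, H.one_mem, x, hx, by group⟩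
          · exact ⟨0, 1, M₀.one_mem, x, hx, 1, M₀.one_mem, by group⟩
        | one => exact ⟨0, 1, M₀.one_mem, 1, H.one_mem, 1, M₀.one_mem, by group⟩
        | mul x y _ _ hx hy =>
          obtain ⟨k, hk⟩ := hx
          obtain ⟨l, hl⟩ := hy
          refine ⟨k + 1 + l, ?_⟩
          have := pathSet_mul hk hl
          rwa [← add_assoc] at this
        | inv x _ hx =>
          obtain ⟨k, hk⟩ := hx
          exact ⟨k, pathSet_inv hk⟩
      obtain ⟨k, hk⟩ := hk
      exact d.path_step (hall k) hk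
    refine d.hn1 ⟨⨆ g : ↥(M₀ ⊔ H), cj (g : G) V, fun h => d.V_ne (le_bot_iff.1 ?_),
      iSup_le fun g => hR g g.2, le_normalizer_conjJoin V le_rfl⟩
    rw [← h]
    exact (cj_one V).ge.trans (le_iSup (fun g : ↥(M₀ ⊔ H) => cj (g : G) V) 1)
  obtain ⟨j, hj⟩ : ∃ j, Nat.find hex = j + 1 := by
    refine ⟨Nat.find hex - 1, (Nat.succ_pred_eq_of_pos (Nat.pos_of_ne_zero fun h => ?_)).symm⟩
    exact Nat.find_spec hex (h ▸ h0)
  have hA : ∀ x ∈ pathSet M₀ H j, cj x V ≤ Cfsg.pCoreOf 2 H :=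
    not_not.1 (Nat.find_min hex (hj ▸ Nat.lt_succ_self j))
  have hspec := Nat.find_spec hex
  rw [hj] at hspec
  push Not at hspec
  obtain ⟨_, ⟨y, hy, h, hh, m, hm, rfl⟩, hne⟩ := hspec
  have hW : ∀ x ∈ pathSet M₀ H j, cj x (wj H V) ≤ (T : Subgroup G) := fun x hx => by
    rw [wj, show cj x (⨆ h : H, cj (h : G) V) = ⨆ h : H, cj x (cj (h : G) V) from Subgroup.map_iSup _ _]
    refine iSup_le fun h' => ?_
    rw [cj_mul]
    refine (d.path_step hA ?_).trans d.RT
    have := mem_pathSet_succ hx h'.2 M₀.one_mem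
    rwa [mul_one] at this
  refine ⟨y, hW y hy, hW _ (pathSet_inv hy), fun hle => hne ?_⟩
  rw [← cj_mul, cj_of_mem_normalizer (d.hMV hm), ← cj_mul]
  exact (map_mono (cj_le_wj hh)).trans hle

end Setup

namespace CaseII

variable {T : Sylow 2 G} {M₀ H K V : Subgroup G} (c : CaseII T M₀ H K V)
include c

theorem W_le : wj H V ≤ Cfsg.pCoreOf 2 H :=
  iSup_le fun h => cj_le_of_le c.hVQ (c.toSetup.HQ h.2)

theorem W_le_H : wj H V ≤ H := c.W_le.trans (map_subtype_le _)

theorem W_el : Cfsg.IsElementaryAbelian 2 (wj H V) := by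
  have hcomm : ∀ a : H, ∀ b : H, cj (a : G) V ≤ centralizer (cj (b : G) V : Set G) := fun a b => by
    have h1 := (c.hWR _ (mul_mem (inv_mem b.2) a.2)).trans c.toSetup.RC
    have h2 := map_mono (f := (MulAut.conj (b : G)).toMonoidHom) h1
    change cj (b : G) (cj ((b : G)⁻¹ * a) V) ≤ cj (b : G) (centralizer (V : Set G)) at h2
    rwa [cj_mul, mul_inv_cancel_left, cj_centralizer] at h2
  have hab : wj H V ≤ centralizer (wj H V : Set G) := iSup_le fun a =>
    le_centralizer_iff.1 (iSup_le fun b => hcomm b a)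
  refine ⟨⟨⟨fun a b => Subtype.ext (mem_centralizer_iff.1 (hab b.2) a a.2)⟩⟩, fun a ha => ?_⟩
  have hle : wj H V ≤
      { carrier := {x | x ∈ wj H V ∧ x ^ 2 = 1}
        one_mem' := ⟨one_mem _, one_pow _⟩
        mul_mem' := fun {x y} hx hy => ⟨mul_mem hx.1 hy.1, by
          rw [(show Commute x y from mem_centralizer_iff.1 (hab hy.1) x hx.1).mul_pow, hx.2, hy.2, one_mul]⟩
        inv_mem' := fun {x} hx => ⟨inv_mem hx.1, by rw [inv_pow, hx.2, inv_one]⟩ } :=
    iSup_le fun k x hx => ⟨cj_le_wj k.2 hx, (Cfsg.Lib.FFModule.el_cj _ c.hV).2 x hx⟩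
  exact (hle ha).2

/-- a `2`-subgroup of `H` centralising the join lies in the core -/
theorem centralizing_le {S : Subgroup G} (hS : IsPGroup 2 S) (hSH : S ≤ H)
    (hSW : S ≤ centralizer (wj H V : Set G)) : S ≤ Cfsg.pCoreOf 2 H :=
  c.toSetup.normal_le (C := H ⊓ centralizer (wj H V : Set G))
    ((inf_le_inf_left _ (centralizer_le (le_wj H V))).trans c.toSetup.CV)
    (fun h hh => mem_normalizer_of_cj (by
      rw [cj_inf, cj_centralizer, cj_of_mem_normalizer (le_normalizer hh),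
        cj_of_mem_normalizer (le_normalizer_wj H V hh)]))
    hS (le_inf hSH hSW)

/-- quadratic action from inside the core has large index -/
theorem quad_bound {B : Subgroup G} (hB : B ≤ Cfsg.pCoreOf 2 H) (hq : ⁅⁅wj H V, B⁆, B⁆ = ⊥)
    (hne : ¬ B ≤ centralizer (wj H V : Set G)) :
    ((centralizer (wj H V : Set G)).relIndex B) ^ 2 < (centralizer (B : Set G)).relIndex (wj H V) := by
  induction hn : Nat.card B using Nat.strong_induction_on generalizing B with
  | _ n ih =>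
    subst hn
    set W := wj H V with hW
    obtain ⟨h, hh, hmove⟩ : ∃ h ∈ H, ¬ B ≤ centralizer (cj h V : Set G) := by
      by_contra hall
      push Not at hall
      exact hne (le_centralizer_iff.1 (iSup_le fun h => le_centralizer_iff.1 (hall h h.2)))
    set U := cj h V with hU
    have hUW : U ≤ W := cj_le_wj hh
    set B₁ := B ⊓ centralizer (U : Set G) with hB₁
    have hlt : Nat.card B₁ < Nat.card B := by
      refine lt_of_le_of_ne (Cfsg.Lib.ElemToolkit.card_le_card_of_le inf_le_left) fun he => hmove ?_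
      exact (eq_of_le_of_card_ge inf_le_left he.ge).ge.trans inf_le_right
    have hstep : ((centralizer (U : Set G)).relIndex B) ^ 2 < (centralizer (B : Set G)).relIndex U := by
      by_contra hcon
      push Not at hcon
      set B' := cj h⁻¹ B with hB'
      have hB'M : B' ≤ M₀ := (cj_le_of_le hB (c.toSetup.HQ (inv_mem hh))).trans (c.toSetup.QT.trans c.hTM)
      have hV' : cj h⁻¹ U = V := cj_inv_cj h V
      have hne' : ¬ B' ≤ centralizer (V : Set G) := fun hc => hmove <| by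
        have h1 := map_mono (f := (MulAut.conj h).toMonoidHom) hc
        change cj h B' ≤ cj h (centralizer (V : Set G)) at h1
        rwa [hB', cj_cj_inv, cj_centralizer] at h1
      have hq' : ⁅⁅V, B'⁆, B'⁆ = ⊥ := by
        refine le_bot_iff.1 ((commutator_mono (commutator_mono (le_wj H V) le_rfl) le_rfl).trans ?_)
        rw [hB', show wj H V = cj h⁻¹ W from (cj_of_mem_normalizer (le_normalizer_wj H V (inv_mem hh))).symm,
          ← cj_commutator, ← cj_commutator, hq, Cfsg.Lib.FFModule.cj_bot]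
      refine c.hn3 ⟨B', hB'M, induces_of_quad c.hV (hB'M.trans c.hMV) hne' hq', hq', ?_⟩
      rw [inf_relIndex_left, ← hV', hB', ← cj_centralizer, ← cj_centralizer, relIndex_cj, relIndex_cj]
      exact hcon
    have eW : (centralizer (B : Set G)).relIndex W =
        (centralizer (B : Set G)).relIndex (W ⊓ centralizer (B₁ : Set G)) *
          (centralizer (B₁ : Set G)).relIndex W := by
      have hle : W ⊓ centralizer (B : Set G) ≤ W ⊓ centralizer (B₁ : Set G) :=
        inf_le_inf_left _ (centralizer_le inf_le_left)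
      rw [← inf_relIndex_left W (centralizer (B : Set G)), ← relIndex_mul_relIndex _ _ W hle inf_le_left,
        inf_relIndex_left W (centralizer (B₁ : Set G))]
      congr 1
      rw [← inf_relIndex_left (W ⊓ centralizer (B₁ : Set G)) (centralizer (B : Set G)),
        inf_right_comm, inf_eq_left.2 (show W ⊓ centralizer (B : Set G) ≤ centralizer (B₁ : Set G) from
          inf_le_right.trans (centralizer_le (show B₁ ≤ B from inf_le_left)))]
    have eB : (centralizer (W : Set G)).relIndex B =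
        (centralizer (W : Set G)).relIndex B₁ * (centralizer (U : Set G)).relIndex B := by
      have hle : B ⊓ centralizer (W : Set G) ≤ B₁ := inf_le_inf_left _ (centralizer_le hUW)
      rw [← inf_relIndex_left B (centralizer (W : Set G)), ← relIndex_mul_relIndex _ B₁ B hle inf_le_left,
        hB₁, inf_relIndex_left B (centralizer (U : Set G))]
      congr 1
      rw [← inf_relIndex_left (B ⊓ centralizer (U : Set G)) (centralizer (W : Set G)), inf_right_comm,
        inf_eq_left.2 (show B ⊓ centralizer (W : Set G) ≤ centralizer (U : Set G) from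
          inf_le_right.trans (centralizer_le hUW))]
    have hU' : (centralizer (B : Set G)).relIndex U ≤
        (centralizer (B : Set G)).relIndex (W ⊓ centralizer (B₁ : Set G)) :=
      relIndex_le_right _ (le_inf hUW (le_centralizer_iff.1 inf_le_right))
    rw [eW, eB, mul_pow]
    by_cases hB₁W : B₁ ≤ centralizer (W : Set G)
    · rw [relIndex_eq_one.2 hB₁W, one_pow, one_mul]
      calc _ < _ := hstep
        _ ≤ _ := hU'
        _ ≤ _ := Nat.le_mul_of_pos_right _ (Nat.pos_of_ne_zero FiniteIndex.index_ne_zero)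
    · have h1 := ih _ hlt (inf_le_left.trans hB) (le_bot_iff.1 ((commutator_mono (commutator_mono le_rfl inf_le_left)
        inf_le_left).trans hq.le)) hB₁W rfl
      rw [mul_comm]
      exact Nat.mul_lt_mul_of_lt_of_lt (hstep.trans_le hU') h1

end CaseII

end Cfsg.Lib.Qrc
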