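import Mathlib.GroupTheory.PGroup
import Mathlib.GroupTheory.Sylow
import Mathlib.GroupTheory.Perm.Basic
import Mathlib.Data.ZMod.Basic
import Mathlib.Data.Fintype.Sum

/-!
A Sylow `2`-subgroup of an odd symmetric group on an invariant space of `0-1` functions: an involution moving it
in one dimension.
-/

set_option autoImplicit false
set_option linter.unusedSectionVars false
set_option linter.style.haveILetI false

namespace Cfsg.Lib.Qrc

open Subgroup

/-- `σ` is an involution moving `X` in exactly one dimension -/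
def OneMove {Ω : Type*} (X : AddSubgroup (Ω → ZMod 2)) (σ : Equiv.Perm Ω) : Prop :=
  σ * σ = 1 ∧ (∃ f ∈ X, f ∘ σ ≠ f) ∧
    ∀ f ∈ X, ∀ f' ∈ X, f ∘ σ ≠ f → f' ∘ σ ≠ f' → (f + f') ∘ σ = f + f'

theorem exists_wreath (n : ℕ) : ∀ (Ω : Type) [Fintype Ω], Fintype.card Ω = 2 ^ n →
    ∃ S : Subgroup (Equiv.Perm Ω), IsPGroup 2 S ∧ (∀ i j, ∃ σ ∈ S, σ i = j) ∧
      ∀ X : AddSubgroup (Ω → ZMod 2), (∀ σ ∈ S, ∀ f ∈ X, f ∘ σ ∈ X) →
        (∀ f ∈ X, ∀ i j, f i = f j) ∨ ∃ σ ∈ S, OneMove X σ := by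
  induction n with
  | zero =>
    intro Ω _ hΩ
    rw [pow_zero, Fintype.card_eq_one_iff] at hΩ
    obtain ⟨a, ha⟩ := hΩ
    exact ⟨⊥, IsPGroup.of_bot, fun i j => ⟨1, one_mem _, by rw [ha i, ha j]; rfl⟩,
      fun X _ => Or.inl fun f _ i j => by rw [ha i, ha j]⟩
  | succ n ih =>
    intro Ω _ hΩ
    obtain ⟨S', hS'p, hS't, hS'⟩ := ih (Fin (2 ^ n)) (Fintype.card_fin _)
    let e : Ω ≃ Fin (2 ^ n) ⊕ Fin (2 ^ n) := Fintype.equivOfCardEq (by
      rw [hΩ, Fintype.card_sum, Fintype.card_fin, pow_succ, mul_two])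
    let ψ : Equiv.Perm (Fin (2 ^ n)) × Equiv.Perm (Fin (2 ^ n)) →* Equiv.Perm Ω :=
      { toFun := fun p => e.trans ((Equiv.sumCongr p.1 p.2).trans e.symm)
        map_one' := by ext x; rcases h : e x with a | a <;> simp [h, e.symm_apply_eq]
        map_mul' := fun p q => by ext x; rcases h : e x with a | a <;> simp [h] }
    let w : Equiv.Perm Ω := e.trans ((Equiv.sumComm _ _).trans e.symm)
    have hψl : ∀ p x a, e x = Sum.inl a → ψ p x = e.symm (Sum.inl (p.1 a)) := fun p x a h => by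
      show e.symm (Equiv.sumCongr p.1 p.2 (e x)) = _
      rw [h]; rfl
    have hψr : ∀ p x a, e x = Sum.inr a → ψ p x = e.symm (Sum.inr (p.2 a)) := fun p x a h => by
      show e.symm (Equiv.sumCongr p.1 p.2 (e x)) = _
      rw [h]; rfl
    have hw : w * w = 1 := by
      ext x
      rcases h : e x with a | a <;> simp [w, Equiv.Perm.mul_apply, h, e.symm_apply_eq]
    set A := (S'.prod S').map ψ with hA
    have hAp : IsPGroup 2 A := by
      refine IsPGroup.map ?_ ψ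
      rintro ⟨⟨a, b⟩, ha, hb⟩
      obtain ⟨i, hi⟩ := hS'p ⟨a, ha⟩
      obtain ⟨j, hj⟩ := hS'p ⟨b, hb⟩
      refine ⟨i + j, Subtype.ext ?_⟩
      have hi' : a ^ 2 ^ i = 1 := congrArg Subtype.val hi
      have hj' : b ^ 2 ^ j = 1 := congrArg Subtype.val hj
      show (a, b) ^ 2 ^ (i + j) = 1
      refine Prod.ext ?_ ?_
      · show a ^ 2 ^ (i + j) = 1
        rw [pow_add, pow_mul, hi', one_pow]
      · show b ^ 2 ^ (i + j) = 1
        rw [pow_add, mul_comm, pow_mul, hj', one_pow]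
    have hwA : zpowers w ≤ normalizer (A : Set (Equiv.Perm Ω)) := by
      rw [zpowers_le]
      have key : ∀ p, p ∈ A → w * p * w⁻¹ ∈ A := by
        rintro _ ⟨⟨a, b⟩, ⟨ha, hb⟩, rfl⟩
        refine ⟨(b, a), ⟨hb, ha⟩, ?_⟩
        rw [show w⁻¹ = w from inv_eq_of_mul_eq_one_right hw]
        ext x
        rcases h : e x with c | c <;> simp [ψ, w, Equiv.Perm.mul_apply, h]
      rw [mem_normalizer_iff]
      intro p
      refine ⟨key p, fun hp => ?_⟩
      have h2 := key _ hp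
      rw [show w * (w * p * w⁻¹) * w⁻¹ = (w * w) * p * (w * w)⁻¹ by group, hw] at h2
      simpa using h2
    have hwp : IsPGroup 2 ↥(zpowers w) := by
      rintro ⟨_, k, rfl⟩
      refine ⟨1, Subtype.ext ?_⟩
      show (w ^ k) ^ (2 ^ 1) = 1
      rw [pow_one, pow_two, ← zpow_add, show k + k = 2 * k by ring, zpow_mul, zpow_two, hw, one_zpow]
    haveI : Fact (Nat.Prime 2) := ⟨Nat.prime_two⟩
    refine ⟨A ⊔ zpowers w, hAp.to_sup_of_normal_left' hwp hwA, ?_, fun X hX => ?_⟩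
    · have hsame : ∀ i a b, e i = Sum.inl a → ∃ σ ∈ A ⊔ zpowers w, σ i = e.symm (Sum.inl b) := by
        intro i a b h
        obtain ⟨σ, hσ, rfl⟩ := hS't a b
        exact ⟨ψ (σ, 1), mem_sup_left ⟨(σ, 1), ⟨hσ, one_mem _⟩, rfl⟩, hψl _ i a h⟩
      have hwl : ∀ a, w (e.symm (Sum.inl a)) = e.symm (Sum.inr a) := fun a => by simp [w]
      have hwr : ∀ a, w (e.symm (Sum.inr a)) = e.symm (Sum.inl a) := fun a => by simp [w]
      have htoL : ∀ i, ∃ σ ∈ A ⊔ zpowers w, ∃ a, σ i = e.symm (Sum.inl a) := by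
        intro i
        rcases h : e i with a | a
        · exact ⟨1, one_mem _, a, by rw [← h, e.symm_apply_apply]; rfl⟩
        · exact ⟨w, mem_sup_right (mem_zpowers w), a, by
            rw [← hwr a, ← h, e.symm_apply_apply]⟩
      intro i j
      obtain ⟨σ, hσ, a, ha⟩ := htoL i
      obtain ⟨τ, hτ, b, hb⟩ := htoL j
      obtain ⟨π, hπ, hπe⟩ := hsame (e.symm (Sum.inl a)) a b (e.apply_symm_apply _)
      refine ⟨τ⁻¹ * π * σ, mul_mem (mul_mem (inv_mem hτ) hπ) hσ, ?_⟩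
      rw [Equiv.Perm.mul_apply, Equiv.Perm.mul_apply, ha, hπe, ← hb, Equiv.Perm.inv_def, Equiv.symm_apply_apply]
    -- restrictions to the halves
    let resL : (Ω → ZMod 2) →+ (Fin (2 ^ n) → ZMod 2) :=
      AddMonoidHom.mk' (fun f a => f (e.symm (Sum.inl a))) fun _ _ => rfl
    let resR : (Ω → ZMod 2) →+ (Fin (2 ^ n) → ZMod 2) :=
      AddMonoidHom.mk' (fun f a => f (e.symm (Sum.inr a))) fun _ _ => rfl
    have hL : ∀ σ f, resL (f ∘ ψ (σ, 1)) = resL f ∘ σ ∧ resR (f ∘ ψ (σ, 1)) = resR f := fun σ f => by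
      constructor <;> funext a
      · show f (ψ (σ, 1) (e.symm (Sum.inl a))) = f (e.symm (Sum.inl (σ a)))
        rw [hψl _ _ a (e.apply_symm_apply _)]
      · show f (ψ (σ, 1) (e.symm (Sum.inr a))) = f (e.symm (Sum.inr a))
        rw [hψr _ _ a (e.apply_symm_apply _)]; rfl
    have hR : ∀ σ f, resR (f ∘ ψ (1, σ)) = resR f ∘ σ ∧ resL (f ∘ ψ (1, σ)) = resL f := fun σ f => by
      constructor <;> funext a
      · show f (ψ (1, σ) (e.symm (Sum.inr a))) = f (e.symm (Sum.inr (σ a)))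
        rw [hψr _ _ a (e.apply_symm_apply _)]
      · show f (ψ (1, σ) (e.symm (Sum.inl a))) = f (e.symm (Sum.inl a))
        rw [hψl _ _ a (e.apply_symm_apply _)]; rfl
    have hext : ∀ f f' : Ω → ZMod 2, resL f = resL f' → resR f = resR f' → f = f' := fun f f' h1 h2 => by
      funext x
      rcases h : e x with a | a
      · have := congrFun h1 a; simpa [resL, ← h] using this
      · have := congrFun h2 a; simpa [resR, ← h] using this
    -- lifting a mover of a half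
    have lift : ∀ (res : (Ω → ZMod 2) →+ (Fin (2 ^ n) → ZMod 2)) (inj : Equiv.Perm (Fin (2 ^ n)) → Equiv.Perm Ω),
        (∀ σ ∈ S', inj σ ∈ A ⊔ zpowers w) → (∀ σ τ, inj σ * inj τ = inj (σ * τ)) → inj 1 = 1 →
        (∀ σ f, res (f ∘ inj σ) = res f ∘ σ ∧ (f ∘ inj σ = f ↔ res f ∘ σ = res f)) →
        (∀ f ∈ X, ∀ a b, res f a = res f b) ∨ ∃ σ ∈ A ⊔ zpowers w, OneMove X σ := by
      intro res inj hmem hmul hone hres
      have hinv : ∀ σ ∈ S', ∀ f ∈ X.map res, f ∘ σ ∈ X.map res := by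
        rintro σ hσ _ ⟨f, hf, rfl⟩
        exact ⟨f ∘ inj σ, hX _ (hmem σ hσ) f hf, (hres σ f).1⟩
      rcases hS' (X.map res) hinv with hc | ⟨σ, hσ, hσ2, ⟨_, ⟨f, hf, rfl⟩, hmove⟩, hpair⟩
      · exact Or.inl fun f hf => hc (res f) ⟨f, hf, rfl⟩
      · refine Or.inr ⟨inj σ, hmem σ hσ, by rw [hmul, hσ2, hone],
          ⟨f, hf, fun h => hmove ((hres σ f).2.1 h)⟩, fun f hf f' hf' h h' => (hres σ _).2.2 ?_⟩
        rw [map_add]
        exact hpair _ ⟨f, hf, rfl⟩ _ ⟨f', hf', rfl⟩ (fun h0 => h ((hres σ f).2.2 h0))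
          (fun h0 => h' ((hres σ f').2.2 h0))
    rcases lift resL (fun σ => ψ (σ, 1)) (fun σ hσ => mem_sup_left ⟨(σ, 1), ⟨hσ, one_mem _⟩, rfl⟩)
      (fun σ τ => by rw [← map_mul]; simp) (map_one ψ) (fun σ f => ⟨(hL σ f).1, fun h => by
        rw [← (hL σ f).1, h], fun h => hext _ _ ((hL σ f).1.trans h) (hL σ f).2⟩) with hcL | h
    swap; · exact Or.inr h
    rcases lift resR (fun σ => ψ (1, σ)) (fun σ hσ => mem_sup_left ⟨(1, σ), ⟨one_mem _, hσ⟩, rfl⟩)
      (fun σ τ => by rw [← map_mul]; simp) (map_one ψ) (fun σ f => ⟨(hR σ f).1, fun h => by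
        rw [← (hR σ f).1, h], fun h => hext _ _ (hR σ f).2 ((hR σ f).1.trans h)⟩) with hcR | h
    swap; · exact Or.inr h
    -- both halves constant
    obtain ⟨a₀⟩ : Nonempty (Fin (2 ^ n)) := ⟨⟨0, by positivity⟩⟩
    have hwcomp : ∀ f : Ω → ZMod 2, resL (f ∘ w) = resR f ∧ resR (f ∘ w) = resL f := fun f => by
      constructor <;> funext a <;> simp [resL, resR, w]
    by_cases hall : ∀ f ∈ X, f (e.symm (Sum.inl a₀)) = f (e.symm (Sum.inr a₀))
    · refine Or.inl fun f hf => ?_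
      have hconst : ∀ x, f x = f (e.symm (Sum.inl a₀)) := fun x => by
        rcases h : e x with a | a
        · have := hcL f hf a a₀
          simpa [resL, ← h] using this
        · have := hcR f hf a a₀
          rw [hall f hf]
          simpa [resR, ← h] using this
      exact fun i j => (hconst i).trans (hconst j).symm
    push Not at hall
    obtain ⟨f₀, hf₀, hne₀⟩ := hall
    have hfix : ∀ f ∈ X, f ∘ w = f ↔ f (e.symm (Sum.inl a₀)) = f (e.symm (Sum.inr a₀)) := fun f hf => by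
      constructor
      · intro h
        have := congrFun h (e.symm (Sum.inl a₀))
        simpa [w] using this.symm
      · intro h
        refine hext _ _ ?_ ?_ <;> funext a
        · rw [(hwcomp f).1]
          exact (hcR f hf a a₀).trans (h.symm.trans (hcL f hf a₀ a))
        · rw [(hwcomp f).2]
          exact (hcL f hf a a₀).trans (h.trans (hcR f hf a₀ a))
    refine Or.inr ⟨w, mem_sup_right (mem_zpowers w), hw, ⟨f₀, hf₀, fun h => hne₀ ((hfix f₀ hf₀).1 h)⟩,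
      fun f hf f' hf' h h' => (hfix _ (X.add_mem hf hf')).2 ?_⟩
    have h1 := fun h0 => h ((hfix f hf).2 h0)
    have h1' := fun h0 => h' ((hfix f' hf').2 h0)
    have key : ∀ a b c d : ZMod 2, a ≠ b → c ≠ d → a + c = b + d := by decide
    exact key _ _ _ _ h1 h1'

/-- a maximal `2`-subgroup of the symmetric group of odd degree `2 ^ n + 1` -/
theorem exists_oneMove {n : ℕ} (hn : 1 ≤ n) (S : Subgroup (Equiv.Perm (Fin (2 ^ n + 1)))) (hS : IsPGroup 2 S)
    (hmax : ∀ R : Subgroup (Equiv.Perm (Fin (2 ^ n + 1))), IsPGroup 2 R → S ≤ R → R ≤ S)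
    (X : AddSubgroup (Fin (2 ^ n + 1) → ZMod 2)) (hX : ∀ σ ∈ S, ∀ f ∈ X, f ∘ σ ∈ X) :
    (∀ σ ∈ S, ∀ f ∈ X, f ∘ σ = f) ∨ ∃ σ ∈ S, OneMove X σ := by
  classical
  haveI : Fact (Nat.Prime 2) := ⟨Nat.prime_two⟩
  obtain ⟨S₀, hS₀p, hS₀t, hS₀⟩ := exists_wreath n (Fin (2 ^ n)) (Fintype.card_fin _)
  let e : Fin (2 ^ n + 1) ≃ Fin (2 ^ n) ⊕ Fin 1 := finSumFinEquiv.symm
  let ψ : Equiv.Perm (Fin (2 ^ n)) →* Equiv.Perm (Fin (2 ^ n + 1)) :=
    { toFun := fun p => e.trans ((Equiv.sumCongr p (Equiv.refl _)).trans e.symm)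
      map_one' := Equiv.ext fun x => by
        show e.symm (Equiv.sumCongr 1 (Equiv.refl _) (e x)) = x
        rw [show Equiv.sumCongr (1 : Equiv.Perm (Fin (2 ^ n))) (Equiv.refl (Fin 1)) = Equiv.refl _ from
          Equiv.sumCongr_refl, Equiv.refl_apply, e.symm_apply_apply]
      map_mul' := fun p q => by ext x; rcases h : e x with a | a <;> simp [h] }
  -- a conjugate of the small group lies in `S`
  obtain ⟨g, hg⟩ : ∃ g, (S₀.map ψ).map (MulAut.conj g).toMonoidHom ≤ S := by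
    obtain ⟨P, hP⟩ := IsPGroup.exists_le_sylow (hS₀p.map ψ)
    obtain ⟨P', hP'⟩ := hS.exists_le_sylow
    obtain ⟨g, hg⟩ := MulAction.exists_smul_eq (Equiv.Perm (Fin (2 ^ n + 1))) P P'
    refine ⟨g, le_trans ?_ (hmax P' P'.2 hP')⟩
    rw [← hg, Sylow.coe_subgroup_smul]
    exact map_mono hP
  let ι : Fin (2 ^ n) → Fin (2 ^ n + 1) := fun a => g (e.symm (Sum.inl a))
  let pt : Fin (2 ^ n + 1) := g (e.symm (Sum.inr 0))
  have hcase : ∀ i, i = pt ∨ ∃ a, i = ι a := fun i => by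
    rcases h : e (g⁻¹ i) with a | a
    · exact Or.inr ⟨a, by show i = g (e.symm (Sum.inl a)); rw [← h, e.symm_apply_apply]; simp⟩
    · exact Or.inl (by
        show i = g (e.symm (Sum.inr 0))
        rw [← Subsingleton.elim a 0, ← h, e.symm_apply_apply]; simp)
  have hmem : ∀ σ ∈ S₀, g * ψ σ * g⁻¹ ∈ S := fun σ hσ => hg (mem_map_of_mem _ (mem_map_of_mem _ hσ))
  have happ : ∀ σ, (∀ a, (g * ψ σ * g⁻¹) (ι a) = ι (σ a)) ∧ (g * ψ σ * g⁻¹) pt = pt := fun σ => by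
    constructor
    · intro a; simp [ι, ψ]
    · simp [pt, ψ]
  let res : (Fin (2 ^ n + 1) → ZMod 2) →+ (Fin (2 ^ n) → ZMod 2) := AddMonoidHom.mk' (fun f a => f (ι a)) fun _ _ => rfl
  have hres : ∀ (σ : Equiv.Perm (Fin (2 ^ n))) f, res (f ∘ (g * ψ σ * g⁻¹ : Equiv.Perm _)) = res f ∘ σ := fun σ f => by
    funext a
    show f ((g * ψ σ * g⁻¹) (ι a)) = f (ι (σ a))
    rw [(happ σ).1]
  have hfix : ∀ (σ : Equiv.Perm (Fin (2 ^ n))) f, res f ∘ σ = res f → f ∘ (g * ψ σ * g⁻¹ : Equiv.Perm _) = f := fun σ f h => by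
    funext i
    rcases hcase i with rfl | ⟨a, rfl⟩
    · show f ((g * ψ σ * g⁻¹) pt) = _
      rw [(happ σ).2]
    · show f ((g * ψ σ * g⁻¹) (ι a)) = _
      rw [(happ σ).1]
      exact congrFun h a
  have hinv : ∀ σ ∈ S₀, ∀ f ∈ X.map res, f ∘ σ ∈ X.map res := by
    rintro σ hσ _ ⟨f, hf, rfl⟩
    exact ⟨_, hX _ (hmem σ hσ) f hf, hres σ f⟩
  rcases hS₀ (X.map res) hinv with hc | ⟨σ, hσ, hσ2, ⟨_, ⟨f, hf, rfl⟩, hmove⟩, hpair⟩
  swap
  · refine Or.inr ⟨g * ψ σ * g⁻¹, hmem σ hσ, ?_, ⟨f, hf, fun h => hmove (by rw [← hres, h])⟩,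
      fun f hf f' hf' h h' => hfix σ _ ?_⟩
    · rw [show g * ψ σ * g⁻¹ * (g * ψ σ * g⁻¹) = g * (ψ σ * ψ σ) * g⁻¹ by group, ← map_mul, hσ2, map_one,
        mul_one, mul_inv_cancel]
    · rw [map_add]
      exact hpair _ ⟨f, hf, rfl⟩ _ ⟨f', hf', rfl⟩ (fun h0 => h (hfix σ f h0)) fun h0 => h' (hfix σ f' h0)
  -- the group fixes the special point
  have hpt : ∀ τ ∈ S, τ pt = pt := by
    haveI : Nontrivial (ZMod 2) := inferInstance
    obtain ⟨i, hi⟩ : ∃ i, ∀ τ ∈ S, τ i = i := by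
      obtain ⟨i, hi⟩ := hS.nonempty_fixed_point_of_prime_not_dvd_card (Fin (2 ^ n + 1)) (by
        rw [Nat.card_fin]
        intro hd
        have : 2 ∣ 2 ^ n := dvd_pow_self 2 (by omega)
        omega)
      exact ⟨i, fun τ hτ => hi ⟨τ, hτ⟩⟩
    intro τ hτ
    rcases hcase i with rfl | ⟨a, rfl⟩
    · exact hi τ hτ
    · exfalso
      · have h2 : 1 < 2 ^ n := Nat.one_lt_two_pow (by omega)
        obtain ⟨b, hb⟩ : ∃ b : Fin (2 ^ n), b ≠ a :=
          ⟨if (a : ℕ) = 0 then ⟨1, h2⟩ else ⟨0, by omega⟩, fun h => by split_ifs at h <;> simp [Fin.ext_iff] at h <;> omega⟩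
        obtain ⟨σ, hσ, hσa⟩ := hS₀t a b
        have := hi _ (hmem σ hσ)
        rw [(happ σ).1, hσa] at this
        exact hb (Sum.inl_injective (e.symm.injective (g.injective this)))
  refine Or.inl fun τ hτ f hf => funext fun i => ?_
  show f (τ i) = f i
  rcases hcase i with rfl | ⟨a, rfl⟩
  · rw [hpt τ hτ]
  · rcases hcase (τ (ι a)) with h | ⟨b, hb⟩
    · have := τ.injective (h.trans (hpt τ hτ).symm)
      exact absurd (e.symm.injective (g.injective this)) Sum.inl_ne_inr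
    · rw [hb]
      exact hc (res f) ⟨f, hf, rfl⟩ b a

end Cfsg.Lib.Qrc
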